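import Cfsg.Agent.Lib.Char.ProjExt
import Cfsg.Agent.Lib.Char.Degrees

/-!
# The multiplicity of an invariant constituent divides the index.
-/

set_option autoImplicit false
set_option linter.unusedSectionVars false
set_option linter.style.haveILetI false

open scoped ComplexConjugate TensorProduct
open Module

namespace Cfsg.Agent.Lib.Char

open Cfsg (classInner IsCharacter IsIrrCharacter IrrCharacter IsClassFunction indFun extendByZero
  charDegree)

universe u v w

section

variable {G : Type u} [Group G] {Q : Type v} [AddCommGroup Q] [Module ℂ Q]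

/-- The dimension of an irreducible projective representation divides the index of any subgroup
acting by scalars. -/
theorem finrank_dvd_of_projective [Finite G] [FiniteDimensional ℂ Q] [Nontrivial Q]
    (T : G → Module.End ℂ Q) (β : G → G → ℂ) (hβ : ∀ g h, β g h ≠ 0)
    (hT : ∀ g h v, T g (T h v) = β g h • T (g * h) v) (hT1 : ∀ v, T 1 v = v)
    (N : Subgroup G) (hN : ∀ n ∈ N, ∃ c : ℂ, ∀ v, T n v = c • v)
    (hirr : ∀ W : Submodule ℂ Q, (∀ g, ∀ v ∈ W, T g v ∈ W) → W = ⊥ ∨ W = ⊤) :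
    finrank ℂ Q ∣ N.index := by
  classical
  set e := finrank ℂ Q with he
  have hepos : 0 < e := finrank_pos
  have hsurj : ∀ g, Function.Surjective (T g) := fun g v => ⟨(β g g⁻¹)⁻¹ • T g⁻¹ v, by
    rw [map_smul, hT, mul_inv_cancel, hT1, smul_smul, inv_mul_cancel₀ (hβ _ _), one_smul]⟩
  have hbij : ∀ g, Function.Bijective (T g) := fun g =>
    ⟨LinearMap.injective_iff_surjective.mpr (hsurj g), hsurj g⟩
  let Te : G → (Q ≃ₗ[ℂ] Q) := fun g => LinearEquiv.ofBijective (T g) (hbij g)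
  have hTe : ∀ g v, Te g v = T g v := fun _ _ => rfl
  have hTet : ∀ g, (Te g).toLinearMap = T g := fun g => by
    ext v
    rfl
  have hdetne : ∀ g, LinearMap.det (T g) ≠ 0 := fun g => by
    rw [← hTet]
    exact (LinearEquiv.isUnit_det' (Te g)).ne_zero
  have hscal : ∀ g, ∃ c : ℂ, c ≠ 0 ∧ c ^ e * LinearMap.det (T g) = 1 := by
    intro g
    obtain ⟨c, hc⟩ := IsAlgClosed.exists_pow_nat_eq (LinearMap.det (T g))⁻¹ hepos
    refine ⟨c, ?_, by rw [hc, inv_mul_cancel₀ (hdetne g)]⟩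
    rintro rfl
    rw [zero_pow hepos.ne'] at hc
    exact inv_ne_zero (hdetne g) hc.symm
  choose cg hcg0 hcg using hscal
  let a : G → (Q ≃ₗ[ℂ] Q) := fun g => (LinearEquiv.smulOfNeZero ℂ Q (cg g) (hcg0 g)) * Te g
  have ha : ∀ g v, a g v = cg g • T g v := fun _ _ => rfl
  have hat : ∀ g, (a g).toLinearMap = cg g • (T g : Q →ₗ[ℂ] Q) := fun g => by
    ext v
    rfl
  have hinvapp : ∀ (b : Q ≃ₗ[ℂ] Q) (v : Q), b (b⁻¹ v) = v := by
    intro b v
    rw [← LinearEquiv.mul_apply, mul_inv_cancel]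
    rfl
  have hinvapp' : ∀ (b : Q ≃ₗ[ℂ] Q) (v : Q), b⁻¹ (b v) = v := by
    intro b v
    rw [← LinearEquiv.mul_apply, inv_mul_cancel]
    rfl
  have hdetmul : ∀ b b' : Q ≃ₗ[ℂ] Q, LinearMap.det (b * b').toLinearMap =
      LinearMap.det b.toLinearMap * LinearMap.det b'.toLinearMap := by
    intro b b'
    rw [← LinearMap.det_comp]
    rfl
  have hc_ne : ∀ (b : Q ≃ₗ[ℂ] Q) (c : ℂ) (w : Q → Q), (∀ v, b v = c • w v) → c ≠ 0 := by
    intro b c w hb hc
    obtain ⟨v, hv⟩ := exists_ne (0 : Q)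
    have := hb v
    rw [hc, zero_smul] at this
    exact hv (b.map_eq_zero_iff.mp this)
  -- the finite group
  let Gh : Subgroup (Q ≃ₗ[ℂ] Q) :=
    { carrier := {b | LinearMap.det b.toLinearMap = 1 ∧ ∃ (g : G) (c : ℂ), ∀ v, b v = c • T g v}
      mul_mem' := by
        rintro b b' ⟨h1, g, c, hb⟩ ⟨h1', g', c', hb'⟩
        refine ⟨by rw [hdetmul, h1, h1', one_mul], g * g', c * c' * β g g', fun v => ?_⟩
        rw [LinearEquiv.mul_apply, hb', map_smul, hb, hT, smul_smul, smul_smul]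
        congr 1
        ring
      one_mem' := ⟨by
          have : (1 : Q ≃ₗ[ℂ] Q).toLinearMap = LinearMap.id := rfl
          rw [this, LinearMap.det_id], 1, 1, fun v => by
          rw [hT1, one_smul]
          rfl⟩
      inv_mem' := by
        rintro b ⟨h1, g, c, hb⟩
        have hc0 := hc_ne b c (T g) hb
        refine ⟨?_, g⁻¹, c⁻¹ * (β g g⁻¹)⁻¹, fun v => ?_⟩
        · have h2 := hdetmul b⁻¹ b
          rw [inv_mul_cancel, h1, mul_one] at h2
          rw [← h2]
          have : (1 : Q ≃ₗ[ℂ] Q).toLinearMap = LinearMap.id := rfl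
          rw [this, LinearMap.det_id]
        · apply b.injective
          have hβ0 := hβ g g⁻¹
          rw [hinvapp, map_smul, hb, hT, mul_inv_cancel, hT1, smul_smul, smul_smul]
          rw [show c⁻¹ * (β g g⁻¹)⁻¹ * c * β g g⁻¹ = 1 by field_simp, one_smul] }
  have hmemGh : ∀ b : Q ≃ₗ[ℂ] Q, b ∈ Gh ↔
      LinearMap.det b.toLinearMap = 1 ∧ ∃ (g : G) (c : ℂ), ∀ v, b v = c • T g v := fun b => Iff.rfl
  have haGh : ∀ g, a g ∈ Gh := fun g => by
    refine ⟨?_, g, cg g, ha g⟩
    rw [hat, LinearMap.det_smul, hcg g]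
  -- finiteness
  haveI : Finite Gh := by
    let F : Set (Module.End ℂ Q) := ⋃ g : G,
      (fun c : ℂ => c • T g) '' {c : ℂ | c ^ e * LinearMap.det (T g) = 1}
    have hF : F.Finite := by
      refine Set.finite_iUnion fun g => Set.Finite.image _ ?_
      refine ((Polynomial.nthRoots e (LinearMap.det (T g))⁻¹).toFinset.finite_toSet).subset ?_
      intro c hc
      simp only [Set.mem_ofPred_eq] at hc
      simp only [Finset.mem_coe, Multiset.mem_toFinset]
      rw [Polynomial.mem_nthRoots hepos]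
      exact eq_inv_of_mul_eq_one_left hc
    haveI : Finite F := hF
    let m : Gh → F := fun b => ⟨(b.1 : Q ≃ₗ[ℂ] Q).toLinearMap, by
      obtain ⟨h1, g, c, hb⟩ := b.2
      refine Set.mem_iUnion.mpr ⟨g, c, ?_, ?_⟩
      · have h2 : (b.1 : Q ≃ₗ[ℂ] Q).toLinearMap = c • (T g : Q →ₗ[ℂ] Q) := by
          ext v
          exact hb v
        rw [h2, LinearMap.det_smul] at h1
        exact h1
      · ext v
        exact (hb v).symm⟩
    refine Finite.of_injective m fun b b' hm => ?_
    apply Subtype.ext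
    ext v
    have := congrArg (fun x : F => (x.1 : Module.End ℂ Q) v) hm
    exact this
  let ρh : Representation ℂ Gh Q := repOfEquivHom Gh.subtype
  have hρh : ρh.IsIrreducible := by
    rw [isIrreducible_iff]
    refine ⟨inferInstance, fun W hW => hirr W fun g v hv => ?_⟩
    have h1 := hW ⟨a g, haGh g⟩ v hv
    have h2 : ρh ⟨a g, haGh g⟩ v = cg g • T g v := ha g v
    rw [h2] at h1
    exact (Submodule.smul_mem_iff W (hcg0 g)).mp h1
  -- scalars
  let S : Subgroup Gh :=
    { carrier := {b | ∃ c : ℂ, ∀ v, b.1 v = c • v}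
      mul_mem' := by
        rintro b b' ⟨c, hb⟩ ⟨c', hb'⟩
        refine ⟨c * c', fun v => ?_⟩
        show b.1 (b'.1 v) = _
        rw [hb', map_smul, hb, smul_smul, mul_comm]
      one_mem' := ⟨1, fun v => by rw [one_smul]; rfl⟩
      inv_mem' := by
        rintro b ⟨c, hb⟩
        have hc0 : c ≠ 0 := hc_ne b.1 c id hb
        refine ⟨c⁻¹, fun v => ?_⟩
        show (b.1)⁻¹ v = _
        apply b.1.injective
        rw [hinvapp, map_smul, hb, smul_smul, inv_mul_cancel₀ hc0, one_smul] }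
  have hmemS : ∀ b : Gh, b ∈ S ↔ ∃ c : ℂ, ∀ v, b.1 v = c • v := fun b => Iff.rfl
  have hdvd : finrank ℂ Q ∣ S.index := by
    refine finrank_dvd_index_of_scalar ρh hρh S fun b hb => ?_
    obtain ⟨c, hc⟩ := hb
    refine ⟨c, ?_⟩
    ext v
    exact hc v
  haveI hSn : S.Normal := by
    refine ⟨fun s hs b => ?_⟩
    obtain ⟨c, hc⟩ := hs
    refine ⟨c, fun v => ?_⟩
    show b.1 (s.1 ((b.1)⁻¹ v)) = c • v
    rw [hc, map_smul, hinvapp]
  -- the map from `G`
  have hq : ∀ (b b' : Gh) (c : ℂ), (∀ v, b'.1 v = c • b.1 v) →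
      (b : Gh ⧸ S) = (b' : Gh ⧸ S) := by
    intro b b' c hc
    refine QuotientGroup.eq.mpr ⟨c, fun v => ?_⟩
    show (b.1)⁻¹ (b'.1 v) = c • v
    rw [hc, map_smul, hinvapp']
  let φ : G →* Gh ⧸ S := MonoidHom.mk' (fun g => ((⟨a g, haGh g⟩ : Gh) : Gh ⧸ S)) (by
    intro g h
    rw [← QuotientGroup.mk_mul]
    refine hq _ _ (cg g * cg h * β g h * (cg (g * h))⁻¹) fun v => ?_
    show a g (a h v) = _ • a (g * h) v
    have hc0 := hcg0 (g * h)
    rw [ha, ha, ha, map_smul, hT, smul_smul, smul_smul, smul_smul]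
    congr 1
    field_simp)
  have hφ : ∀ g, φ g = ((⟨a g, haGh g⟩ : Gh) : Gh ⧸ S) := fun g => rfl
  have hφsurj : Function.Surjective φ := by
    intro y
    obtain ⟨b, rfl⟩ := QuotientGroup.mk_surjective y
    obtain ⟨h1, g, c, hb⟩ := b.2
    refine ⟨g, ?_⟩
    rw [hφ]
    refine hq _ _ (c * (cg g)⁻¹) fun v => ?_
    rw [hb]
    show _ = _ • a g v
    have hc0 := hcg0 g
    rw [ha, smul_smul]
    congr 1
    field_simp
  have hNker : N ≤ φ.ker := by
    intro n hn
    obtain ⟨c, hc⟩ := hN n hn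
    rw [MonoidHom.mem_ker, hφ, QuotientGroup.eq_one_iff]
    refine ⟨cg n * c, fun v => ?_⟩
    show a n v = _
    rw [ha, hc, smul_smul]
  have hidx : φ.ker.index = S.index := by
    rw [Subgroup.index_ker, MonoidHom.range_eq_top.mpr hφsurj, Subgroup.card_top]
    rfl
  rw [← hidx] at hdvd
  exact dvd_trans hdvd (Subgroup.index_dvd_of_le hNker)

end

section Mult

variable {G : Type u} [Group G] {U : Type v} [AddCommGroup U] [Module ℂ U]
  {V : Type w} [AddCommGroup V] [Module ℂ V]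

/-- Invariant subspaces of the multiplicity space. -/
theorem homT_irreducible [Finite G] [FiniteDimensional ℂ U] [FiniteDimensional ℂ V]
    {N : Subgroup G} [hN : N.Normal] {X : Representation ℂ N U} (E : ProjExt N X)
    (hX : X.IsIrreducible) (ρ : Representation ℂ G V) (hρ : ρ.IsIrreducible)
    (hdim : finrank ℂ V = finrank ℂ (homSpace N X ρ) * finrank ℂ U)
    (W : Submodule ℂ (homSpace N X ρ)) (hW : ∀ g, ∀ f ∈ W, E.homT ρ g f ∈ W) : W = ⊥ ∨ W = ⊤ := by
  classical
  have hU := nontrivial_of_irr hX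
  by_cases hbot : W = ⊥
  · exact Or.inl hbot
  right
  obtain ⟨f₀, hf₀, hf₀0⟩ := Submodule.exists_mem_ne_zero_of_ne_bot hbot
  -- the span of the images
  let Φ : W ⊗[ℂ] U →ₗ[ℂ] V :=
    TensorProduct.lift ((homSpace N X ρ).subtype ∘ₗ W.subtype)
  have hΦ : ∀ (f : W) (u : U), Φ (f ⊗ₜ[ℂ] u) = f.1.1 u := by
    intro f u
    simp [Φ]
  have hinvR : ∀ g, ∀ v ∈ LinearMap.range Φ, ρ g v ∈ LinearMap.range Φ := by
    intro g v hv
    obtain ⟨x, rfl⟩ := hv
    induction x using TensorProduct.induction_on with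
    | zero => simp
    | tmul f u =>
      refine ⟨(⟨E.homT ρ g f.1, hW g f.1 f.2⟩ : W) ⊗ₜ[ℂ] (E.P g u), ?_⟩
      rw [hΦ, hΦ]
      simp only [E.homT_apply, LinearEquiv.symm_apply_apply]
    | add x y hx hy =>
      rw [map_add, map_add]
      exact Submodule.add_mem _ hx hy
  have hR := ((isIrreducible_iff ρ).mp hρ).2 _ hinvR
  have hRtop : LinearMap.range Φ = ⊤ := by
    rcases hR with h0 | h0
    · exfalso
      apply hf₀0
      ext u
      have h1 : Φ ((⟨f₀, hf₀⟩ : W) ⊗ₜ[ℂ] u) ∈ LinearMap.range Φ := ⟨_, rfl⟩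
      rw [h0, hΦ, Submodule.mem_bot] at h1
      simpa using h1
    · exact h0
  have h1 : finrank ℂ V ≤ finrank ℂ (W ⊗[ℂ] U) := by
    have h2 := LinearMap.finrank_range_le Φ
    rwa [hRtop, finrank_top] at h2
  haveI : Module.Free ℂ W := Module.Free.of_divisionRing ℂ W
  rw [Module.finrank_tensorProduct, hdim] at h1
  have hd : 0 < finrank ℂ U := finrank_pos
  have h3 : finrank ℂ (homSpace N X ρ) ≤ finrank ℂ W := Nat.le_of_mul_le_mul_right h1 hd
  exact Submodule.eq_top_of_finrank_eq (le_antisymm (Submodule.finrank_le W) h3)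

/-- The multiplicity of an invariant constituent divides the index. -/
theorem mult_dvd_index_of_invariant [Finite G] (N : Subgroup G) [hN : N.Normal] [Fintype N]
    [Fintype G] {ϑ : N → ℂ} (hϑ : IsIrrCharacter N ϑ)
    (hinv : ∀ (g : G) (n : N), ϑ (nconj N g n) = ϑ n) {χ : G → ℂ} (hχ : IsIrrCharacter G χ)
    {e : ℕ} (hcon : classInner (fun n : N => χ n) ϑ = e) (he0 : e ≠ 0) : e ∣ N.index := by
  classical
  have hres := clifford_invariant hN hχ hϑ (fun g => by funext n; exact hinv g n)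
    (by rw [hcon]; exact_mod_cast he0)
  obtain ⟨d, X, hX, rfl⟩ := hϑ
  obtain ⟨c, ρ, hρ, rfl⟩ := hχ
  have hU := nontrivial_of_irr hX
  obtain ⟨E⟩ := exists_projExt N X hX hinv
  have hfin := finrank_homSpace X ρ
  rw [hcon] at hfin
  have hfin' : finrank ℂ (homSpace N X ρ) = e := by exact_mod_cast hfin
  have hdim : finrank ℂ (Fin c → ℂ) = finrank ℂ (homSpace N X ρ) * finrank ℂ (Fin d → ℂ) := by
    have h1 := congrFun hres 1
    simp only [hcon, Pi.smul_apply, smul_eq_mul] at h1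
    have h2 : ρ.character ((1 : N) : G) = finrank ℂ (Fin c → ℂ) := by
      simpa using Representation.char_one ρ
    have h3 : X.character (1 : N) = finrank ℂ (Fin d → ℂ) := Representation.char_one X
    rw [h2, h3] at h1
    rw [hfin']
    exact_mod_cast h1
  haveI hQ : Nontrivial (homSpace N X ρ) := by
    refine Module.nontrivial_of_finrank_pos (R := ℂ) ?_
    rw [hfin']
    exact Nat.pos_of_ne_zero he0
  have h := finrank_dvd_of_projective (fun g => E.homT ρ g) (fun g h => (E.α g h)⁻¹)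
    (fun g h => inv_ne_zero (E.α_ne g h)) (fun g h f => E.homT_mul ρ g h f)
    (fun f => E.homT_one ρ f) N (fun n hn => ⟨1, fun f => by
      rw [one_smul]
      exact E.homT_N ρ ⟨n, hn⟩ f⟩)
    (fun W hW => homT_irreducible E hX ρ hρ hdim W hW)
  rwa [hfin'] at h

end Mult

end Cfsg.Agent.Lib.Char
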