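import Cfsg.Agent.Lib.Char.MonoNormal
import Cfsg.Agent.Lib.Char.ProjDvd

/-!
# Maximal subgroups with irreducible restriction to a normal subgroup: homogeneous restrictions
cannot occur on all normal subgroups.
-/

set_option autoImplicit false
set_option linter.unusedSectionVars false
set_option linter.style.haveILetI false
set_option linter.unusedSimpArgs false
set_option linter.unnecessarySimpa false

open scoped ComplexConjugate

namespace Cfsg.Agent.Lib.Char

open Cfsg (classInner IsCharacter IsIrrCharacter IrrCharacter IsClassFunction indFun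
  extendByZero charDegree)

universe u

section Basic

variable {X : Type u} [Group X] [Fintype X]

/-- A character vanishing at `1` is zero. -/
theorem IsCharacter.eq_zero_of_one {f : X → ℂ} (hf : IsCharacter X f) (h1 : f 1 = 0) : f = 0 := by
  funext g
  have h2 := IsCharacter.norm_le' hf g
  rw [h1] at h2
  simp only [Complex.zero_re, norm_le_zero_iff] at h2
  simpa using h2

/-- A character whose restriction to a subgroup is irreducible is irreducible. -/
theorem isIrr_of_restrict_isIrr (L : Subgroup X) {ξ : X → ℂ} (hξ : IsCharacter X ξ)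
    (hL : IsIrrCharacter L (fun x : L => ξ x)) : IsIrrCharacter X ξ := by
  classical
  haveI : Fintype L := Fintype.ofFinite L
  have hne : ξ ≠ 0 := by
    rintro rfl
    exact map_one_ne_zero_of_irr hL rfl
  obtain ⟨χ₁, h₁, hc⟩ := exists_constituent hξ hne
  have hΔ := isCharacter_sub_of_constituent hξ h₁ hc
  by_cases hΔ0 : ξ - χ₁ = 0
  · rw [sub_eq_zero.mp hΔ0]
    exact h₁
  exfalso
  set γ : L → ℂ := fun x => ξ x with hγ
  have key : ∀ f g : X → ℂ, IsCharacter X f → IsCharacter X g → f ≠ 0 → f + g = ξ →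
      classInner (fun x : L => f x) γ ≠ 0 := by
    intro f g hf hg hf0 hfg
    have hfL := IsCharacter.restrict L hf
    have hgL := IsCharacter.restrict L hg
    have hfL0 : (fun x : L => f x) ≠ 0 := by
      intro h0
      apply hf0
      apply IsCharacter.eq_zero_of_one hf
      exact congrFun h0 1
    obtain ⟨τ, hτ, hτc⟩ := exists_constituent hfL hfL0
    have h2 : τ = γ := by
      by_contra hne2
      have h3 : classInner γ τ = 0 := classInner_irr_of_ne hL hτ (Ne.symm hne2)
      have h4 : γ = (fun x : L => f x) + fun x : L => g x := by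
        funext x
        show ξ x = f x + g x
        rw [← hfg]
        rfl
      rw [h4, classInner_add_left] at h3
      obtain ⟨a, ha⟩ := classInner_isCharacter_nat hfL (IsIrrCharacter.isCharacter hτ)
      obtain ⟨b, hb⟩ := classInner_isCharacter_nat hgL (IsIrrCharacter.isCharacter hτ)
      rw [ha] at hτc
      rw [ha, hb] at h3
      have h5 : a + b = 0 := by exact_mod_cast h3
      have h6 : a = 0 := by omega
      apply hτc
      rw [h6]
      simp
    rw [← h2]
    exact hτc
  have h1 := key χ₁ (ξ - χ₁) (IsIrrCharacter.isCharacter h₁) hΔ (by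
    rintro rfl
    exact map_one_ne_zero_of_irr h₁ rfl) (by simp)
  have h2 := key (ξ - χ₁) χ₁ hΔ (IsIrrCharacter.isCharacter h₁) hΔ0 (by simp)
  obtain ⟨a, ha⟩ := classInner_isCharacter_nat (IsCharacter.restrict L (IsIrrCharacter.isCharacter h₁))
    (IsIrrCharacter.isCharacter hL)
  obtain ⟨b, hb⟩ := classInner_isCharacter_nat (IsCharacter.restrict L hΔ)
    (IsIrrCharacter.isCharacter hL)
  have h3 : classInner γ γ = 1 := classInner_irr_self hL
  have h4 : γ = (fun x : L => χ₁ x) + fun x : L => (ξ - χ₁) x := by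
    funext x
    simp [hγ]
  have h5 : classInner γ γ = classInner (fun x : L => χ₁ x) γ +
      classInner (fun x : L => (ξ - χ₁) x) γ := by
    conv_lhs => rw [h4]
    rw [classInner_add_left, ← h4]
  rw [h3] at h5
  rw [ha] at h1 h5
  rw [hb] at h2 h5
  have h6 : 1 = a + b := by exact_mod_cast h5
  have ha0 : a ≠ 0 := by
    rintro rfl
    simp at h1
  have hb0 : b ≠ 0 := by
    rintro rfl
    simp at h2
  omega

end Basic

section Chief

variable {H : Type u} [Group H] [Finite H]

/-- Chief factors with solvable quotient have prime power order. -/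
theorem chief_index_prime_power' (N K : Subgroup H) [hN : N.Normal]
    [hK : K.Normal] (hsolv : Group.IsSolvable (H ⧸ K)) (hKN : K < N)
    (hchief : ∀ M : Subgroup H, M.Normal → K ≤ M → M ≤ N → M = K ∨ M = N) :
    ∃ p k : ℕ, p.Prime ∧ K.relIndex N = p ^ k := by
  classical
  let A : Subgroup (H ⧸ K) := N.map (QuotientGroup.mk' K)
  haveI hA : A.Normal := Subgroup.Normal.map hN _ (QuotientGroup.mk'_surjective K)
  have hA1 : A ≠ ⊥ := by
    intro h0
    apply not_le_of_gt hKN
    intro x hx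
    have h2 : (x : H ⧸ K) ∈ A := ⟨x, hx, rfl⟩
    rw [h0, Subgroup.mem_bot] at h2
    exact (QuotientGroup.eq_one_iff x).mp h2
  have hcomapA : A.comap (QuotientGroup.mk' K) = N := by
    apply le_antisymm
    · rintro x ⟨y, hy, hyx⟩
      have h1 : y⁻¹ * x ∈ K := QuotientGroup.eq.mp hyx
      have h2 := N.mul_mem hy (hKN.le h1)
      simpa using h2
    · intro x hx
      exact ⟨x, hx, rfl⟩
  have hmin : ∀ M : Subgroup (H ⧸ K), M.Normal → M ≤ A → M = ⊥ ∨ M = A := by
    intro M hM hMA
    have hK1 : K ≤ M.comap (QuotientGroup.mk' K) := by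
      intro x hx
      show (x : H ⧸ K) ∈ M
      rw [(QuotientGroup.eq_one_iff x).mpr hx]
      exact M.one_mem
    have hK2 : M.comap (QuotientGroup.mk' K) ≤ N := by
      rw [← hcomapA]
      exact Subgroup.comap_mono hMA
    have hnorm : (M.comap (QuotientGroup.mk' K)).Normal := Subgroup.Normal.comap hM _
    rcases hchief _ hnorm hK1 hK2 with h | h
    · left
      rw [eq_bot_iff]
      intro y hy
      obtain ⟨x, rfl⟩ := QuotientGroup.mk_surjective y
      have h2 : x ∈ M.comap (QuotientGroup.mk' K) := hy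
      rw [h] at h2
      exact (QuotientGroup.eq_one_iff x).mpr h2
    · right
      apply le_antisymm hMA
      rintro _ ⟨x, hx, rfl⟩
      rw [← h] at hx
      exact hx
  obtain ⟨_, p, hp, hexp⟩ := Cfsg.Agent.Lib.Core.minimal_normal_elementary A hA1 hmin
  haveI : Fact p.Prime := ⟨hp⟩
  have hAp : IsPGroup p A := by
    intro x
    refine ⟨1, ?_⟩
    apply Subtype.ext
    simpa using hexp x x.2
  obtain ⟨k, hk⟩ := IsPGroup.iff_card.mp hAp
  refine ⟨p, k, hp, ?_⟩
  rw [← hk]
  have h3 := Subgroup.relIndex_ker (QuotientGroup.mk' K) (K := N)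
  rw [QuotientGroup.ker_mk'] at h3
  exact h3

/-- Existence of a chief factor above a proper normal subgroup. -/
theorem exists_chief_above (K : Subgroup H) (hK : K.Normal) (htop : K ≠ ⊤) :
    ∃ M : Subgroup H, M.Normal ∧ K < M ∧
      ∀ M' : Subgroup H, M'.Normal → K ≤ M' → M' ≤ M → M' = K ∨ M' = M := by
  classical
  let S : Set (Subgroup H) := {M | M.Normal ∧ K < M}
  have hfin : S.Finite := Set.toFinite S
  have hne : S.Nonempty := ⟨⊤, inferInstance, lt_top_iff_ne_top.mpr htop⟩
  obtain ⟨M, hM, hmin⟩ := hfin.exists_minimal hne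
  refine ⟨M, hM.1, hM.2, fun M' hM' hKM' hM'M => ?_⟩
  by_cases heq : M' = K
  · exact Or.inl heq
  · right
    exact le_antisymm hM'M (hmin ⟨hM', lt_of_le_of_ne hKM' (Ne.symm heq)⟩ hM'M)

/-- A `p`-subgroup acting by conjugation on a normal subgroup of order divisible by `p` fixes a
nontrivial element. -/
theorem exists_fixed_of_pgroup_conj {p : ℕ} [hp : Fact p.Prime] (A T : Subgroup H) [hA : A.Normal]
    (hT : IsPGroup p T) (hpA : p ∣ Nat.card A) :
    ∃ a ∈ A, a ≠ 1 ∧ ∀ t ∈ T, t * a * t⁻¹ = a := by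
  classical
  letI : MulAction T A :=
    { smul := fun t a => ⟨(t : H) * a * (t : H)⁻¹, hA.conj_mem a a.2 t⟩
      one_smul := fun a => Subtype.ext (by
        show ((1 : T) : H) * a * ((1 : T) : H)⁻¹ = a
        simp)
      mul_smul := fun s t a => Subtype.ext (by
        show ((s * t : T) : H) * a * ((s * t : T) : H)⁻¹ =
          (s : H) * ((t : H) * a * (t : H)⁻¹) * (s : H)⁻¹
        simp [mul_assoc]) }
  have hsmul : ∀ (t : T) (a : A), ((t • a : A) : H) = (t : H) * a * (t : H)⁻¹ := fun _ _ => rfl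
  have hcard := IsPGroup.card_modEq_card_fixedPoints hT A
  by_contra hcon
  push Not at hcon
  let one : MulAction.fixedPoints T A := ⟨1, fun t => Subtype.ext (by
      rw [hsmul]
      simp)⟩
  have huniq : ∀ x : MulAction.fixedPoints T A, x = one := by
    intro x
    apply Subtype.ext
    apply Subtype.ext
    by_contra hne
    obtain ⟨t, ht, ht2⟩ := hcon x.1 x.1.2 hne
    apply ht2
    have := x.2 ⟨t, ht⟩
    exact congrArg Subtype.val this
  have hone : Nat.card (MulAction.fixedPoints T A) = 1 := by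
    rw [Nat.card_eq_one_iff_unique]
    exact ⟨⟨fun a b => (huniq a).trans (huniq b).symm⟩, ⟨one⟩⟩
  rw [hone] at hcard
  have h1 : Nat.card A % p = 1 % p := hcard
  have h2 : Nat.card A % p = 0 := Nat.mod_eq_zero_of_dvd hpA
  have h3 : 1 % p = 1 := Nat.mod_eq_of_lt hp.out.one_lt
  omega

end Chief

section Induced

variable {G : Type u} [Group G] [Fintype G]

/-- The norm of the restriction to a normal subgroup `D` of an induced function. -/
theorem classInner_restrict_indFun (H D E : Subgroup G) (hD : D.Normal) (hE : E = H ⊓ D)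
    [Fintype D] [Fintype E] (ϑ : H → ℂ) (hcard : Nat.card D = H.index * Nat.card E)
    (hEH : E ≤ H) :
    classInner (fun y : D => indFun H ϑ y) (fun y : D => indFun H ϑ y) =
      classInner (fun w : E => ϑ ⟨w, hEH w.2⟩) (fun w : E => indFun H ϑ w) := by
  classical
  set χ := indFun H ϑ with hχ
  have hcl : IsClassFunction G χ := indFun_isClassFunction H ϑ
  have h1 : ∀ y : D, χ y = (Nat.card H : ℂ)⁻¹ * ∑ x : G, extendByZero H ϑ (x⁻¹ * y * x) :=
    fun y => indFun_apply H ϑ y
  have h2 : ∀ x : G, ∑ y : D, extendByZero H ϑ (x⁻¹ * y * x) * conj (χ y) =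
      ∑ y : D, extendByZero H ϑ y * conj (χ y) := by
    intro x
    refine Fintype.sum_equiv (conjEquiv hD x⁻¹).toEquiv _ _ fun y => ?_
    have h3 : (((conjEquiv hD x⁻¹).toEquiv y : D) : G) = x⁻¹ * y * x := by
      show x⁻¹ * (y : G) * x⁻¹⁻¹ = _
      rw [inv_inv]
    rw [h3]
    have h4 := hcl (y : G) x⁻¹
    rw [inv_inv] at h4
    rw [h4]
  have h3 : ∑ y : D, χ y * conj (χ y) =
      (Nat.card H : ℂ)⁻¹ * ((Nat.card G : ℂ) * ∑ y : D, extendByZero H ϑ y * conj (χ y)) := by
    have h5 : ∑ y : D, χ y * conj (χ y) =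
        (Nat.card H : ℂ)⁻¹ * ∑ x : G, ∑ y : D, extendByZero H ϑ (x⁻¹ * y * x) * conj (χ y) := by
      simp only [Finset.mul_sum]
      rw [Finset.sum_comm]
      refine Finset.sum_congr rfl fun y _ => ?_
      generalize conj (χ y) = c
      rw [h1 y, Finset.mul_sum, Finset.sum_mul]
      refine Finset.sum_congr rfl fun x _ => ?_
      ring
    rw [h5]
    simp only [h2, Finset.sum_const, Finset.card_univ, nsmul_eq_mul, Fintype.card_eq_nat_card]
  have h4 : ∑ y : D, extendByZero H ϑ y * conj (χ y) =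
      ∑ w : E, ϑ ⟨w, hEH w.2⟩ * conj (χ w) := by
    have h0 : ∀ y : D, (y : G) ∉ H → extendByZero H ϑ y * conj (χ y) = 0 := by
      intro y hy
      rw [extendByZero_of_not_mem _ _ hy, zero_mul]
    rw [← Finset.sum_filter_of_ne (p := fun y : D => (y : G) ∈ H)
      (fun y _ hne => by
        by_contra hc
        exact hne (h0 y hc))]
    symm
    have hED : E ≤ D := by
      rw [hE]
      exact inf_le_right
    refine Finset.sum_bij (fun (w : E) _ => (⟨w, hED w.2⟩ : D)) ?_ ?_ ?_ ?_
    · intro w _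
      simpa using hEH w.2
    · intro a _ b _ hab
      exact Subtype.ext (congrArg (fun e : D => (e : G)) hab)
    · intro y hy
      have hy' : (y : G) ∈ H := by simpa using hy
      refine ⟨⟨y, ?_⟩, Finset.mem_univ _, rfl⟩
      rw [hE]
      exact ⟨hy', y.2⟩
    · intro w _
      show ϑ ⟨w, hEH w.2⟩ * conj (χ w) = extendByZero H ϑ w * conj (χ w)
      rw [extendByZero_of_mem _ _ (hEH w.2)]
  rw [Cfsg.Agent.Lib.Char.classInner_def, Cfsg.Agent.Lib.Char.classInner_def, h3, h4]
  have hcH := card_subgroup_ne_zero H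
  have hcE := card_subgroup_ne_zero E
  have hi : (H.index : ℂ) ≠ 0 := by
    have : H.index ≠ 0 := Subgroup.index_ne_zero_of_finite
    exact_mod_cast this
  have hG : (Nat.card G : ℂ) = (Nat.card H : ℂ) * (H.index : ℂ) := by
    rw [← Subgroup.card_mul_index H]
    push_cast
    ring
  rw [hcard, hG]
  push_cast
  field_simp

/-- The order of a normal subgroup with `H ⊔ D = ⊤`. -/
theorem card_normal_of_sup (H D : Subgroup G) [hD : D.Normal] (hsup : H ⊔ D = ⊤) :
    Nat.card D = H.index * Nat.card (H ⊓ D : Subgroup G) := by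
  have h1 : D.relIndex (H ⊔ D) = D.relIndex H := Subgroup.relIndex_sup_right H D
  rw [hsup, Subgroup.relIndex_top_right] at h1
  have h2 := Subgroup.card_mul_index D
  have h3 := Subgroup.card_mul_index H
  have h4 := Subgroup.relIndex_mul_relIndex (⊥ : Subgroup G) (H ⊓ D) H bot_le inf_le_left
  rw [Subgroup.relIndex_bot_left, Subgroup.relIndex_bot_left, Subgroup.inf_relIndex_left] at h4
  have hpos : 0 < D.relIndex H := by
    apply Nat.pos_of_ne_zero
    rw [Subgroup.relIndex]
    exact Subgroup.index_ne_zero_of_finite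
  apply Nat.eq_of_mul_eq_mul_right hpos
  rw [h1] at h2
  rw [h2, ← h3, ← h4]
  ring

/-- If the restriction of an irreducible induced character to a normal subgroup `K ≤ H` is
homogeneous and the restriction of `ϑ` to `K` is irreducible, it is `[G : H] ϑ`. -/
theorem indFun_restrict_of_homogeneous (H K : Subgroup G) (hKn : K.Normal) (hKH : K ≤ H) (ϑ : H → ℂ)
    (hϑ : IsIrrCharacter H ϑ) (hϑK : IsIrrCharacter K (fun x : K => ϑ ⟨x, hKH x.2⟩))
    (hind : IsIrrCharacter G (indFun H ϑ)) (φ₀ : K → ℂ) (e₀ : ℕ) (hφ₀ : IsIrrCharacter K φ₀)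
    (h : (fun x : K => indFun H ϑ x) = (e₀ : ℂ) • φ₀) :
    ∀ x : K, indFun H ϑ x = (H.index : ℂ) * ϑ ⟨x, hKH x.2⟩ := by
  classical
  haveI : Fintype H := Fintype.ofFinite H
  haveI : Fintype K := Fintype.ofFinite K
  set χ := indFun H ϑ with hχ
  have hχc := IsIrrCharacter.isCharacter hind
  have hcl := IsCharacter.isClassFunction hχc
  have hϑc := IsIrrCharacter.isCharacter hϑ
  have h1 : classInner χ χ = 1 := classInner_irr_self hind
  have h2 : classInner (fun x : H => χ x) ϑ = 1 := by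
    rw [← conj_classInner, ← frobenius_reciprocity H ϑ χ hcl, h1]
    simp
  have hΔ := isCharacter_sub_of_constituent (IsCharacter.restrict H hχc) hϑ
    (by rw [h2]; exact one_ne_zero)
  set ξ : K → ℂ := fun x => ϑ ⟨x, hKH x.2⟩ with hξ
  let inc : K →* H := Subgroup.inclusion hKH
  have hΔK : IsCharacter K (((fun x : H => χ x) - ϑ) ∘ inc) := IsCharacter.comp inc hΔ
  have h3 : (fun x : K => χ x) = ξ + ((fun x : H => χ x) - ϑ) ∘ inc := by
    funext x
    show χ x = ϑ ⟨x, hKH x.2⟩ + (χ x - ϑ ⟨x, hKH x.2⟩)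
    ring
  have h4 : classInner (fun x : K => χ x) ξ ≠ 0 := by
    rw [h3, classInner_add_left, classInner_irr_self hϑK]
    obtain ⟨b, hb⟩ := classInner_isCharacter_nat hΔK (IsIrrCharacter.isCharacter hϑK)
    rw [hb]
    norm_cast
    omega
  have h5 : φ₀ = ξ := by
    by_contra hne
    apply h4
    rw [h, classInner_smul_left, classInner_irr_of_ne hφ₀ hϑK hne, mul_zero]
  have h6 := congrFun h 1
  simp only [Pi.smul_apply, smul_eq_mul] at h6
  rw [h5] at h6
  have h7 : χ ((1 : K) : G) = (H.index : ℂ) * ϑ 1 := by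
    simpa using indFun_one H ϑ
  rw [h6] at h7
  have h8 : ξ 1 = ϑ 1 := rfl
  rw [h8] at h7
  have h9 : ϑ 1 ≠ 0 := map_one_ne_zero_of_irr hϑ
  have h10 : (e₀ : ℂ) = (H.index : ℂ) := mul_right_cancel₀ h9 h7
  intro x
  have h11 := congrFun h x
  simp only [Pi.smul_apply, smul_eq_mul] at h11
  rw [h11, h5, h10]

end Induced

section Main

variable {G : Type u} [Group G] [Fintype G]

theorem classInner_natCast_smul_right {X : Type u} [Group X] [Fintype X] (k : ℕ) (f g : X → ℂ) :
    classInner f ((k : ℂ) • g) = (k : ℂ) * classInner f g := by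
  simp only [Cfsg.Agent.Lib.Char.classInner_def, Pi.smul_apply, smul_eq_mul, map_mul,
    Complex.conj_natCast]
  rw [Finset.mul_sum, Finset.mul_sum, Finset.mul_sum]
  refine Finset.sum_congr rfl fun x _ => ?_
  ring

/-- Subtracting a constituent with its full multiplicity leaves a character. -/
theorem isCharacter_sub_nsmul {X : Type u} [Group X] [Fintype X] {χ : X → ℂ}
    (hχ : IsIrrCharacter X χ) (k : ℕ) : ∀ {γ : X → ℂ}, IsCharacter X γ → classInner γ χ = k →
    IsCharacter X (γ - (k : ℂ) • χ) := by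
  induction k with
  | zero =>
    intro γ hγ _
    simpa using hγ
  | succ k ih =>
    intro γ hγ h
    have hne : classInner γ χ ≠ 0 := by
      rw [h]
      exact_mod_cast Nat.succ_ne_zero k
    have h1 := isCharacter_sub_of_constituent hγ hχ hne
    have h2 : classInner (γ - χ) χ = k := by
      have h3 : classInner γ χ = classInner (γ - χ) χ + classInner χ χ := by
        rw [← classInner_add_left]
        simp
      rw [h, classInner_irr_self hχ] at h3
      push_cast at h3
      linear_combination -h3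
    have h4 := ih h1 h2
    convert h4 using 1
    funext x
    simp only [Pi.sub_apply, Pi.smul_apply, smul_eq_mul]
    push_cast
    ring

/-- The main contradiction. -/
theorem not_all_homogeneous (L H : Subgroup G) [hLn : L.Normal] (hLH : L ≤ H) (hmax : IsCoatom H)
    (hsolv : Group.IsSolvable (G ⧸ L)) (ϑ : H → ℂ) (hϑ : IsIrrCharacter H ϑ)
    (hϑL : IsIrrCharacter L (fun x : L => ϑ ⟨x, hLH x.2⟩))
    (hind : IsIrrCharacter G (indFun H ϑ))
    (hqp : ∀ M : Subgroup G, M.Normal → L ≤ M → ∃ (φ : M → ℂ) (e : ℕ), IsIrrCharacter M φ ∧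
      (fun m : M => indFun H ϑ m) = (e : ℂ) • φ) : False := by
  classical
  haveI : Fintype H := Fintype.ofFinite H
  set χ := indFun H ϑ with hχ
  have hχc := IsIrrCharacter.isCharacter hind
  have hcl := IsCharacter.isClassFunction hχc
  have hϑc := IsIrrCharacter.isCharacter hϑ
  set n := H.index with hn
  have hn1 : n ≠ 1 := by
    rw [hn]
    intro h
    exact hmax.1 (Subgroup.index_eq_one.mp h)
  have hn0' : n ≠ 0 := Subgroup.index_ne_zero_of_finite
  have hn0 : (n : ℂ) ≠ 0 := by exact_mod_cast hn0'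
  have hres : ∀ A : Subgroup G, L ≤ A → ∀ hA : A ≤ H,
      IsIrrCharacter A (fun x : A => ϑ ⟨x, hA x.2⟩) := by
    intro A hLA hA
    have hc : IsCharacter A (fun x : A => ϑ ⟨x, hA x.2⟩) :=
      IsCharacter.comp (Subgroup.inclusion hA) hϑc
    refine isIrr_of_restrict_isIrr (L.subgroupOf A) hc ?_
    exact isIrr_comp_equiv (Subgroup.subgroupOfEquivOfLe hLA) hϑL
  -- the core
  set K := H.normalCore with hKdef
  have hKn : K.Normal := Subgroup.normalCore_normal H
  have hKH : K ≤ H := H.normalCore_le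
  have hLK : L ≤ K := Subgroup.normal_le_normalCore.mpr hLH
  have hcore : ∀ A : Subgroup G, A.Normal → A ≤ H → A ≤ K := fun A hA hAH => by
    haveI := hA
    exact Subgroup.normal_le_normalCore.mpr hAH
  have hξirr := hres K hLK hKH
  obtain ⟨φ₀, e₀, hφ₀, h₀⟩ := hqp K hKn hLK
  have hχK := indFun_restrict_of_homogeneous H K hKn hKH ϑ hϑ hξirr hind φ₀ e₀ hφ₀ h₀
  haveI : Fintype K := Fintype.ofFinite K
  -- the case of a normal maximal subgroup
  have hHK : ¬ H ≤ K := by
    intro hHK
    have h1 : classInner χ χ = 1 := classInner_irr_self hind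
    have h2 : classInner χ χ = classInner ϑ (fun x : H => χ x) :=
      frobenius_reciprocity H ϑ χ hcl
    have h3 : (fun x : H => χ x) = (n : ℂ) • ϑ := by
      funext x
      exact hχK ⟨x, hHK x.2⟩
    rw [h3, classInner_natCast_smul_right, classInner_irr_self hϑ, mul_one] at h2
    rw [h1] at h2
    apply hn1
    exact_mod_cast h2.symm
  have hKtop : K ≠ ⊤ := by
    intro h
    apply hHK
    rw [h]
    exact le_top
  -- the chief factor `M / K`
  obtain ⟨M, hMn, hKM, hchiefM⟩ := exists_chief_above K hKn hKtop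
  haveI := hMn
  haveI := hKn
  have hcomm : ⁅M, M⁆ ≤ K := commutator_le_of_chief L M K hsolv hLK hKM hchiefM
  have hsolvK : Group.IsSolvable (G ⧸ K) :=
    Group.isSolvable_of_surjective
      (f := QuotientGroup.map L K (MonoidHom.id G) (by simpa using hLK)) (by
        intro q
        obtain ⟨x, rfl⟩ := QuotientGroup.mk_surjective q
        exact ⟨(x : G ⧸ L), rfl⟩)
  obtain ⟨p, c, hp, hpc⟩ := chief_index_prime_power' M K hsolvK hKM hchiefM
  haveI : Fact p.Prime := ⟨hp⟩
  have hMH : ¬ M ≤ H := fun h => absurd (hcore M hMn h) (not_le_of_gt hKM)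
  have hsupM : H ⊔ M = ⊤ :=
    hmax.2 _ (lt_of_le_of_ne le_sup_left (fun h => hMH (h ▸ le_sup_right)))
  have hdec : ∀ g : G, ∃ h ∈ H, ∃ m ∈ M, h * m = g := by
    intro g
    have h1 : g ∈ ((H ⊔ M : Subgroup G) : Set G) := by
      rw [hsupM]
      trivial
    rw [Subgroup.mul_normal] at h1
    obtain ⟨h, hh, m, hm, rfl⟩ := Set.mem_mul.mp h1
    exact ⟨h, hh, m, hm, rfl⟩
  have hcm : ∀ m ∈ M, ∀ m' ∈ M, m * m' * m⁻¹ * m'⁻¹ ∈ K := fun m hm m' hm' =>
    hcomm (Subgroup.commutator_mem_commutator hm hm')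
  have hinfn : (H ⊓ M).Normal := by
    refine ⟨fun x hx g => ?_⟩
    obtain ⟨h, hh, m, hm, rfl⟩ := hdec g
    have h1 : m * x * m⁻¹ * x⁻¹ ∈ K := hcm m hm x hx.2
    have h2 : m * x * m⁻¹ = (m * x * m⁻¹ * x⁻¹) * x := by group
    have h3 : m * x * m⁻¹ ∈ H := by
      rw [h2]
      exact H.mul_mem (hKH h1) hx.1
    have h4 : m * x * m⁻¹ ∈ M := hMn.conj_mem x hx.2 m
    have h5 : h * m * x * (h * m)⁻¹ = h * (m * x * m⁻¹) * h⁻¹ := by group
    rw [h5]
    exact ⟨H.mul_mem (H.mul_mem hh h3) (H.inv_mem hh), hMn.conj_mem _ h4 h⟩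
  have hHMK : H ⊓ M ≤ K := hcore _ hinfn inf_le_left
  have hK_eq : K = H ⊓ M := le_antisymm (le_inf hKH hKM.le) hHMK
  have hcardM : Nat.card M = n * Nat.card K := by
    have := card_normal_of_sup H M hsupM
    rw [← hK_eq] at this
    exact this
  haveI : Fintype M := Fintype.ofFinite M
  obtain ⟨φ, e, hφ, hχM⟩ := hqp M hMn (hLK.trans hKM.le)
  have hee : e ^ 2 = n := by
    have hA := classInner_restrict_indFun H M K hMn hK_eq ϑ hcardM hKH
    rw [← hχ] at hA
    have h1 : (fun w : K => χ w) = (n : ℂ) • (fun w : K => ϑ ⟨w, hKH w.2⟩) := by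
      funext x
      exact hχK x
    rw [h1, classInner_natCast_smul_right, classInner_irr_self hξirr, mul_one, hχM,
      classInner_natCast_smul_right, classInner_smul_left, classInner_irr_self hφ, mul_one] at hA
    have h2 : e * e = n := by exact_mod_cast hA
    rw [← h2]
    ring
  have hidxM : K.relIndex M = n := by
    have h1 := Subgroup.relIndex_mul_relIndex (⊥ : Subgroup G) K M bot_le hKM.le
    rw [Subgroup.relIndex_bot_left, Subgroup.relIndex_bot_left] at h1
    have hpos : 0 < Nat.card K := Nat.card_pos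
    apply Nat.eq_of_mul_eq_mul_left hpos
    rw [h1, hcardM]
    ring
  have hnp : n = p ^ c := by rw [← hidxM, hpc]
  have hc0 : c ≠ 0 := by
    rintro rfl
    exact hn1 (by simpa using hnp)
  have he0 : e ≠ 0 := by
    rintro rfl
    apply hn0'
    rw [← hee]
    simp
  -- the chief factor `E / K` of `H`
  let K' : Subgroup H := K.subgroupOf H
  haveI hK'n : K'.Normal := by
    refine ⟨fun x hx t => ?_⟩
    rw [Subgroup.mem_subgroupOf] at hx ⊢
    exact hKn.conj_mem x hx t
  have hK'top : K' ≠ ⊤ := by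
    intro h
    apply hHK
    intro x hx
    have h2 : (⟨x, hx⟩ : H) ∈ K' := by
      rw [h]
      trivial
    exact h2
  obtain ⟨E₀, hE₀n, hK'E₀, hchiefE⟩ := exists_chief_above K' hK'n hK'top
  haveI := hE₀n
  have hsolvH : Group.IsSolvable (H ⧸ K') := by
    let f : H →* G ⧸ K := (QuotientGroup.mk' K).comp H.subtype
    have hf : ∀ x ∈ K', f x = 1 := fun x hx =>
      (QuotientGroup.eq_one_iff (x : G)).mpr (Subgroup.mem_subgroupOf.mp hx)
    let f' : H ⧸ K' →* G ⧸ K := QuotientGroup.lift K' f hf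
    refine Group.isSolvable_of_isSolvable_injective (f := f') ?_
    rw [injective_iff_map_eq_one]
    intro q hq
    obtain ⟨x, rfl⟩ := QuotientGroup.mk_surjective q
    have h1 : f x = 1 := hq
    have h2 : (x : G) ∈ K := (QuotientGroup.eq_one_iff (x : G)).mp h1
    exact (QuotientGroup.eq_one_iff x).mpr (Subgroup.mem_subgroupOf.mpr h2)
  obtain ⟨q, b, hq, hqb⟩ := chief_index_prime_power' E₀ K' hsolvH hK'E₀ hchiefE
  let E : Subgroup G := E₀.map H.subtype
  have hEH : E ≤ H := Subgroup.map_subtype_le E₀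
  have hKE : K ≤ E := by
    intro x hx
    refine ⟨⟨x, hKH hx⟩, hK'E₀.le ?_, rfl⟩
    exact Subgroup.mem_subgroupOf.mpr hx
  have hEnorm : ∀ h ∈ H, ∀ x ∈ E, h * x * h⁻¹ ∈ E := by
    rintro h hh _ ⟨x, hx, rfl⟩
    exact ⟨⟨h, hh⟩ * x * ⟨h, hh⟩⁻¹, hE₀n.conj_mem x hx _, rfl⟩
  have hKEne : ¬ E ≤ K := by
    intro hle
    apply not_le_of_gt hK'E₀
    intro x hx
    exact Subgroup.mem_subgroupOf.mpr (hle ⟨x, hx, rfl⟩)
  have hK'map : K'.map H.subtype = K := by
    show (K.subgroupOf H).map H.subtype = K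
    rw [Subgroup.subgroupOf_map_subtype]
    exact inf_eq_left.mpr hKH
  have hidxE : K.relIndex E = q ^ b := by
    rw [← hqb, ← hK'map]
    exact Subgroup.relIndex_map_map_of_injective _ _ H.subtype_injective
  -- the primes are different
  have hqne : q ≠ p := by
    rintro rfl
    let mk : G →* G ⧸ K := QuotientGroup.mk' K
    have hmk : ∀ x : G, mk x = 1 ↔ x ∈ K := fun x => QuotientGroup.eq_one_iff x
    let A : Subgroup (G ⧸ K) := M.map mk
    let T : Subgroup (G ⧸ K) := E.map mk
    haveI hAn : A.Normal := Subgroup.Normal.map hMn _ (QuotientGroup.mk'_surjective K)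
    have hcardT : Nat.card T = q ^ b := by
      rw [← hidxE]
      have h3 := Subgroup.relIndex_ker (QuotientGroup.mk' K) (K := E)
      rw [QuotientGroup.ker_mk'] at h3
      exact h3.symm
    have hcardA : Nat.card A = q ^ c := by
      rw [← hpc]
      have h3 := Subgroup.relIndex_ker (QuotientGroup.mk' K) (K := M)
      rw [QuotientGroup.ker_mk'] at h3
      exact h3.symm
    have hT : IsPGroup q T := IsPGroup.of_card hcardT
    have hpA : q ∣ Nat.card A := by
      rw [hcardA]
      exact dvd_pow_self q hc0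
    obtain ⟨a, ha, ha1, hfix⟩ := exists_fixed_of_pgroup_conj A T hT hpA
    let F : Subgroup G := M ⊓ (Subgroup.centralizer (T : Set (G ⧸ K))).comap mk
    have hFmem : ∀ x, x ∈ F ↔ x ∈ M ∧ ∀ y ∈ E, mk y * mk x = mk x * mk y := by
      intro x
      constructor
      · rintro ⟨h1, h2⟩
        refine ⟨h1, fun y hy => ?_⟩
        have h3 : mk x ∈ Subgroup.centralizer (T : Set (G ⧸ K)) := h2
        exact Subgroup.mem_centralizer_iff.mp h3 (mk y) ⟨y, hy, rfl⟩
      · rintro ⟨h1, h2⟩
        refine ⟨h1, ?_⟩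
        show mk x ∈ Subgroup.centralizer (T : Set (G ⧸ K))
        rw [Subgroup.mem_centralizer_iff]
        rintro _ ⟨y, hy, rfl⟩
        exact h2 y hy
    have hFn : F.Normal := by
      refine ⟨fun x hx g => ?_⟩
      obtain ⟨h, hh, m, hm, rfl⟩ := hdec g
      obtain ⟨hxM, hxc⟩ := (hFmem x).mp hx
      rw [hFmem]
      refine ⟨hMn.conj_mem x hxM _, fun y hy => ?_⟩
      have h1 : mk (m * x * m⁻¹) = mk x := by
        have h2 := (hmk _).mpr (hcm m hm x hxM)
        rw [map_mul, map_inv] at h2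
        exact mul_inv_eq_one.mp h2
      have h2 : mk (h * m * x * (h * m)⁻¹) = mk h * mk x * (mk h)⁻¹ := by
        have h3 : h * m * x * (h * m)⁻¹ = h * (m * x * m⁻¹) * h⁻¹ := by group
        rw [h3, map_mul, map_mul, h1, map_inv]
      rw [h2]
      have h3 : h⁻¹ * y * h ∈ E := by
        have := hEnorm h⁻¹ (H.inv_mem hh) y hy
        simpa using this
      have h4 := hxc _ h3
      simp only [map_mul, map_inv] at h4
      calc mk y * (mk h * mk x * (mk h)⁻¹)
          = mk h * (((mk h)⁻¹ * mk y * mk h) * mk x) * (mk h)⁻¹ := by group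
        _ = mk h * (mk x * ((mk h)⁻¹ * mk y * mk h)) * (mk h)⁻¹ := by rw [h4]
        _ = mk h * mk x * (mk h)⁻¹ * mk y := by group
    have hKF : K ≤ F := by
      intro x hx
      rw [hFmem]
      refine ⟨hKM.le hx, fun y _ => ?_⟩
      rw [(hmk x).mpr hx, one_mul, mul_one]
    rcases hchiefM F hFn hKF inf_le_left with hFK | hFM
    · -- `a` gives an element of `F` outside `K`
      obtain ⟨m, hm, rfl⟩ := ha
      have hmF : m ∈ F := by
        rw [hFmem]
        refine ⟨hm, fun y hy => ?_⟩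
        have h2 := hfix (mk y) ⟨y, hy, rfl⟩
        exact mul_inv_eq_iff_eq_mul.mp h2
      rw [hFK] at hmF
      exact ha1 ((hmk m).mpr hmF)
    · -- `E` is normal in `G`
      apply hKEne
      refine hcore E ⟨fun x hx g => ?_⟩ hEH
      obtain ⟨h, hh, m, hm, rfl⟩ := hdec g
      have hmF : m ∈ F := by
        rw [hFM]
        exact hm
      obtain ⟨_, hmc⟩ := (hFmem m).mp hmF
      have h1 : m * x * m⁻¹ * x⁻¹ ∈ K := by
        rw [← hmk]
        simp only [map_mul, map_inv]
        have h2 := hmc x hx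
        rw [← h2]
        group
      have h2 : m * x * m⁻¹ ∈ E := by
        have h3 : m * x * m⁻¹ = (m * x * m⁻¹ * x⁻¹) * x := by group
        rw [h3]
        exact E.mul_mem (hKE h1) hx
      have h3 : h * m * x * (h * m)⁻¹ = h * (m * x * m⁻¹) * h⁻¹ := by group
      rw [h3]
      exact hEnorm h hh _ h2
  -- the subgroup `D = E M`
  let D : Subgroup G := E ⊔ M
  have hDmem : ∀ y ∈ D, ∃ x ∈ E, ∃ m ∈ M, x * m = y := by
    intro y hy
    have h1 : y ∈ ((E ⊔ M : Subgroup G) : Set G) := hy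
    rw [Subgroup.mul_normal] at h1
    obtain ⟨x, hx, m, hm, rfl⟩ := Set.mem_mul.mp h1
    exact ⟨x, hx, m, hm, rfl⟩
  have hED' : E ≤ D := le_sup_left
  have hMD : M ≤ D := le_sup_right
  have hDn : D.Normal := by
    refine ⟨fun y hy g => ?_⟩
    obtain ⟨x, hx, m', hm', rfl⟩ := hDmem y hy
    obtain ⟨h, hh, m, hm, rfl⟩ := hdec g
    have h1 : h * m * (x * m') * (h * m)⁻¹ =
        (h * (m * (x * m⁻¹ * x⁻¹)) * h⁻¹) * (h * x * h⁻¹) * (h * m * m' * (h * m)⁻¹) := by group
    rw [h1]
    refine D.mul_mem (D.mul_mem (hMD ?_) (hED' (hEnorm h hh x hx))) (hMD ?_)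
    · refine hMn.conj_mem _ (M.mul_mem hm ?_) h
      exact hMn.conj_mem _ (M.inv_mem hm) x
    · have h2 : h * m * m' * (h * m)⁻¹ = (h * m) * m' * (h * m)⁻¹ := rfl
      rw [h2]
      exact hMn.conj_mem _ hm' _
  have hHD : H ⊔ D = ⊤ := by
    rw [eq_top_iff, ← hsupM]
    exact sup_le_sup_left hMD H
  have hE_eq : E = H ⊓ D := by
    apply le_antisymm (le_inf hEH hED')
    rintro y ⟨hyH, hyD⟩
    obtain ⟨x, hx, m, hm, rfl⟩ := hDmem y hyD
    have h1 : m ∈ H := by
      have h2 := H.mul_mem (H.inv_mem (hEH hx)) hyH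
      simpa using h2
    exact E.mul_mem hx (hKE (hHMK ⟨h1, hm⟩))
  have hcardD : Nat.card D = n * Nat.card E := by
    have := card_normal_of_sup (hD := hDn) H D hHD
    rw [← hE_eq] at this
    exact this
  haveI : Fintype D := Fintype.ofFinite D
  haveI : Fintype E := Fintype.ofFinite E
  obtain ⟨ψ, f, hψ, hχD⟩ := hqp D hDn ((hLK.trans hKM.le).trans hMD)
  have hχone : χ 1 = (n : ℂ) * ϑ 1 := indFun_one H ϑ
  have hϑ1 : ϑ 1 ≠ 0 := map_one_ne_zero_of_irr hϑ
  have hψc := IsIrrCharacter.isCharacter hψ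
  have hχDapp : ∀ y : D, χ y = (f : ℂ) * ψ y := fun y => congrFun hχD y
  have hχMapp : ∀ y : M, χ y = (e : ℂ) * φ y := fun y => congrFun hχM y
  have hf0 : f ≠ 0 := by
    rintro rfl
    have h1 := hχDapp 1
    simp only [Subgroup.coe_one, Nat.cast_zero, zero_mul] at h1
    rw [hχone] at h1
    exact (mul_ne_zero hn0 hϑ1) h1
  have he0' : (e : ℂ) ≠ 0 := by exact_mod_cast he0
  have hf0' : (f : ℂ) ≠ 0 := by exact_mod_cast hf0
  -- `φ` is invariant
  have hφinv : ∀ (g : G) (x : M), φ ⟨g * x * g⁻¹, hMn.conj_mem (x : G) x.2 g⟩ = φ x := by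
    intro g x
    have h1 := hχMapp ⟨g * x * g⁻¹, hMn.conj_mem (x : G) x.2 g⟩
    have h2 := hχMapp x
    simp only at h1
    rw [hcl (x : G) g, h2] at h1
    exact (mul_left_cancel₀ he0' h1).symm
  -- the multiplicity of `φ` in `ψ`
  let M' : Subgroup D := M.subgroupOf D
  haveI hM'n : M'.Normal := by
    refine ⟨fun x hx t => ?_⟩
    rw [Subgroup.mem_subgroupOf] at hx ⊢
    exact hMn.conj_mem x hx t
  haveI : Fintype M' := Fintype.ofFinite M'
  let ee : M' ≃* M := Subgroup.subgroupOfEquivOfLe hMD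
  let φ' : M' → ℂ := φ ∘ ee
  have hφ' : IsIrrCharacter M' φ' := isIrr_comp_equiv ee hφ
  have hrel : (f : ℂ) • (fun x : M' => ψ x) = (e : ℂ) • φ' := by
    funext x
    simp only [Pi.smul_apply, smul_eq_mul]
    have h1 := hχDapp x
    have h2 := hχMapp (ee x)
    rw [← h1]
    exact h2
  obtain ⟨a, ha⟩ := classInner_isCharacter_nat (IsCharacter.restrict M' hψc)
    (IsIrrCharacter.isCharacter hφ')
  have hfa : f * a = e := by
    have h1 := congrArg (fun t => classInner t φ') hrel
    simp only [classInner_smul_left] at h1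
    rw [ha, classInner_irr_self hφ', mul_one] at h1
    exact_mod_cast h1
  have ha0 : a ≠ 0 := by
    rintro rfl
    apply he0
    rw [← hfa, mul_zero]
  have hadvd : a ∣ M'.index := by
    refine mult_dvd_index_of_invariant M' hφ' ?_ hψ ha ha0
    intro g x
    exact hφinv g (ee x)
  have hidxD : M'.index = q ^ b := by
    have h1 : M'.index = M.relIndex D := rfl
    have h2 : M.relIndex D = M.relIndex E := Subgroup.relIndex_sup_right E M
    have h3 : M ⊓ E = K := by
      apply le_antisymm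
      · rintro x ⟨hxM, hxE⟩
        exact hHMK ⟨hEH hxE, hxM⟩
      · exact le_inf hKM.le hKE
    have h4 : (M ⊓ E).relIndex E = M.relIndex E := Subgroup.inf_relIndex_right M E
    rw [h1, h2, ← h4, h3, hidxE]
  have ha1 : a = 1 := by
    have h1 : a ∣ q ^ b := hidxD ▸ hadvd
    have h2 : a ∣ p ^ c := by
      rw [← hnp, ← hee]
      exact (Dvd.intro_left f hfa).trans (dvd_pow_self e two_ne_zero)
    have h3 : Nat.Coprime (q ^ b) (p ^ c) :=
      Nat.Coprime.pow _ _ ((Nat.coprime_primes hq hp).mpr hqne)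
    exact Nat.eq_one_of_dvd_coprimes h3 h1 h2
  have hfe : f = e := by
    rw [← hfa, ha1, mul_one]
  subst hfe
  have hffn : ((f : ℂ)) * (f : ℂ) = (n : ℂ) := by
    rw [← hee]
    push_cast
    ring
  -- the degree of `ψ`
  have hψ1 : ψ 1 = (f : ℂ) * ϑ 1 := by
    have h1 := hχDapp 1
    simp only [Subgroup.coe_one] at h1
    rw [hχone, ← hffn] at h1
    have h2 : (f : ℂ) * ((f : ℂ) * ϑ 1) = (f : ℂ) * ψ 1 := by
      rw [← h1]
      ring
    exact (mul_left_cancel₀ hf0' h2).symm
  -- the norm formula on `D`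
  have hB := classInner_restrict_indFun H D E hDn hE_eq ϑ hcardD hEH
  rw [← hχ] at hB
  set ξ₁ : E → ℂ := fun x => ϑ ⟨x, hEH x.2⟩ with hξ₁def
  have hξ₁ : IsIrrCharacter E ξ₁ := hres E (hLK.trans hKE) hEH
  set ψE : E → ℂ := fun x => ψ ⟨x, hED' x.2⟩ with hψEdef
  have hψE : IsCharacter E ψE := IsCharacter.comp (Subgroup.inclusion hED') hψc
  have h3 : (fun w : E => χ w) = (f : ℂ) • ψE := by
    funext x
    exact hχDapp ⟨x, hED' x.2⟩
  rw [hχD, h3, classInner_natCast_smul_right, classInner_natCast_smul_right, classInner_smul_left,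
    classInner_irr_self hψ, mul_one] at hB
  have h4 : classInner ξ₁ ψE = (f : ℂ) := (mul_left_cancel₀ hf0' hB).symm
  have h5 : classInner ψE ξ₁ = (f : ℂ) := by
    rw [← conj_classInner, h4]
    simp
  have hsub := isCharacter_sub_nsmul hξ₁ f hψE h5
  have h6 : (ψE - (f : ℂ) • ξ₁) = 0 := by
    apply IsCharacter.eq_zero_of_one hsub
    simp only [Pi.sub_apply, Pi.smul_apply, smul_eq_mul]
    have h7 : ψE 1 = ψ 1 := rfl
    have h8 : ξ₁ 1 = ϑ 1 := rfl
    rw [h7, h8, hψ1, sub_self]
  have hψEeq : ψE = (f : ℂ) • ξ₁ := sub_eq_zero.mp h6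
  have hχE : ∀ x : E, χ x = (n : ℂ) * ϑ ⟨x, hEH x.2⟩ := by
    intro x
    have h7 := congrFun h3 x
    simp only [Pi.smul_apply, smul_eq_mul] at h7
    rw [h7, hψEeq]
    simp only [Pi.smul_apply, smul_eq_mul]
    rw [← hffn, mul_assoc]
  -- vanishing off `K`
  have hvan : ∀ x : E, ϑ ⟨x, hEH x.2⟩ ≠ 0 → (x : G) ∈ K := by
    intro x hx0
    have h1 : ∀ g : G, extendByZero H ϑ (g⁻¹ * x * g) =
        if g⁻¹ * x * g ∈ H then ϑ ⟨x, hEH x.2⟩ else 0 := by
      intro g
      by_cases hg : g⁻¹ * x * g ∈ H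
      · rw [if_pos hg, extendByZero_of_mem _ _ hg]
        have hgE : g⁻¹ * x * g ∈ E := by
          have hle : H ⊓ D ≤ E := hE_eq.ge
          refine hle ⟨hg, ?_⟩
          have := hDn.conj_mem (x : G) (hED' x.2) g⁻¹
          simpa using this
        have h2 := hχE ⟨_, hgE⟩
        have h3 := hcl (x : G) g⁻¹
        rw [inv_inv] at h3
        simp only at h2
        rw [h3, hχE x] at h2
        exact (mul_left_cancel₀ hn0 h2).symm
      · rw [if_neg hg, extendByZero_of_not_mem _ _ hg]
    have h2 : χ x = (Nat.card H : ℂ)⁻¹ * ∑ g : G, extendByZero H ϑ (g⁻¹ * x * g) :=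
      indFun_apply H ϑ x
    rw [Finset.sum_congr rfl fun g _ => h1 g, Finset.sum_ite, Finset.sum_const, Finset.sum_const_zero,
      add_zero, nsmul_eq_mul, hχE x] at h2
    set c := (Finset.univ.filter fun g : G => g⁻¹ * x * g ∈ H).card with hc
    have hcH := card_subgroup_ne_zero H
    have h3 : (n : ℂ) * (Nat.card H : ℂ) = (c : ℂ) := by
      have h4 : (n : ℂ) * ϑ ⟨x, hEH x.2⟩ * (Nat.card H : ℂ) = c * ϑ ⟨x, hEH x.2⟩ := by
        rw [h2]
        field_simp
      have h5 : ((n : ℂ) * (Nat.card H : ℂ)) * ϑ ⟨x, hEH x.2⟩ = c * ϑ ⟨x, hEH x.2⟩ := by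
        rw [← h4]
        ring
      exact mul_right_cancel₀ hx0 h5
    have h4 : n * Nat.card H = c := by exact_mod_cast h3
    have h5 : n * Nat.card H = Fintype.card G := by
      rw [hn, mul_comm, Subgroup.card_mul_index, Nat.card_eq_fintype_card]
    have h6 : (Finset.univ.filter fun g : G => g⁻¹ * x * g ∈ H) = Finset.univ := by
      apply Finset.eq_univ_of_card
      rw [← hc, ← h4, h5]
    intro b
    have h7 : b⁻¹ ∈ (Finset.univ.filter fun g : G => g⁻¹ * x * g ∈ H) := by
      rw [h6]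
      exact Finset.mem_univ _
    have h8 := (Finset.mem_filter.mp h7).2
    simpa using h8
  -- the norm of `ξ₁`
  have hE1 : classInner ξ₁ ξ₁ = 1 := classInner_irr_self hξ₁
  have hK1 : classInner (fun x : K => ϑ ⟨x, hKH x.2⟩) (fun x : K => ϑ ⟨x, hKH x.2⟩) = 1 :=
    classInner_irr_self hξirr
  have hsum : ∑ x : E, ξ₁ x * conj (ξ₁ x) =
      ∑ x : K, ϑ ⟨x, hKH x.2⟩ * conj (ϑ ⟨x, hKH x.2⟩) := by
    have h0 : ∀ x : E, (x : G) ∉ K → ξ₁ x * conj (ξ₁ x) = 0 := by
      intro x hx
      have h1 : ξ₁ x = 0 := by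
        by_contra hne
        exact hx (hvan x hne)
      rw [h1, zero_mul]
    rw [← Finset.sum_filter_of_ne (p := fun x : E => (x : G) ∈ K)
      (fun x _ hne => by
        by_contra hc
        exact hne (h0 x hc))]
    symm
    refine Finset.sum_bij (fun (x : K) _ => (⟨x, hKE x.2⟩ : E)) ?_ ?_ ?_ ?_
    · intro x _
      simpa using x.2
    · intro a _ b _ hab
      exact Subtype.ext (congrArg (fun e : E => (e : G)) hab)
    · intro y hy
      have hy' : (y : G) ∈ K := by simpa using hy
      exact ⟨⟨y, hy'⟩, Finset.mem_univ _, rfl⟩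
    · intro x _
      rfl
  rw [Cfsg.Agent.Lib.Char.classInner_def, hsum] at hE1
  rw [Cfsg.Agent.Lib.Char.classInner_def] at hK1
  have hcE := card_subgroup_ne_zero E
  have hcK := card_subgroup_ne_zero K
  have hEK : (Nat.card E : ℂ) = (Nat.card K : ℂ) := by
    have h1 := (inv_mul_eq_iff_eq_mul₀ hcE).mp hE1
    have h2 := (inv_mul_eq_iff_eq_mul₀ hcK).mp hK1
    rw [mul_one] at h1 h2
    rw [← h1, h2]
  have hEK' : Nat.card E = Nat.card K := by exact_mod_cast hEK
  apply hKEne
  have := Subgroup.eq_of_le_of_card_ge hKE (le_of_eq hEK')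
  rw [this]

end Main

end Cfsg.Agent.Lib.Char
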