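import Cfsg.Agent.Lib.Char.Monomial
import Cfsg.Agent.Lib.Char.Clifford
import Cfsg.Agent.Lib.Char.Constituent
import Cfsg.Agent.Lib.Degree.Avg

/-!
# Gallagher-type results: multiplying by an extension of an invariant character.
-/

set_option autoImplicit false
set_option linter.unusedSectionVars false

open scoped ComplexConjugate
open Module

namespace Cfsg.Agent.Lib.Char

open Cfsg (classInner IsCharacter IsIrrCharacter IrrCharacter IsClassFunction charDegree indFun)

universe u

variable {G : Type u} [Group G] [Fintype G]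

/-- If the restrictions of two characters to a subgroup are orthogonal, so are the characters. -/
theorem classInner_eq_zero_of_restrict (H : Subgroup G) [Fintype H] {γ Δ : G → ℂ}
    (hγ : IsCharacter G γ) (hΔ : IsCharacter G Δ)
    (h : classInner (fun x : H => γ x) (fun x : H => Δ x) = 0) : classInner γ Δ = 0 := by
  classical
  by_contra hne
  -- a common constituent
  have hex : ∃ μ : IrrCharacter G, classInner γ (μ : G → ℂ) ≠ 0 ∧ classInner (μ : G → ℂ) Δ ≠ 0 := by
    by_contra hcon
    push Not at hcon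
    apply hne
    rw [classFunction_eq_sum γ (IsCharacter.isClassFunction hγ), classInner_sum_left]
    refine Finset.sum_eq_zero fun μ _ => ?_
    rw [classInner_smul_left]
    by_cases h0 : classInner γ (μ : G → ℂ) = 0
    · rw [h0, zero_mul]
    · rw [hcon μ h0, mul_zero]
  obtain ⟨μ, h1, h2⟩ := hex
  have hμ := IsIrrCharacter.isCharacter μ.2
  have ha : IsCharacter G (γ - (μ : G → ℂ)) := isCharacter_sub_of_constituent hγ μ.2 h1
  have hb : IsCharacter G (Δ - (μ : G → ℂ)) := isCharacter_sub_of_constituent hΔ μ.2 (by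
    rw [← conj_classInner]
    exact (map_ne_zero _).mpr h2)
  have hres : ∀ {f : G → ℂ}, IsCharacter G f → IsCharacter H (fun x : H => f x) :=
    fun hf => IsCharacter.restrict H hf
  obtain ⟨n1, hn1⟩ := classInner_isCharacter_nat (hres ha) (hres hΔ)
  obtain ⟨n2, hn2⟩ := classInner_isCharacter_nat (hres hμ) (hres hb)
  obtain ⟨n3, hn3⟩ := classInner_isCharacter_nat (hres hμ) (hres hμ)
  have hsplit : classInner (fun x : H => γ x) (fun x : H => Δ x) =
      classInner (fun x : H => (γ - (μ : G → ℂ)) x) (fun x : H => Δ x) +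
      classInner (fun x : H => (μ : G → ℂ) x) (fun x : H => (Δ - (μ : G → ℂ)) x) +
      classInner (fun x : H => (μ : G → ℂ) x) (fun x : H => (μ : G → ℂ) x) := by
    simp only [classInner_def, ← mul_add, ← Finset.sum_add_distrib]
    congr 1
    refine Finset.sum_congr rfl fun x _ => ?_
    simp only [Pi.sub_apply, map_sub]
    ring
  rw [h, hn1, hn2, hn3] at hsplit
  have hn30 : n3 = 0 := by
    have : ((n1 + n2 + n3 : ℕ) : ℂ) = 0 := by push_cast; exact hsplit.symm
    have h0 : n1 + n2 + n3 = 0 := by exact_mod_cast this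
    omega
  -- but the norm of the restriction of an irreducible character is nonzero
  have hμ0 : classInner (fun x : H => (μ : G → ℂ) x) (fun x : H => (μ : G → ℂ) x) ≠ 0 := by
    have hrest := hres hμ
    have hne0 : (fun x : H => (μ : G → ℂ) x) ≠ 0 := by
      intro h0
      have := congrFun h0 1
      simp only [Subgroup.coe_one, Pi.zero_apply] at this
      exact map_one_ne_zero_of_irr μ.2 this
    obtain ⟨ξ, hξ, hξ0⟩ := exists_constituent hrest hne0
    -- the norm is at least `⟨μ_H, ξ⟩²`
    intro hzero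
    rw [classInner_def] at hzero
    have hcard : (Nat.card H : ℂ) ≠ 0 := card_ne_zero_complex H
    have hsum : ∑ x : H, (μ : G → ℂ) x * conj ((μ : G → ℂ) x) = 0 := by
      rcases mul_eq_zero.mp hzero with h | h
      · exact absurd h (inv_ne_zero hcard)
      · exact h
    have hreal : ∑ x : H, ((Complex.normSq ((μ : G → ℂ) x) : ℝ) : ℂ) = 0 := by
      rw [← hsum]
      refine Finset.sum_congr rfl fun x _ => ?_
      rw [Complex.mul_conj]
    have hreal' : ∑ x : H, Complex.normSq ((μ : G → ℂ) x) = 0 := by exact_mod_cast hreal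
    rw [Finset.sum_eq_zero_iff_of_nonneg (fun x _ => Complex.normSq_nonneg _)] at hreal'
    have := hreal' 1 (Finset.mem_univ _)
    rw [map_eq_zero] at this
    exact hne0 (by
      funext x
      have h2 := hreal' x (Finset.mem_univ _)
      rw [map_eq_zero] at h2
      simpa using h2)
  rw [hn3] at hμ0
  rw [hn30] at hμ0
  exact hμ0 (by simp)

/-- `⟨β χ, β' χ⟩ = ⟨β, β'⟩` when `β, β'` lie over `φ` and `χ` extends `ϑ` with `φ ϑ` irreducible. -/
theorem classInner_mul_extension (N : Subgroup G) [Fintype N] {φ ϑ : N → ℂ}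
    (hφ : IsIrrCharacter N φ) (hϑ : IsIrrCharacter N ϑ) (hprod : IsIrrCharacter N (φ * ϑ))
    {χ : G → ℂ} (hχ : IsIrrCharacter G χ) (hext : ∀ n : N, χ n = ϑ n)
    {β β' : G → ℂ} (hβ : IsCharacter G β) (hβ' : IsCharacter G β') {e e' : ℂ}
    (he : (fun n : N => β n) = e • φ) (he' : (fun n : N => β' n) = e' • φ) :
    classInner (β * χ) (β' * χ) = classInner β β' := by
  classical
  have hcχ := IsIrrCharacter.isCharacter hχ
  set cχ : G → ℂ := fun g => conj (χ g) with hcχdef
  have hcc : IsCharacter G cχ := IsCharacter.conj_char hcχ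
  set cβ' : G → ℂ := fun g => conj (β' g) with hcβdef
  have hcb : IsCharacter G cβ' := IsCharacter.conj_char hβ'
  set γ : G → ℂ := β * cβ' with hγdef
  have hγ : IsCharacter G γ := IsCharacter.mul hβ hcb
  have hχχ : IsCharacter G (χ * cχ) := IsCharacter.mul hcχ hcc
  have hone : IsIrrCharacter G (fun _ => (1 : ℂ)) := isIrrCharacter_one
  have hinner1 : classInner (χ * cχ) (fun _ => (1 : ℂ)) = 1 := by
    refine Eq.trans ?_ (classInner_irr_self hχ)
    simp only [classInner_def, Pi.mul_apply, map_one, mul_one, hcχdef]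
  set Δ : G → ℂ := χ * cχ - fun _ => (1 : ℂ) with hΔdef
  have hΔ : IsCharacter G Δ :=
    isCharacter_sub_of_constituent hχχ hone (by rw [hinner1]; exact one_ne_zero)
  -- the restriction computation
  have hrest : classInner (fun x : N => γ x) (fun x : N => Δ x) = 0 := by
    have hγN : ∀ x : N, γ x = (e * conj e') * (φ x * conj (φ x)) := by
      intro x
      have h1 := congrFun he x
      have h2 := congrFun he' x
      simp only [Pi.smul_apply, smul_eq_mul] at h1 h2
      simp only [hγdef, Pi.mul_apply, hcβdef, h1, h2, map_mul]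
      ring
    have hχN : ∀ x : N, Δ x = ϑ x * conj (ϑ x) - 1 := by
      intro x
      simp only [hΔdef, Pi.sub_apply, Pi.mul_apply, hcχdef, hext]
    simp only [classInner_def, hγN, hχN]
    have h1 := classInner_irr_self hprod
    have h2 := classInner_irr_self hφ
    simp only [classInner_def, Pi.mul_apply, map_mul] at h1 h2
    have h3 : ∑ x : N, (e * conj e') * (φ x * conj (φ x)) * conj (ϑ x * conj (ϑ x) - 1) =
        (e * conj e') * (∑ x : N, φ x * ϑ x * (conj (φ x) * conj (ϑ x)) -
          ∑ x : N, φ x * conj (φ x)) := by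
      rw [← Finset.sum_sub_distrib, Finset.mul_sum]
      refine Finset.sum_congr rfl fun x _ => ?_
      simp only [map_sub, map_mul, Complex.conj_conj, map_one]
      ring
    rw [h3]
    have h4 : (∑ x : N, φ x * ϑ x * (conj (φ x) * conj (ϑ x))) =
        ∑ x : N, φ x * conj (φ x) := by
      have hc : (Nat.card N : ℂ)⁻¹ ≠ 0 := inv_ne_zero (card_ne_zero_complex N)
      exact mul_left_cancel₀ hc (h1.trans h2.symm)
    rw [h4]
    simp
  have hzero := classInner_eq_zero_of_restrict N hγ hΔ hrest
  -- assemble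
  have hcalc : classInner (β * χ) (β' * χ) = classInner γ (χ * cχ) := by
    simp only [classInner_def, Pi.mul_apply, hγdef, hcβdef, hcχdef, map_mul, Complex.conj_conj]
    congr 1
    refine Finset.sum_congr rfl fun x _ => ?_
    ring
  rw [hcalc]
  have h5 : classInner γ (χ * cχ) = classInner γ Δ +
      classInner γ (fun _ => (1 : ℂ)) := by
    simp only [classInner_def, ← mul_add, ← Finset.sum_add_distrib]
    congr 1
    refine Finset.sum_congr rfl fun x _ => ?_
    simp only [hΔdef, Pi.sub_apply, map_sub, map_one]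
    ring
  rw [h5, hzero, zero_add]
  simp only [classInner_def, hγdef, hcβdef, Pi.mul_apply, map_one, mul_one]

/-- The generalized Gallagher theorem. -/
theorem gallagher_bijOn (N : Subgroup G) [hN : N.Normal] [Fintype N] {φ ϑ : N → ℂ}
    (hφ : IsIrrCharacter N φ) (hϑ : IsIrrCharacter N ϑ)
    (hφinv : ∀ g, conjFn hN g φ = φ)
    (hprod : IsIrrCharacter N (φ * ϑ))
    {χ : G → ℂ} (hχ : IsIrrCharacter G χ) (hext : ∀ n : N, χ n = ϑ n) :
    Set.BijOn (fun β : G → ℂ => β * χ)
      {β : G → ℂ | IsIrrCharacter G β ∧ classInner (indFun N φ) β ≠ 0}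
      {ψ : G → ℂ | IsIrrCharacter G ψ ∧ classInner (indFun N (φ * ϑ)) ψ ≠ 0} := by
  classical
  have hχc := IsIrrCharacter.isCharacter hχ
  have hθ : (fun k : N => χ k) = ϑ := funext hext
  -- data for a constituent
  have key : ∀ β : G → ℂ, IsIrrCharacter G β → classInner (indFun N φ) β ≠ 0 →
      (∃ e : ℂ, e ≠ 0 ∧ (fun n : N => β n) = e • φ) := by
    intro β hβ h
    have hcl := IsCharacter.isClassFunction (IsIrrCharacter.isCharacter hβ)
    rw [frobenius_reciprocity N φ β hcl] at h
    have h' : classInner (fun n : N => β n) φ ≠ 0 := by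
      rw [← conj_classInner]; exact (map_ne_zero _).mpr h
    exact ⟨_, h', clifford_invariant hN hβ hφ hφinv h'⟩
  have hirr : ∀ β : G → ℂ, IsIrrCharacter G β → classInner (indFun N φ) β ≠ 0 →
      IsIrrCharacter G (β * χ) := by
    intro β hβ h
    obtain ⟨e, _, he⟩ := key β hβ h
    refine isIrr_of_character_norm_one (IsCharacter.mul (IsIrrCharacter.isCharacter hβ) hχc) ?_
    rw [classInner_mul_extension N hφ hϑ hprod hχ hext (IsIrrCharacter.isCharacter hβ)
      (IsIrrCharacter.isCharacter hβ) he he]
    exact classInner_irr_self hβ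
  have hind : indFun N (φ * ϑ) = indFun N φ * χ := by
    rw [indFun_mul_class N φ χ (IsCharacter.isClassFunction hχc), hθ]
  refine ⟨?_, ?_, ?_⟩
  · rintro β ⟨hβ, h⟩
    refine ⟨hirr β hβ h, ?_⟩
    obtain ⟨e, he0, he⟩ := key β hβ h
    have hcl := IsCharacter.isClassFunction (IsIrrCharacter.isCharacter (hirr β hβ h))
    rw [frobenius_reciprocity N _ _ hcl]
    have h1 : (fun h : N => (β * χ) h) = e • (φ * ϑ) := by
      funext n
      have := congrFun he n
      simp only [Pi.smul_apply, smul_eq_mul] at this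
      simp only [Pi.mul_apply, Pi.smul_apply, smul_eq_mul, this, hext]
      ring
    rw [h1, classInner_smul_right, classInner_irr_self hprod, mul_one]
    exact (map_ne_zero _).mpr he0
  · rintro β ⟨hβ, h⟩ β' ⟨hβ', h'⟩ heq
    simp only at heq
    by_contra hne
    obtain ⟨e, _, he⟩ := key β hβ h
    obtain ⟨e', _, he'⟩ := key β' hβ' h'
    have h1 := classInner_mul_extension N hφ hϑ hprod hχ hext (IsIrrCharacter.isCharacter hβ)
      (IsIrrCharacter.isCharacter hβ') he he'
    rw [← heq, classInner_irr_self (hirr β hβ h), classInner_irr_of_ne hβ hβ' hne] at h1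
    exact one_ne_zero h1
  · rintro ψ ⟨hψ, h⟩
    rw [hind] at h
    have hcl : IsClassFunction G (indFun N φ) := indFun_isClassFunction N φ
    have hsum := classFunction_eq_sum _ hcl
    have hex : ∃ β : IrrCharacter G, classInner (indFun N φ) (β : G → ℂ) ≠ 0 ∧
        classInner ((β : G → ℂ) * χ) ψ ≠ 0 := by
      by_contra hcon
      push Not at hcon
      apply h
      rw [hsum, Finset.sum_mul, classInner_sum_left]
      refine Finset.sum_eq_zero fun β _ => ?_
      rw [smul_mul_assoc, classInner_smul_left]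
      by_cases h0 : classInner (indFun N φ) (β : G → ℂ) = 0
      · rw [h0, zero_mul]
      · rw [hcon β h0, mul_zero]
    obtain ⟨β, h1, h2⟩ := hex
    refine ⟨(β : G → ℂ), ⟨β.2, h1⟩, ?_⟩
    by_contra hne
    exact h2 (classInner_irr_of_ne (hirr _ β.2 h1) hψ hne)

end Cfsg.Agent.Lib.Char
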