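import Cfsg.Agent.Lib.Char.ZassInvol2
import Cfsg.Agent.Lib.Char.Ops
import Cfsg.Agent.Lib.Char.Induced
import Cfsg.Agent.Lib.Char.Burnside

/-!
# Induced linear characters from a point stabilizer of a simple Zassenhaus group.
-/

set_option autoImplicit false
set_option linter.unusedSectionVars false
set_option linter.unusedVariables false
set_option linter.style.haveILetI false
set_option linter.unusedSimpArgs false
set_option linter.unnecessarySimpa false

open MulAction
open scoped ComplexConjugate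

namespace Cfsg.Agent.Lib.Char

universe u v

variable {G : Type u} {Ω : Type v} [Group G] [MulAction G Ω] [Fintype G] [Fintype Ω]

/-- The induced function from a point stabilizer as a sum over the points. -/
theorem indFun_stab_apply (a : Ω) (μ : stabilizer G a → ℂ)
    (hμ : ∀ (r : stabilizer G a) (z : stabilizer G a), μ (r⁻¹ * z * r) = μ z)
    (s : Ω → G) (hs : ∀ c, s c • a = c) (hsurj : ∀ c : Ω, ∃ g : G, g • a = c) (x : G) :
    Cfsg.indFun (stabilizer G a) μ x =
      ∑ c : Ω, Cfsg.extendByZero (stabilizer G a) μ ((s c)⁻¹ * x * s c) := by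
  classical
  rw [indFun_apply]
  have hU : (Nat.card (stabilizer G a) : ℂ) ≠ 0 := by
    exact_mod_cast (Nat.card_pos (α := stabilizer G a)).ne'
  rw [inv_mul_eq_div, div_eq_iff hU]
  rw [← Finset.sum_fiberwise (Finset.univ : Finset G) (fun y : G => y • a), Finset.sum_mul]
  refine Finset.sum_congr rfl fun c _ => ?_
  -- on a fibre
  have hcl : ∀ (r z : G), r ∈ stabilizer G a →
      Cfsg.extendByZero (stabilizer G a) μ (r⁻¹ * z * r) = Cfsg.extendByZero (stabilizer G a) μ z := by
    intro r z hr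
    by_cases hz : z ∈ stabilizer G a
    · have hz2 : r⁻¹ * z * r ∈ stabilizer G a :=
        Subgroup.mul_mem _ (Subgroup.mul_mem _ (Subgroup.inv_mem _ hr) hz) hr
      rw [extendByZero_of_mem _ _ hz, extendByZero_of_mem _ _ hz2]
      exact hμ ⟨r, hr⟩ ⟨z, hz⟩
    · have hz2 : r⁻¹ * z * r ∉ stabilizer G a := by
        intro h
        apply hz
        have h3 := Subgroup.mul_mem _ (Subgroup.mul_mem _ hr h) (Subgroup.inv_mem _ hr)
        have h4 : r * (r⁻¹ * z * r) * r⁻¹ = z := by group
        rwa [h4] at h3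
      rw [extendByZero_of_not_mem _ _ hz, extendByZero_of_not_mem _ _ hz2]
  have hterm : ∀ y ∈ Finset.univ.filter (fun y : G => y • a = c),
      Cfsg.extendByZero (stabilizer G a) μ (y⁻¹ * x * y) =
        Cfsg.extendByZero (stabilizer G a) μ ((s c)⁻¹ * x * s c) := by
    intro y hy
    simp only [Finset.mem_filter, Finset.mem_univ, true_and] at hy
    have hr : (s c)⁻¹ * y ∈ stabilizer G a := by
      change ((s c)⁻¹ * y) • a = a
      rw [mul_smul, hy, inv_smul_eq_iff, hs]
    have h3 : y⁻¹ * x * y = ((s c)⁻¹ * y)⁻¹ * ((s c)⁻¹ * x * s c) * ((s c)⁻¹ * y) := by group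
    rw [h3, hcl _ _ hr]
  rw [Finset.sum_congr rfl hterm, Finset.sum_const, nsmul_eq_mul, mul_comm]
  congr 1
  have hcard : (Finset.univ.filter (fun y : G => y • a = c)).card = Nat.card (stabilizer G a) := by
    rw [Nat.card_eq_fintype_card, Fintype.card_subtype]
    refine Finset.card_bij (fun y _ => (s c)⁻¹ * y) ?_ ?_ ?_
    · intro y hy
      simp only [Finset.mem_filter, Finset.mem_univ, true_and] at hy ⊢
      change ((s c)⁻¹ * y) • a = a
      rw [mul_smul, hy, inv_smul_eq_iff, hs]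
    · intro y _ y' _ h
      simpa using h
    · intro y hy
      simp only [Finset.mem_filter, Finset.mem_univ, true_and] at hy
      refine ⟨s c * y, ?_, by simp⟩
      simp only [Finset.mem_filter, Finset.mem_univ, true_and]
      have hy' : y • a = a := hy
      rw [mul_smul, hy', hs]
  rw [hcard]

open Classical in
/-- The values of the induced function. -/
theorem zass_ind_value (hZ : Cfsg.IsZassenhausGroup G Ω) {a b : Ω} (hab : a ≠ b) [IsSimpleGroup G]
    (H : Subgroup G) (hHa : H ≤ stabilizer G a) (hHcard : Nat.card H + 1 = Fintype.card Ω)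
    (hHfix : ∀ u ∈ H, u ≠ 1 → ∀ c : Ω, u • c = c → c = a)
    (l : stabilizer G a →* ℂˣ) (hlH : ∀ u : stabilizer G a, (u : G) ∈ H → l u = 1)
    (x : stabilizer G a) (hx1 : x ≠ 1) :
    Cfsg.indFun (stabilizer G a) (fun g => (l g : ℂ)) x =
      if (x : G) ∈ H then 1 else (l x : ℂ) + ((l x)⁻¹ : ℂˣ) := by
  classical
  have hsurj : ∀ c : Ω, ∃ g : G, g • a = c := by
    intro c
    by_cases hac : a = c
    · exact ⟨1, by simp [hac]⟩
    · obtain ⟨g, hg, -⟩ := zass_two_trans hZ a c c a hac (Ne.symm hac)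
      exact ⟨g, hg⟩
  choose s hs using hsurj
  have hcl : ∀ (r z : stabilizer G a), (fun g => (l g : ℂ)) (r⁻¹ * z * r) = (fun g => (l g : ℂ)) z := by
    intro r z
    simp only [map_mul, map_inv, Units.val_inj]
    rw [mul_comm (l r)⁻¹, mul_assoc, inv_mul_cancel, mul_one]
  rw [indFun_stab_apply a _ hcl s hs (fun c => ⟨s c, hs c⟩)]
  have hx1' : (x : G) ≠ 1 := fun h => hx1 (Subtype.ext h)
  have hxa : (x : G) • a = a := x.2
  have hsa : s a ∈ stabilizer G a := hs a
  -- the term at a point `c`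
  have hzero : ∀ c : Ω, (x : G) • c ≠ c →
      Cfsg.extendByZero (stabilizer G a) (fun g => (l g : ℂ)) ((s c)⁻¹ * x * s c) = 0 := by
    intro c hc
    apply extendByZero_of_not_mem
    intro h
    have h2 : ((s c)⁻¹ * x * s c) • a = a := h
    rw [mul_smul, mul_smul, hs, inv_smul_eq_iff, hs] at h2
    exact hc h2
  have hterm_a : Cfsg.extendByZero (stabilizer G a) (fun g => (l g : ℂ)) ((s a)⁻¹ * x * s a) = (l x : ℂ) := by
    have h3 : (s a)⁻¹ * x * s a ∈ stabilizer G a :=
      Subgroup.mul_mem _ (Subgroup.mul_mem _ (Subgroup.inv_mem _ hsa) x.2) hsa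
    rw [extendByZero_of_mem _ _ h3]
    have := hcl ⟨s a, hsa⟩ x
    exact this
  by_cases hxH : (x : G) ∈ H
  · rw [if_pos hxH]
    rw [Finset.sum_eq_single a]
    · rw [hterm_a, hlH x hxH]
      simp
    · intro c _ hca
      exact hzero c fun h => hca (hHfix _ hxH hx1' c h)
    · intro h
      exact absurd (Finset.mem_univ _) h
  · rw [if_neg hxH]
    rw [zass_kernel_mem_iff hZ hab H hHa hHcard hHfix] at hxH
    push Not at hxH
    obtain ⟨-, c, hca, hxc⟩ := hxH hxa
    rw [Finset.sum_eq_add a c (Ne.symm hca)]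
    · rw [hterm_a]
      congr 1
      -- the second term
      obtain ⟨t, ht1, ht2⟩ := zass_two_trans hZ a c c a (Ne.symm hca) hca
      have hxE : (x : G) ∈ (stabilizer G a ⊓ stabilizer G c : Subgroup G) := ⟨hxa, hxc⟩
      have hconj := zass_swap_conj_mem ht1 ht2 hxE
      let ϕ : (stabilizer G a ⊓ stabilizer G c : Subgroup G) →* ℂˣ :=
        l.comp (Subgroup.inclusion inf_le_left)
      have htr := zass_transfer hZ (Ne.symm hca) ϕ ht1 ht2 ⟨x, hxE⟩
      have hϕ : ∀ y : (stabilizer G a ⊓ stabilizer G c : Subgroup G), ϕ y = l ⟨y, y.2.1⟩ := fun y => rfl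
      rw [hϕ, hϕ] at htr
      have hr : (t⁻¹ * s c) ∈ stabilizer G a := by
        change (t⁻¹ * s c) • a = a
        rw [mul_smul, hs, inv_smul_eq_iff, ht1]
      have h4 : (s c)⁻¹ * x * s c = (t⁻¹ * s c)⁻¹ * (t⁻¹ * x * t) * (t⁻¹ * s c) := by group
      have h5 : (s c)⁻¹ * x * s c ∈ stabilizer G a := by
        rw [h4]
        exact Subgroup.mul_mem _ (Subgroup.mul_mem _ (Subgroup.inv_mem _ hr) hconj.1) hr
      rw [extendByZero_of_mem _ _ h5]
      have h6 := hcl ⟨_, hr⟩ ⟨t⁻¹ * x * t, hconj.1⟩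
      have h7 : ((⟨t⁻¹ * s c, hr⟩ : stabilizer G a)⁻¹ * ⟨t⁻¹ * x * t, hconj.1⟩ * ⟨t⁻¹ * s c, hr⟩ : stabilizer G a) =
          ⟨(s c)⁻¹ * x * s c, h5⟩ := by
        apply Subtype.ext
        exact h4.symm
      rw [h7] at h6
      simp only at h6
      rw [h6]
      have h8 : l ⟨t⁻¹ * x * t, hconj.1⟩ = (l x)⁻¹ := eq_inv_of_mul_eq_one_right htr
      rw [h8]
    · intro c' _ hc'
      apply hzero
      intro h
      -- three fixed points
      apply hc'.1
      by_contra hne
      exact hx1' (zass_eq_one hZ (Ne.symm hca) (Ne.symm hc'.2) (Ne.symm hne) hxa hxc h)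
    · intro h
      exact absurd (Finset.mem_univ _) h
    · intro h
      exact absurd (Finset.mem_univ _) h

theorem inv_eq_conj_of_pow_one {z : ℂˣ} {m : ℕ} (hm : 0 < m) (hz : z ^ m = 1) :
    ((z⁻¹ : ℂˣ) : ℂ) = conj (z : ℂ) := by
  have h1 : ‖(z : ℂ)‖ = 1 := by
    have h2 : (z : ℂ) ^ m = 1 := by
      rw [← Units.val_pow_eq_pow_val, hz, Units.val_one]
    exact Complex.norm_eq_one_of_pow_eq_one h2 hm.ne'
  rw [Units.val_inv_eq_inv_val, Complex.inv_eq_conj h1]

/-- **The induced linear character is irreducible.** -/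
theorem zass_ind_irr (hZ : Cfsg.IsZassenhausGroup G Ω) {a b : Ω} (hab : a ≠ b) [IsSimpleGroup G]
    (hodd : Odd (Nat.card (stabilizer G a ⊓ stabilizer G b : Subgroup G)))
    (H : Subgroup G) (hHa : H ≤ stabilizer G a) (hHcard : Nat.card H + 1 = Fintype.card Ω)
    (hHfix : ∀ u ∈ H, u ≠ 1 → ∀ c : Ω, u • c = c → c = a)
    (μ : stabilizer G a → ℂ) (hμ : Cfsg.IsCharacter (stabilizer G a) μ ∧ μ 1 = 1)
    (hμH : ∀ u : stabilizer G a, (u : G) ∈ H → μ u = 1) (hμne : μ ≠ fun _ => 1) :
    Cfsg.IsIrrCharacter G (Cfsg.indFun (stabilizer G a) μ) := by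
  classical
  apply isIrr_of_character_norm_one (indFun_isCharacter _ hμ.1)
  obtain ⟨l, rfl⟩ := exists_hom_of_character_one hμ.1 hμ.2
  have hlH : ∀ u : stabilizer G a, (u : G) ∈ H → l u = 1 := by
    intro u hu
    have := hμH u hu
    exact Units.ext (by simpa using this)
  set ψ := Cfsg.indFun (stabilizer G a) (fun g => (l g : ℂ)) with hψ
  have hval : ∀ (x : stabilizer G a), x ≠ 1 → ψ x = if (x : G) ∈ H then 1 else (l x : ℂ) + ((l x)⁻¹ : ℂˣ) :=
    zass_ind_value hZ hab H hHa hHcard hHfix l hlH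
  have h1val : ψ 1 = (Fintype.card Ω : ℂ) := by
    rw [hψ, indFun_one]
    have h2 : (stabilizer G a).index = Fintype.card Ω := by
      have h3 := card_stab_eq hZ hab a
      have h4 := (stabilizer G a).card_mul_index
      have hpos : 0 < Nat.card (stabilizer G a) := Nat.card_pos
      exact Nat.eq_of_mul_eq_mul_left hpos (h4.trans h3.symm)
    rw [h2]
    simp
  rw [frobenius_reciprocity _ _ _ (indFun_isClassFunction _ _)]
  rw [classInner_def]
  have hU : (Nat.card (stabilizer G a) : ℂ) ≠ 0 := by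
    exact_mod_cast (Nat.card_pos (α := stabilizer G a)).ne'
  rw [inv_mul_eq_div, div_eq_one_iff_eq hU]
  have hpow : ∀ x : stabilizer G a, l x ^ Nat.card (stabilizer G a) = 1 := by
    intro x
    rw [← map_pow, pow_card_eq_one', map_one]
  have hconj : ∀ x : stabilizer G a, conj (l x : ℂ) = ((l x)⁻¹ : ℂˣ) := fun x =>
    (inv_eq_conj_of_pow_one Nat.card_pos (hpow x)).symm
  -- the value of each term
  have hterm : ∀ x : stabilizer G a, (l x : ℂ) * conj (ψ x) =
      1 + (l x : ℂ) ^ 2 - (if (x : G) ∈ H then 1 else 0) + (if x = 1 then ((Fintype.card Ω : ℂ) - 1) else 0) := by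
    intro x
    by_cases hx1 : x = 1
    · subst hx1
      have h3 : ((1 : stabilizer G a) : G) = 1 := rfl
      rw [h3, h1val, map_one]
      simp [H.one_mem]
    · rw [hval x hx1, if_neg hx1]
      by_cases hxH : (x : G) ∈ H
      · rw [if_pos hxH, if_pos hxH, hlH x hxH]
        simp
      · rw [if_neg hxH, if_neg hxH, map_add, hconj]
        have h3 : conj (((l x)⁻¹ : ℂˣ) : ℂ) = (l x : ℂ) := by
          rw [← hconj, Complex.conj_conj]
        rw [h3]
        have h4 : (l x : ℂ) * ((l x)⁻¹ : ℂˣ) = 1 := by simp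
        rw [mul_add, h4]
        ring
  rw [Finset.sum_congr rfl (fun x _ => hterm x)]
  rw [Finset.sum_add_distrib, Finset.sum_sub_distrib, Finset.sum_add_distrib]
  -- the sum of the squares
  have hne2 : ∃ y : stabilizer G a, l y ^ 2 ≠ 1 := by
    by_contra hcon
    push Not at hcon
    apply hμne
    funext y
    suffices l y = 1 by simp [this]
    by_cases hyH : (y : G) ∈ H
    · exact hlH y hyH
    · have hy := hyH
      rw [zass_kernel_mem_iff hZ hab H hHa hHcard hHfix] at hy
      push Not at hy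
      obtain ⟨-, c, hca, hyc⟩ := hy y.2
      have hyE : (y : G) ∈ (stabilizer G a ⊓ stabilizer G c : Subgroup G) := ⟨y.2, hyc⟩
      have hoddc := zass_odd_any hZ hab hodd (Ne.symm hca)
      have h3 : (y : G) ^ Nat.card (stabilizer G a ⊓ stabilizer G c : Subgroup G) = 1 := by
        have := pow_card_eq_one' (x := (⟨y, hyE⟩ : (stabilizer G a ⊓ stabilizer G c : Subgroup G)))
        simpa [Subtype.ext_iff] using this
      have h4 : y ^ Nat.card (stabilizer G a ⊓ stabilizer G c : Subgroup G) = 1 := Subtype.ext (by simpa using h3)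
      apply eq_one_of_sq_of_odd (hcon y) _ hoddc
      rw [← map_pow, h4, map_one]
  have hsq0 : ∑ x : stabilizer G a, (l x : ℂ) ^ 2 = 0 := by
    obtain ⟨y, hy⟩ := hne2
    have h3 : ∑ x : stabilizer G a, (l x : ℂ) ^ 2 = (l y : ℂ) ^ 2 * ∑ x : stabilizer G a, (l x : ℂ) ^ 2 := by
      rw [Finset.mul_sum, ← Equiv.sum_comp (Equiv.mulLeft y)]
      refine Finset.sum_congr rfl fun x _ => ?_
      simp only [Equiv.coe_mulLeft, map_mul, Units.val_mul]
      ring
    have h4 : ((l y : ℂ) ^ 2 - 1) * ∑ x : stabilizer G a, (l x : ℂ) ^ 2 = 0 := by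
      rw [sub_mul, ← h3]
      ring
    rcases mul_eq_zero.mp h4 with h5 | h5
    · exfalso
      apply hy
      apply Units.ext
      simpa [sub_eq_zero] using h5
    · exact h5
  have hcardH : ∑ x : stabilizer G a, (if (x : G) ∈ H then (1 : ℂ) else 0) = (Nat.card H : ℂ) := by
    rw [Finset.sum_boole]
    congr 1
    rw [Nat.card_eq_fintype_card, Fintype.card_subtype]
    refine Finset.card_bij (fun x _ => (x : G)) ?_ ?_ ?_
    · intro x hx
      simpa using hx
    · intro x _ y _ h
      exact Subtype.ext h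
    · intro y hy
      simp only [Finset.mem_filter, Finset.mem_univ, true_and] at hy
      exact ⟨⟨y, hHa hy⟩, by simpa using hy, rfl⟩
  rw [hsq0, hcardH]
  simp only [Finset.sum_const, Finset.card_univ, nsmul_eq_mul, mul_one, Finset.sum_ite_eq', Finset.mem_univ, if_true]
  rw [← hHcard]
  push_cast
  rw [Fintype.card_eq_nat_card]
  ring

/-- The values of the induced character on the kernel. -/
theorem zass_ind_kernel_value (hZ : Cfsg.IsZassenhausGroup G Ω) {a b : Ω} (hab : a ≠ b) [IsSimpleGroup G]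
    (H : Subgroup G) (hHa : H ≤ stabilizer G a) (hHcard : Nat.card H + 1 = Fintype.card Ω)
    (hHfix : ∀ u ∈ H, u ≠ 1 → ∀ c : Ω, u • c = c → c = a)
    (μ : stabilizer G a → ℂ) (hμ : Cfsg.IsCharacter (stabilizer G a) μ ∧ μ 1 = 1)
    (hμH : ∀ u : stabilizer G a, (u : G) ∈ H → μ u = 1) {u : G} (hu : u ∈ H) (hu1 : u ≠ 1) :
    Cfsg.indFun (stabilizer G a) μ u = 1 := by
  classical
  obtain ⟨l, rfl⟩ := exists_hom_of_character_one hμ.1 hμ.2
  have hlH : ∀ u : stabilizer G a, (u : G) ∈ H → l u = 1 := by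
    intro u hu
    have := hμH u hu
    exact Units.ext (by simpa using this)
  have hval := zass_ind_value hZ hab H hHa hHcard hHfix l hlH ⟨u, hHa hu⟩ (fun h => hu1 (congrArg Subtype.val h))
  rw [if_pos hu] at hval
  exact hval

end Cfsg.Agent.Lib.Char
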