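import Cfsg.Agent.Lib.Char.Zass
import Cfsg.Agent.Lib.FF.RankOne
import Cfsg.Agent.Lib.Hall.Frobenius3
import Cfsg.Agent.Lib.FrobThm.Basic

/-!
# The two-point stabilizer of a simple Zassenhaus group: transfer, cyclicity, inversion.
-/

set_option autoImplicit false
set_option linter.unusedSectionVars false
set_option linter.unusedVariables false
set_option linter.style.haveILetI false
set_option linter.unusedSimpArgs false
set_option linter.unnecessarySimpa false

open MulAction

namespace Cfsg.Agent.Lib.Char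

universe u v

variable {G : Type u} {Ω : Type v} [Group G] [MulAction G Ω]

theorem zass_swap_conj_mem {a b : Ω} {t y : G} (h1 : t • a = b) (h2 : t • b = a)
    (hy : y ∈ stabilizer G a ⊓ stabilizer G b) :
    t⁻¹ * y * t ∈ stabilizer G a ⊓ stabilizer G b := by
  have hya : y • a = a := hy.1
  have hyb : y • b = b := hy.2
  constructor
  · change (t⁻¹ * y * t) • a = a
    rw [mul_smul, mul_smul, h1, hyb, ← h1, inv_smul_smul] <;> rfl
  · change (t⁻¹ * y * t) • b = b
    rw [mul_smul, mul_smul, h2, hya, ← h2, inv_smul_smul] <;> rfl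

/-- Swaps are closed under inversion. -/
theorem zass_swap_inv {a b : Ω} {t : G} (h1 : t • a = b) (h2 : t • b = a) :
    t⁻¹ • a = b ∧ t⁻¹ • b = a := by
  constructor
  · rw [inv_smul_eq_iff, h2]
  · rw [inv_smul_eq_iff, h1]

theorem zass_not_comm (hZ : Cfsg.IsZassenhausGroup G Ω) {a b : Ω} (hab : a ≠ b)
    (hc : ∀ x y : G, x * y = y * x) : False := by
  obtain ⟨g, hg1, hga, -⟩ := zass_two_stabilizer_ne_bot hZ hab
  haveI := hZ.1
  apply hg1
  apply FaithfulSMul.eq_of_smul_eq_smul (α := Ω)
  intro c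
  rw [one_smul]
  by_cases hc' : a = c
  · rw [← hc', hga]
  · obtain ⟨s, hs, -⟩ := zass_two_trans hZ a c c a hc' (Ne.symm hc')
    rw [← hs, ← mul_smul, hc, mul_smul, hga]

/-- A simple Zassenhaus group has no non-trivial homomorphisms to commutative groups. -/
theorem zass_hom_trivial (hZ : Cfsg.IsZassenhausGroup G Ω) {a b : Ω} (hab : a ≠ b)
    [IsSimpleGroup G] {A : Type*} [CommGroup A] (τ : G →* A) (g : G) : τ g = 1 := by
  rcases IsSimpleGroup.eq_bot_or_eq_top_of_normal τ.ker τ.normal_ker with h | h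
  · exfalso
    refine zass_not_comm hZ hab fun x y => ?_
    have hinj : Function.Injective τ := (MonoidHom.ker_eq_bot_iff τ).mp h
    apply hinj
    rw [map_mul, map_mul, mul_comm]
  · have : g ∈ τ.ker := by rw [h]; trivial
    exact this

variable [Finite G] [Fintype Ω]

theorem zass_transfer_aux (hZ : Cfsg.IsZassenhausGroup G Ω) {a b : Ω} (hab : a ≠ b)
    [IsSimpleGroup G] {A : Type*} [CommGroup A] (E : Subgroup G)
    (hmem : ∀ g : G, g ∈ E ↔ g • a = a ∧ g • b = b)
    (ϕ : E →* A) {t : G} (h1 : t • a = b) (h2 : t • b = a)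
    (y : E) (hy : t⁻¹ * y * t ∈ E) :
    ϕ y * ϕ ⟨t⁻¹ * y * t, hy⟩ = 1 := by
  classical
  have htr := zass_hom_trivial hZ hab (MonoidHom.transfer ϕ) (y : G)
  obtain ⟨x, hxE⟩ := y
  obtain ⟨hxa, hxb⟩ := (hmem x).mp hxE
  simp only at htr hy ⊢
  have : Fintype (Quotient (orbitRel (Subgroup.zpowers x) (G ⧸ E))) := Fintype.ofFinite _
  rw [MonoidHom.transfer_eq_prod_quotient_orbitRel_zpowers_quot] at htr
  rw [← htr]
  -- conjugation invariance
  have hϕconj : ∀ (w z z' : E), (z' : G) = (w : G)⁻¹ * z * w → ϕ z = ϕ z' := by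
    intro w z z' h
    have : z' = w⁻¹ * z * w := Subtype.ext (by simpa using h)
    rw [this, map_mul, map_mul, map_inv]
    rw [mul_comm (ϕ w)⁻¹, mul_assoc, inv_mul_cancel, mul_one]
  -- the two fixed cosets
  have hfix : ∀ s : G, x • ((s : G) : G ⧸ E) = ((s : G) : G ⧸ E) → ∀ g ∈ Subgroup.zpowers x,
      g • ((s : G) : G ⧸ E) = ((s : G) : G ⧸ E) := by
    intro s hs g hg
    have hle : Subgroup.zpowers x ≤ stabilizer G ((s : G) : G ⧸ E) :=
      Subgroup.zpowers_le.mpr hs
    exact hle hg
  have hout : ∀ s : G, x • ((s : G) : G ⧸ E) = ((s : G) : G ⧸ E) →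
      (Quotient.mk'' ((s : G) : G ⧸ E) :
        Quotient (orbitRel (Subgroup.zpowers x) (G ⧸ E))).out = ((s : G) : G ⧸ E) := by
    intro s hs
    have h3 := Quotient.mk_out (s := orbitRel (Subgroup.zpowers x) (G ⧸ E)) ((s : G) : G ⧸ E)
    obtain ⟨g, hg⟩ := h3
    have h4 := hfix s hs g g.2
    exact hg.symm.trans h4
  have hfix1 : x • (((1 : G) : G) : G ⧸ E) = (((1 : G) : G) : G ⧸ E) := by
    rw [MulAction.Quotient.smul_coe, QuotientGroup.eq]
    simp only [smul_eq_mul, mul_one, inv_one, one_mul]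
    exact E.inv_mem hxE
  have hfixt : x • ((t : G) : G ⧸ E) = ((t : G) : G ⧸ E) := by
    rw [MulAction.Quotient.smul_coe, QuotientGroup.eq]
    have h3 := E.inv_mem hy
    have h4 : (x • t)⁻¹ * t = (t⁻¹ * x * t)⁻¹ := by
      simp [smul_eq_mul, mul_assoc]
    rw [h4]
    exact h3
  let q₁ : Quotient (orbitRel (Subgroup.zpowers x) (G ⧸ E)) := Quotient.mk'' (((1 : G) : G) : G ⧸ E)
  let q₂ : Quotient (orbitRel (Subgroup.zpowers x) (G ⧸ E)) := Quotient.mk'' ((t : G) : G ⧸ E)
  have hq1 : q₁.out = (((1 : G) : G) : G ⧸ E) := hout 1 hfix1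
  have hq2 : q₂.out = ((t : G) : G ⧸ E) := hout t hfixt
  have htE : t ∉ E := fun h => hab (((hmem t).mp h).1.symm.trans h1)
  have hne : q₁ ≠ q₂ := by
    intro h
    have h3 : (((1 : G) : G) : G ⧸ E) = ((t : G) : G ⧸ E) := by
      rw [← hq1, ← hq2, h]
    rw [QuotientGroup.eq] at h3
    apply htE
    simpa using h3
  rw [Finset.prod_eq_mul q₁ q₂ hne]
  · -- compute the two factors
    have hper : ∀ r : G ⧸ E, x • r = r → Function.minimalPeriod (x • ·) r = 1 := by
      intro r hr
      rw [Function.minimalPeriod_eq_one_iff_isFixedPt]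
      exact hr
    congr 1
    · have h3 : ((q₁.out.out : G) : G ⧸ E) = ((1 : G) : G ⧸ E) := by
        rw [QuotientGroup.out_eq', hq1]
      rw [QuotientGroup.eq] at h3
      have h4 : q₁.out.out ∈ E := by simpa using h3
      apply hϕconj ⟨q₁.out.out, h4⟩
      simp only
      rw [hper _ (by rw [hq1]; exact hfix1), pow_one]
    · have h3 : ((q₂.out.out : G) : G ⧸ E) = ((t : G) : G ⧸ E) := by
        rw [QuotientGroup.out_eq', hq2]
      have h4 : (q₂.out.out)⁻¹ * t ∈ E := by
        rw [QuotientGroup.eq] at h3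
        exact h3
      have h5 : t⁻¹ * q₂.out.out ∈ E := by
        have := E.inv_mem h4
        simpa using this
      apply hϕconj ⟨t⁻¹ * q₂.out.out, h5⟩
      simp only
      rw [hper _ (by rw [hq2]; exact hfixt), pow_one]
      group
  · -- other factors are trivial
    intro q _ hq
    obtain ⟨hq1', hq2'⟩ := hq
    have hsr : ((q.out.out : G) : G ⧸ E) = q.out := QuotientGroup.out_eq' q.out
    have hqr : q = Quotient.mk'' q.out := (Quotient.out_eq' q).symm
    have hz := QuotientGroup.out_conj_pow_minimalPeriod_mem E x q.out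
    have hx1 : x ^ Function.minimalPeriod (x • ·) q.out = 1 := by
      generalize Function.minimalPeriod (x • ·) q.out = m at hz
      generalize hs : q.out.out = s at hsr hz
      by_contra hne1
      obtain ⟨hsa, hsb⟩ := (hmem _).mp hz
      have hfixa : x ^ m • (s • a) = s • a := by
        have := congrArg (s • ·) hsa
        simpa [mul_smul] using this
      have hfixb : x ^ m • (s • b) = s • b := by
        have := congrArg (s • ·) hsb
        simpa [mul_smul] using this
      have hpa : x ^ m • a = a := by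
        have : x ^ m ∈ stabilizer G a := Subgroup.pow_mem _ hxa _
        exact this
      have hpb : x ^ m • b = b := by
        have : x ^ m ∈ stabilizer G b := Subgroup.pow_mem _ hxb _
        exact this
      have hsab : s • a ≠ s • b := fun h => hab (smul_left_cancel s h)
      have hca : s • a = a ∨ s • a = b := by
        by_contra hcon
        push Not at hcon
        exact hne1 (zass_eq_one hZ hab (Ne.symm hcon.2) (Ne.symm hcon.1) hpa hpb hfixa)
      have hcb : s • b = a ∨ s • b = b := by
        by_contra hcon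
        push Not at hcon
        exact hne1 (zass_eq_one hZ hab (Ne.symm hcon.2) (Ne.symm hcon.1) hpa hpb hfixb)
      rcases hca with hca | hca <;> rcases hcb with hcb | hcb
      · exact hsab (hca.trans hcb.symm)
      · -- `s ∈ E`
        apply hq1'
        rw [hqr]
        have : q.out = (((1 : G) : G) : G ⧸ E) := by
          rw [← hsr, QuotientGroup.eq]
          have hsE : s ∈ E := (hmem s).mpr ⟨hca, hcb⟩
          simpa using E.inv_mem hsE
        rw [this]
      · -- `s ∈ tE`
        apply hq2'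
        rw [hqr]
        have : q.out = ((t : G) : G ⧸ E) := by
          rw [← hsr, QuotientGroup.eq, hmem]
          constructor
          · rw [mul_smul, h1, inv_smul_eq_iff, hca]
          · rw [mul_smul, h2, inv_smul_eq_iff, hcb]
        rw [this]
      · exact hsab (hca.trans hcb.symm)
    refine (congrArg ϕ (?_ : (⟨_, hz⟩ : E) = 1)).trans (map_one ϕ)
    exact Subtype.ext (by simp [hx1])
  · intro h
    exact absurd (Finset.mem_univ _) h
  · intro h
    exact absurd (Finset.mem_univ _) h

/-- The transfer computation: for a homomorphism `ϕ` of the two-point stabilizer to a commutative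
group and a swap `t`, `ϕ y * ϕ (t⁻¹ y t) = 1`. -/
theorem zass_transfer (hZ : Cfsg.IsZassenhausGroup G Ω) {a b : Ω} (hab : a ≠ b)
    [IsSimpleGroup G] {A : Type*} [CommGroup A]
    (ϕ : (stabilizer G a ⊓ stabilizer G b : Subgroup G) →* A) {t : G} (h1 : t • a = b) (h2 : t • b = a)
    (y : (stabilizer G a ⊓ stabilizer G b : Subgroup G)) :
    ϕ y * ϕ ⟨t⁻¹ * y * t, zass_swap_conj_mem h1 h2 y.2⟩ = 1 :=
  zass_transfer_aux hZ hab _ (fun g => Iff.rfl) ϕ h1 h2 y _

/-- Existence of a third point. -/
theorem zass_exists_third (hZ : Cfsg.IsZassenhausGroup G Ω) {a b : Ω} (hab : a ≠ b) :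
    ∃ c : Ω, c ≠ a ∧ c ≠ b := by
  obtain ⟨g, hg1, hga, hgb⟩ := zass_two_stabilizer_ne_bot hZ hab
  haveI := hZ.1
  by_contra hcon
  push Not at hcon
  apply hg1
  apply FaithfulSMul.eq_of_smul_eq_smul (α := Ω)
  intro c
  rw [one_smul]
  by_cases hca : c = a
  · rw [hca, hga]
  · rw [hcon c hca, hgb]

/-- The two-point stabilizer is a Frobenius complement of the point stabilizer. -/
theorem zass_isFrobComplement (hZ : Cfsg.IsZassenhausGroup G Ω) {a b : Ω} (hab : a ≠ b) :
    Cfsg.IsFrobeniusComplement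
      ((stabilizer G a ⊓ stabilizer G b : Subgroup G).subgroupOf (stabilizer G a)) := by
  refine ⟨?_, ?_, ?_⟩
  · intro h
    obtain ⟨g, hg1, hga, hgb⟩ := zass_two_stabilizer_ne_bot hZ hab
    have h1 : (⟨g, hga⟩ : stabilizer G a) ∈
        (stabilizer G a ⊓ stabilizer G b : Subgroup G).subgroupOf (stabilizer G a) := by
      rw [Subgroup.mem_subgroupOf]
      exact ⟨hga, hgb⟩
    rw [h, Subgroup.mem_bot] at h1
    exact hg1 (congrArg Subtype.val h1)
  · intro h
    obtain ⟨c, hca, hcb⟩ := zass_exists_third hZ hab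
    obtain ⟨r, hr1, hr2⟩ := zass_two_trans hZ a b a c hab (Ne.symm hca)
    have h1 : (⟨r, hr1⟩ : stabilizer G a) ∈
        (stabilizer G a ⊓ stabilizer G b : Subgroup G).subgroupOf (stabilizer G a) := by
      rw [h]
      trivial
    rw [Subgroup.mem_subgroupOf] at h1
    exact hcb (hr2.symm.trans h1.2)
  · intro r hr
    rw [eq_bot_iff]
    intro x hx
    obtain ⟨hx1, hx2⟩ := Subgroup.mem_inf.mp hx
    rw [Subgroup.mem_bot]
    rw [Cfsg.Agent.Lib.Core.mem_conj_smul_iff] at hx2
    rw [Subgroup.mem_subgroupOf] at hx1 hx2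
    apply Subtype.ext
    have hra : (r : G) • a = a := r.2
    have hrb : (r : G) • b ≠ b := by
      intro h
      apply hr
      rw [Subgroup.mem_subgroupOf]
      exact ⟨r.2, h⟩
    have hfix : (x : G) • ((r : G) • b) = (r : G) • b := by
      have h1 : (((r⁻¹ * x * r : stabilizer G a) : G)) • b = b := hx2.2
      have h2 : ((r : G)⁻¹ * x * r) • b = b := by simpa using h1
      have := congrArg ((r : G) • ·) h2
      simpa [mul_smul] using this
    have hne : (r : G) • b ≠ a := by
      intro h
      exact hab (smul_left_cancel (r : G) (hra.trans h.symm))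
    exact zass_eq_one hZ hab (Ne.symm hrb) (Ne.symm hne) hx1.1 hx1.2 hfix

/-- Existence of the kernel. -/
theorem zass_exists_kernel (hZ : Cfsg.IsZassenhausGroup G Ω) {a b : Ω} (hab : a ≠ b) :
    ∃ H : Subgroup G, H ≤ stabilizer G a ∧ Nat.card H + 1 = Fintype.card Ω ∧
      ∀ u ∈ H, u ≠ 1 → ∀ c : Ω, u • c = c → c = a := by
  obtain ⟨N, hNset, hNn, hNc⟩ := Cfsg.Agent.Lib.FrobThm.frobenius_theorem _ (zass_isFrobComplement hZ hab)
  refine ⟨N.map (stabilizer G a).subtype, Subgroup.map_subtype_le _, ?_, ?_⟩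
  · have h1 : Nat.card (N.map (stabilizer G a).subtype) = Nat.card N :=
      Subgroup.card_map_of_injective (stabilizer G a).subtype_injective
    have h2 := hNc.card_mul
    have h3 : Nat.card ((stabilizer G a ⊓ stabilizer G b : Subgroup G).subgroupOf (stabilizer G a)) =
        Nat.card (stabilizer G a ⊓ stabilizer G b : Subgroup G) :=
      Nat.card_congr (Subgroup.subgroupOfEquivOfLe inf_le_left).toEquiv
    have h4 := zass_card_stabilizer hZ hab
    rw [h3] at h2
    have he : 0 < Nat.card (stabilizer G a ⊓ stabilizer G b : Subgroup G) := Nat.card_pos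
    haveI : Nontrivial Ω := ⟨a, b, hab⟩
    have hn : 2 ≤ Fintype.card Ω := zass_two_le_card
    have h5 : Nat.card N = Fintype.card Ω - 1 := by
      apply Nat.eq_of_mul_eq_mul_right he
      rw [h2]
      exact h4.symm.trans (mul_comm _ _)
    omega
  · rintro u ⟨v, hv, rfl⟩ hu c hc
    by_contra hca
    obtain ⟨r, hr1, hr2⟩ := zass_two_trans hZ a b a c hab (Ne.symm hca)
    have hv1 : v ≠ 1 := by
      rintro rfl
      exact hu (by simp)
    have hv2 : v ∈ Cfsg.frobeniusKernel
        ((stabilizer G a ⊓ stabilizer G b : Subgroup G).subgroupOf (stabilizer G a)) := by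
      rw [← hNset]
      exact hv
    rcases hv2 with h | h
    · exact hv1 h
    · apply h ⟨r, hr1⟩
      rw [Cfsg.Agent.Lib.Core.mem_conj_smul_iff, Subgroup.mem_subgroupOf]
      have hcv : (v : G) • c = c := hc
      have hva : (v : G) • a = a := v.2
      constructor
      · change ((⟨r, hr1⟩ : stabilizer G a)⁻¹ * v * ⟨r, hr1⟩ : stabilizer G a).1 • a = a
        exact Subgroup.mul_mem _ (Subgroup.mul_mem _ (Subgroup.inv_mem _ hr1) v.2) hr1
      · change ((⟨r, hr1⟩ : stabilizer G a)⁻¹ * v * ⟨r, hr1⟩ : stabilizer G a).1 • b = b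
        have h7 : ((⟨r, hr1⟩ : stabilizer G a)⁻¹ * v * ⟨r, hr1⟩ : stabilizer G a).1 = r⁻¹ * v * r := by
          simp
        rw [h7, mul_smul, mul_smul, hr2, hcv, ← hr2, inv_smul_smul]

/-- `h ≡ 1` mod `e`: coprimality. -/
theorem zass_coprime (hZ : Cfsg.IsZassenhausGroup G Ω) {a b : Ω} (hab : a ≠ b) :
    Nat.Coprime (Nat.card (stabilizer G a ⊓ stabilizer G b : Subgroup G)) (Fintype.card Ω - 1) := by
  have h1 := Cfsg.Agent.Lib.Hall.index_mod_card (zass_isFrobComplement hZ hab)
  have h3 : Nat.card ((stabilizer G a ⊓ stabilizer G b : Subgroup G).subgroupOf (stabilizer G a)) =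
      Nat.card (stabilizer G a ⊓ stabilizer G b : Subgroup G) :=
    Nat.card_congr (Subgroup.subgroupOfEquivOfLe inf_le_left).toEquiv
  have h4 := zass_card_stabilizer hZ hab
  have h5 := ((stabilizer G a ⊓ stabilizer G b : Subgroup G).subgroupOf (stabilizer G a)).card_mul_index
  rw [h3] at h1 h5
  have he : 0 < Nat.card (stabilizer G a ⊓ stabilizer G b : Subgroup G) := Nat.card_pos
  have h6 : ((stabilizer G a ⊓ stabilizer G b : Subgroup G).subgroupOf (stabilizer G a)).index =
      Fintype.card Ω - 1 := by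
    apply Nat.eq_of_mul_eq_mul_left he
    rw [h5, h4]
  rw [h6] at h1
  have h7 : (Fintype.card Ω - 1) ≡ 1 [MOD Nat.card (stabilizer G a ⊓ stabilizer G b : Subgroup G)] := h1
  have h8 := h7.gcd_eq
  rw [Nat.coprime_comm]
  simpa [Nat.Coprime] using h8

/-- The two-point stabilizer of odd order has cyclic Sylow subgroups. -/
theorem zass_isZGroup (hZ : Cfsg.IsZassenhausGroup G Ω) {a b : Ω} (hab : a ≠ b)
    (hodd : Odd (Nat.card (stabilizer G a ⊓ stabilizer G b : Subgroup G))) :
    IsZGroup (stabilizer G a ⊓ stabilizer G b : Subgroup G) := by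
  classical
  obtain ⟨H, hHa, hHcard, hHfix⟩ := zass_exists_kernel hZ hab
  have hcop := zass_coprime hZ hab
  refine ⟨fun p hp P => ?_⟩
  haveI := Fact.mk hp
  have hPdvd : Nat.card P ∣ Nat.card (stabilizer G a ⊓ stabilizer G b : Subgroup G) :=
    Subgroup.card_subgroup_dvd_card _
  by_cases hp2 : p = 2
  · subst hp2
    rcases P.isPGroup'.card_eq_or_dvd with h | h
    · haveI : Subsingleton P := (Nat.card_eq_one_iff_unique.mp h).1
      infer_instance
    · exact absurd (h.trans hPdvd) (by
        intro h2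
        exact (Nat.not_even_iff_odd.mpr hodd) (even_iff_two_dvd.mpr h2))
  · apply Cfsg.Agent.Lib.FF.isCyclic_of_rank_le_one P.isPGroup' hp2
    intro B hBc hBexp
    let f : (P : Subgroup (stabilizer G a ⊓ stabilizer G b : Subgroup G)) →* G :=
      (stabilizer G a ⊓ stabilizer G b : Subgroup G).subtype.comp
        (P : Subgroup (stabilizer G a ⊓ stabilizer G b : Subgroup G)).subtype
    have hf : Function.Injective f :=
      (Subgroup.subtype_injective _).comp (Subgroup.subtype_injective _)
    let B' : Subgroup G := B.map f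
    have hcard : Nat.card B' = Nat.card B := Subgroup.card_map_of_injective hf
    have hBdvd : Nat.card B' ∣ Nat.card (stabilizer G a ⊓ stabilizer G b : Subgroup G) := by
      rw [hcard]
      exact (Subgroup.card_subgroup_dvd_card B).trans hPdvd
    have hB'E : ∀ x ∈ B', x ∈ (stabilizer G a ⊓ stabilizer G b : Subgroup G) := by
      rintro x ⟨w, -, rfl⟩
      exact (w : (P : Subgroup (stabilizer G a ⊓ stabilizer G b : Subgroup G))).1.2
    have hB'c : IsMulCommutative B' := Subgroup.map_isMulCommutative _ _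
    have hhne : H ≠ ⊥ := by
      intro h
      obtain ⟨c, hca, hcb⟩ := zass_exists_third hZ hab
      have h1 : Nat.card H = 1 := by rw [h, Subgroup.card_bot]
      have h2 : 2 ≤ Fintype.card (Finset.univ.erase a : Finset Ω) := by
        simp only [Fintype.card_coe]
        apply Finset.one_lt_card.mpr
        exact ⟨b, by simp [hab.symm], c, by simp [hca], hcb.symm⟩
      simp only [Fintype.card_coe, Finset.card_erase_of_mem (Finset.mem_univ a), Finset.card_univ] at h2
      omega
    have hnorm : B' ≤ Subgroup.normalizer (H : Set G) := by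
      intro x hx
      rw [Subgroup.mem_normalizer_iff]
      intro u
      have hxa : x • a = a := (hB'E x hx).1
      have hxa' : x⁻¹ • a = a := by rw [inv_smul_eq_iff, hxa]
      constructor
      · intro hu
        exact zass_kernel_conj_mem hZ hab H hHa hHcard hHfix hxa hu
      · intro hu
        have := zass_kernel_conj_mem hZ hab H hHa hHcard hHfix hxa' hu
        have h2 : x⁻¹ * (x * u * x⁻¹) * x⁻¹⁻¹ = u := by group
        rwa [h2] at this
    have hcop2 : (Nat.card B').Coprime (Nat.card H) := by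
      have h1 : Nat.card H = Fintype.card Ω - 1 := by omega
      rw [h1]
      exact Nat.Coprime.coprime_dvd_left hBdvd hcop
    have hsolv : Group.IsSolvable B' := by
      haveI := hB'c
      exact isSolvable_of_comm (fun x y => mul_comm' x y)
    obtain ⟨V, hVH, hV, hVc, hBV⟩ := Cfsg.Agent.Lib.Hall.exists_abelian_invariant B' H hnorm hcop2 hsolv hhne
    have hcyc : IsCyclic B' := by
      apply Cfsg.Agent.Lib.Hall.isCyclic_of_fpf B' V hV hBV _ (Or.inl hB'c)
      intro y hy hy1
      rw [eq_bot_iff]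
      intro v hv0
      obtain ⟨hv1, hv2⟩ := Subgroup.mem_inf.mp hv0
      rw [Subgroup.mem_bot]
      by_contra hv
      have hvH := hVH hv1
      have hvb : v • b ≠ b := fun h => hab (hHfix v hvH hv b h).symm
      have hvba : v • b ≠ a := by
        intro h
        have hva : v • a = a := hHa hvH
        rw [← hva] at h
        exact hab (smul_left_cancel _ h).symm
      have hyE := hB'E y hy
      apply hy1
      have hcomm : y * v = v * y := by
        rw [Subgroup.mem_centralizer_iff] at hv2
        exact hv2 y (by simp)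
      have hfix : y • (v • b) = v • b := by
        rw [← mul_smul, hcomm, mul_smul, (hyE.2 : y • b = b)]
      exact zass_eq_one hZ hab (Ne.symm hvb) (Ne.symm hvba) hyE.1 hyE.2 hfix
    obtain ⟨g, hg⟩ := IsCyclic.exists_generator (α := B')
    have h1 : orderOf g = Nat.card B' := orderOf_eq_card_of_forall_mem_zpowers hg
    have h2 : g ^ p = 1 := by
      apply Subtype.ext
      obtain ⟨w, hw, hw2⟩ := g.2
      have h3 := hBexp w hw
      have h4 : ((g : G)) ^ p = f (w ^ p) := by
        rw [map_pow, hw2]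
      simpa [h3] using h4
    rw [← hcard, ← h1]
    exact Nat.le_of_dvd hp.pos (orderOf_dvd_of_pow_eq_one h2)

/-- Conjugation by a swap, as an automorphism of the two-point stabilizer. -/
def zswap {a b : Ω} {t : G} (h1 : t • a = b) (h2 : t • b = a) :
    (stabilizer G a ⊓ stabilizer G b : Subgroup G) ≃* (stabilizer G a ⊓ stabilizer G b : Subgroup G) where
  toFun y := ⟨t⁻¹ * y * t, zass_swap_conj_mem h1 h2 y.2⟩
  invFun y := ⟨t * y * t⁻¹, by
    have := zass_swap_conj_mem (zass_swap_inv h1 h2).1 (zass_swap_inv h1 h2).2 y.2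
    simpa using this⟩
  left_inv y := by
    apply Subtype.ext
    simp only
    group
  right_inv y := by
    apply Subtype.ext
    simp only
    group
  map_mul' x y := by
    apply Subtype.ext
    simp only [Subgroup.coe_mul]
    group

theorem zswap_coe {a b : Ω} {t : G} (h1 : t • a = b) (h2 : t • b = a)
    (y : (stabilizer G a ⊓ stabilizer G b : Subgroup G)) : ((zswap h1 h2 y : _) : G) = t⁻¹ * y * t := rfl

theorem zswap_symm_coe {a b : Ω} {t : G} (h1 : t • a = b) (h2 : t • b = a)
    (y : (stabilizer G a ⊓ stabilizer G b : Subgroup G)) :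
    (((zswap h1 h2).symm y : _) : G) = t * y * t⁻¹ := rfl

/-- An element with `x² = 1` and `x ^ odd = 1` is trivial. -/
theorem eq_one_of_sq_of_odd {K : Type*} [Monoid K] {x : K} {e : ℕ} (h2 : x ^ 2 = 1) (he : x ^ e = 1)
    (hodd : Odd e) : x = 1 := by
  obtain ⟨j, rfl⟩ := hodd
  rw [pow_succ, pow_mul, h2, one_pow, one_mul] at he
  exact he

/-- **The two-point stabilizer of odd order of a simple Zassenhaus group is cyclic.** -/
theorem zass_isCyclic (hZ : Cfsg.IsZassenhausGroup G Ω) {a b : Ω} (hab : a ≠ b) [IsSimpleGroup G]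
    (hodd : Odd (Nat.card (stabilizer G a ⊓ stabilizer G b : Subgroup G))) :
    IsCyclic (stabilizer G a ⊓ stabilizer G b : Subgroup G) := by
  classical
  haveI hzg := zass_isZGroup hZ hab hodd
  obtain ⟨t, h1, h2⟩ := zass_two_trans hZ a b b a hab hab.symm
  haveI hcy : IsCyclic (commutator (stabilizer G a ⊓ stabilizer G b : Subgroup G)) :=
    IsZGroup.isCyclic_commutator _
  letI : CommGroup (MulAut (commutator (stabilizer G a ⊓ stabilizer G b : Subgroup G))) :=
    (IsCyclic.mulAutMulEquiv _).toMonoidHom.commGroupOfInjective (IsCyclic.mulAutMulEquiv _).injective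
  let k : (stabilizer G a ⊓ stabilizer G b : Subgroup G) →*
      MulAut (commutator (stabilizer G a ⊓ stabilizer G b : Subgroup G)) := MulAut.conjNormal
  have hkapp : ∀ (y : (stabilizer G a ⊓ stabilizer G b : Subgroup G))
      (z : commutator (stabilizer G a ⊓ stabilizer G b : Subgroup G)),
      (((k y z : commutator (stabilizer G a ⊓ stabilizer G b : Subgroup G)) :
        (stabilizer G a ⊓ stabilizer G b : Subgroup G)) : G) = y * ((z : _) : G) * (y : G)⁻¹ := by
    intro y z
    simp [k, MulAut.conjNormal_apply]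
  have hchar : ∀ z : (stabilizer G a ⊓ stabilizer G b : Subgroup G),
      z ∈ commutator (stabilizer G a ⊓ stabilizer G b : Subgroup G) →
        (zswap h1 h2).symm z ∈ commutator (stabilizer G a ⊓ stabilizer G b : Subgroup G) := by
    intro z hz
    have h3 := (inferInstance : (commutator (stabilizer G a ⊓ stabilizer G b : Subgroup G)).Characteristic).fixed
      (zswap h1 h2).symm
    rw [← h3] at hz
    exact hz
  have hsym : ∀ y, k (zswap h1 h2 y) = k y := by
    intro y
    obtain ⟨m, hm⟩ := MonoidHom.map_cyclic ((k y).toMonoidHom)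
    apply MulEquiv.ext
    intro z
    apply Subtype.ext
    apply Subtype.ext
    rw [hkapp, hkapp]
    rw [zswap_coe]
    have hz' := hchar z z.2
    have h3 := hm ⟨_, hz'⟩
    have h4 := hm z
    have h5 : (k y) ⟨_, hz'⟩ = ⟨_, hz'⟩ ^ m := h3
    have h6 : (k y) z = z ^ m := h4
    have h7 := hkapp y ⟨_, hz'⟩
    rw [h5] at h7
    have h11 : (y : G) * ((z : (stabilizer G a ⊓ stabilizer G b : Subgroup G)) : G) * (y : G)⁻¹ =
        ((z : (stabilizer G a ⊓ stabilizer G b : Subgroup G)) : G) ^ m := by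
      rw [← hkapp y z, h6]
      simp
    rw [h11]
    push_cast at h7
    simp only [zswap_symm_coe] at h7
    have h8 : (t * (z : _) * t⁻¹ : G) ^ m = y * (t * (z : _) * t⁻¹) * (y : G)⁻¹ := h7
    have h9 : ((t⁻¹ * (y : G) * t) * ((z : _) : G) * (t⁻¹ * (y : G) * t)⁻¹) =
        t⁻¹ * (y * (t * (z : _) * t⁻¹) * (y : G)⁻¹) * t := by
      group
    rw [h9, ← h8]
    have h10 : t⁻¹ * (t * ((z : (stabilizer G a ⊓ stabilizer G b : Subgroup G)) : G) * t⁻¹) ^ m * t =
        ((z : (stabilizer G a ⊓ stabilizer G b : Subgroup G)) : G) ^ m := by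
      have := conj_zpow (a := t⁻¹) (b := (t * ((z : (stabilizer G a ⊓ stabilizer G b : Subgroup G)) : G) * t⁻¹)) (i := m)
      simp only [inv_inv] at this
      rw [← this]
      group
    exact h10
  have hk1 : ∀ y, k y = 1 := by
    intro y
    have h3 := zass_transfer hZ hab k h1 h2 y
    have h4 : k ⟨t⁻¹ * y * t, zass_swap_conj_mem h1 h2 y.2⟩ = k y := hsym y
    rw [h4] at h3
    apply eq_one_of_sq_of_odd (x := k y) (e := Nat.card (stabilizer G a ⊓ stabilizer G b : Subgroup G))
      (by rw [sq]; exact h3) _ hodd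
    rw [← map_pow, pow_card_eq_one', map_one]
  have hcen : commutator (stabilizer G a ⊓ stabilizer G b : Subgroup G) ≤
      Subgroup.center (stabilizer G a ⊓ stabilizer G b : Subgroup G) := by
    intro z hz
    rw [Subgroup.mem_center_iff]
    intro y
    have h3 := hkapp y ⟨z, hz⟩
    rw [hk1 y] at h3
    simp only [MulAut.one_apply] at h3
    apply Subtype.ext
    simp only [Subgroup.coe_mul]
    rw [eq_mul_inv_iff_mul_eq] at h3
    exact h3.symm
  haveI : Group.IsNilpotent (stabilizer G a ⊓ stabilizer G b : Subgroup G) :=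
    isNilpotent_of_ker_le_center (Abelianization.of)
      (by rw [Abelianization.ker_of]; exact hcen)
  infer_instance

/-- **A swap inverts the two-point stabilizer of odd order.** -/
theorem zass_invert (hZ : Cfsg.IsZassenhausGroup G Ω) {a b : Ω} (hab : a ≠ b) [IsSimpleGroup G]
    (hodd : Odd (Nat.card (stabilizer G a ⊓ stabilizer G b : Subgroup G))) {t : G}
    (h1 : t • a = b) (h2 : t • b = a) {y : G} (hy : y ∈ (stabilizer G a ⊓ stabilizer G b : Subgroup G)) :
    t⁻¹ * y * t = y⁻¹ := by
  classical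
  haveI := zass_isCyclic hZ hab hodd
  letI : CommGroup (stabilizer G a ⊓ stabilizer G b : Subgroup G) := IsCyclic.commGroup
  have h3 := zass_transfer hZ hab (MonoidHom.id (stabilizer G a ⊓ stabilizer G b : Subgroup G)) h1 h2 ⟨y, hy⟩
  have h4 := congrArg Subtype.val h3
  simp only [MonoidHom.id_apply] at h4
  exact eq_inv_of_mul_eq_one_right h4

/-- Every swap is an involution. -/
theorem zass_swap_sq (hZ : Cfsg.IsZassenhausGroup G Ω) {a b : Ω} (hab : a ≠ b) [IsSimpleGroup G]
    (hodd : Odd (Nat.card (stabilizer G a ⊓ stabilizer G b : Subgroup G))) {t : G}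
    (h1 : t • a = b) (h2 : t • b = a) : t ^ 2 = 1 := by
  have hmem : t ^ 2 ∈ (stabilizer G a ⊓ stabilizer G b : Subgroup G) := by
    constructor
    · change (t ^ 2) • a = a
      rw [sq, mul_smul, h1, h2]
    · change (t ^ 2) • b = b
      rw [sq, mul_smul, h2, h1]
  have h3 := zass_invert hZ hab hodd h1 h2 hmem
  have h4 : (t ^ 2) ^ 2 = 1 := by
    have h5 : t⁻¹ * t ^ 2 * t = t ^ 2 := by group
    rw [h5] at h3
    rw [sq (t ^ 2)]
    nth_rewrite 1 [h3]
    simp
  have h6 : (t ^ 2) ^ Nat.card (stabilizer G a ⊓ stabilizer G b : Subgroup G) = 1 := by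
    have := pow_card_eq_one' (x := (⟨t ^ 2, hmem⟩ : (stabilizer G a ⊓ stabilizer G b : Subgroup G)))
    simpa [Subtype.ext_iff] using this
  exact eq_one_of_sq_of_odd h4 h6 hodd

/-- Any two swaps are conjugate by an element of the two-point stabilizer. -/
theorem zass_swap_conj (hZ : Cfsg.IsZassenhausGroup G Ω) {a b : Ω} (hab : a ≠ b) [IsSimpleGroup G]
    (hodd : Odd (Nat.card (stabilizer G a ⊓ stabilizer G b : Subgroup G))) {s t : G}
    (h1 : t • a = b) (h2 : t • b = a) (h3 : s • a = b) (h4 : s • b = a) :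
    ∃ v ∈ (stabilizer G a ⊓ stabilizer G b : Subgroup G), v⁻¹ * t * v = s := by
  have hw : t⁻¹ * s ∈ (stabilizer G a ⊓ stabilizer G b : Subgroup G) := by
    have hi := zass_swap_inv h1 h2
    constructor
    · change (t⁻¹ * s) • a = a
      rw [mul_smul, h3, hi.2]
    · change (t⁻¹ * s) • b = b
      rw [mul_smul, h4, hi.1]
  obtain ⟨j, hj⟩ := hodd
  let v := (t⁻¹ * s) ^ (j + 1)
  have hv : v ∈ (stabilizer G a ⊓ stabilizer G b : Subgroup G) := Subgroup.pow_mem _ hw _
  have hv2 : v * v = t⁻¹ * s := by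
    have h5 : (t⁻¹ * s) ^ Nat.card (stabilizer G a ⊓ stabilizer G b : Subgroup G) = 1 := by
      have := pow_card_eq_one' (x := (⟨t⁻¹ * s, hw⟩ : (stabilizer G a ⊓ stabilizer G b : Subgroup G)))
      simpa [Subtype.ext_iff] using this
    have h6 : v * v = (t⁻¹ * s) ^ Nat.card (stabilizer G a ⊓ stabilizer G b : Subgroup G) * (t⁻¹ * s) := by
      rw [hj, ← pow_succ, ← pow_add]
      ring_nf
    rw [h6, h5, one_mul]
  refine ⟨v, hv, ?_⟩
  have h7 := zass_invert hZ hab ⟨j, hj⟩ h1 h2 (Subgroup.inv_mem _ hv)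
  rw [inv_inv] at h7
  have h8 : v⁻¹ * t = t * (t⁻¹ * v⁻¹ * t) := by group
  rw [h8, h7, mul_assoc, hv2]
  group

end Cfsg.Agent.Lib.Char
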