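import Cfsg.Agent.Lib.Char.ProjExt
import Cfsg.Prelude.Def_CharExt

/-!
# Determinantal characters and extensions of invariant irreducible characters.
-/

set_option autoImplicit false
set_option linter.unusedSectionVars false
set_option linter.style.haveILetI false

open scoped ComplexConjugate
open Module

namespace Cfsg.Agent.Lib.Char

open Cfsg (classInner IsCharacter IsIrrCharacter IrrCharacter IsClassFunction indFun extendByZero
  charDegree detChar detOrder)

universe u v w

section Arith

/-- An element killed by two coprime exponents is trivial. -/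
theorem eq_one_of_pow_of_coprime {M : Type*} [Monoid M] {z : M} {a b : ℕ} (ha : z ^ a = 1)
    (hb : z ^ b = 1) (h : Nat.Coprime a b) : z = 1 := by
  have h1 := Nat.dvd_gcd (orderOf_dvd_of_pow_eq_one ha) (orderOf_dvd_of_pow_eq_one hb)
  rw [h.gcd_eq_one] at h1
  exact orderOf_eq_one_iff.mp (Nat.dvd_one.mp h1)

/-- Powers modulo an exponent. -/
theorem pow_eq_pow_of_modEq {M : Type*} [Monoid M] {z : M} {o a b : ℕ} (hz : z ^ o = 1)
    (h : a ≡ b [MOD o]) : z ^ a = z ^ b := by
  have h1 : ∀ c : ℕ, z ^ c = z ^ (c % o) := by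
    intro c
    conv_lhs => rw [← Nat.div_add_mod c o, pow_add, pow_mul, hz, one_pow, one_mul]
  rw [h1 a, h1 b, h]

end Arith

section

variable {G : Type u} [Group G] {V : Type v} [AddCommGroup V] [Module ℂ V]

/-- The determinantal character of a representation. -/
theorem detChar_character [Finite G] [FiniteDimensional ℂ V] (ρ : Representation ℂ G V) (g : G) :
    detChar ρ.character g = LinearMap.det (ρ g) := by
  classical
  have h := isCharacter_character ρ
  unfold detChar
  rw [dif_pos h]
  set n := Classical.choose h with hn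
  set ρ' := Classical.choose (Classical.choose_spec h) with hρ'
  have hspec : Representation.character ρ' = ρ.character :=
    Classical.choose_spec (Classical.choose_spec h)
  obtain ⟨φ⟩ := nonempty_equiv_of_character_eq _ (Fin n → ℂ) V ρ' ρ rfl hspec
  have h1 : ρ g = φ.toLinearEquiv.conj (ρ' g) := by
    ext w
    simp only [LinearEquiv.conj_apply, LinearMap.comp_apply, LinearEquiv.coe_coe]
    have h2 := Equiv_apply_rep φ g (φ.toLinearEquiv.symm w)
    simp only [LinearEquiv.apply_symm_apply] at h2
    exact h2.symm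
  show LinearMap.det (ρ' g) = LinearMap.det (ρ g)
  rw [h1, LinearEquiv.conj_apply]
  exact (LinearMap.det_conj (ρ' g) φ.toLinearEquiv).symm

/-- The determinant of a representation as a homomorphism to the units. -/
noncomputable def detHom (ρ : Representation ℂ G V) : G →* ℂˣ :=
  MonoidHom.toHomUnits ((LinearMap.det : (V →ₗ[ℂ] V) →* ℂ).comp ρ)

theorem detHom_apply (ρ : Representation ℂ G V) (g : G) :
    (detHom ρ g : ℂ) = LinearMap.det (ρ g) := rfl

theorem det_rep_ne_zero (ρ : Representation ℂ G V) (g : G) : LinearMap.det (ρ g) ≠ 0 := by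
  rw [← detHom_apply]
  exact (detHom ρ g).ne_zero

/-- The determinantal character of a character is a character of degree one. -/
theorem detChar_isCharacter [Finite G] {χ : G → ℂ} (hχ : IsCharacter G χ) :
    IsCharacter G (detChar χ) ∧ detChar χ 1 = 1 := by
  obtain ⟨n, ρ, rfl⟩ := hχ
  have h : detChar ρ.character = fun g => (detHom ρ g : ℂ) := by
    funext g
    rw [detChar_character, detHom_apply]
  rw [h]
  exact ⟨IsIrrCharacter.isCharacter (isIrrCharacter_of_hom (detHom ρ)), by simp⟩

/-- A degree one character is its own determinantal character. -/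
theorem detChar_of_degree_one [Finite G] {χ : G → ℂ} (hχ : IsCharacter G χ) (h1 : χ 1 = 1) :
    detChar χ = χ := by
  obtain ⟨n, ρ, rfl⟩ := hχ
  have hn : finrank ℂ (Fin n → ℂ) = 1 := by
    have := Representation.char_one ρ
    rw [h1] at this
    exact_mod_cast this.symm
  funext g
  rw [detChar_character]
  conv_lhs => rw [end_eq_trace_smul_of_finrank_one hn (ρ g)]
  have h2 : ((LinearMap.trace ℂ (Fin n → ℂ)) (ρ g) • (1 : Module.End ℂ (Fin n → ℂ))) =
      (LinearMap.trace ℂ (Fin n → ℂ)) (ρ g) • (LinearMap.id : (Fin n → ℂ) →ₗ[ℂ] (Fin n → ℂ)) := rfl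
  rw [h2, LinearMap.det_smul, hn, LinearMap.det_id, pow_one, mul_one]
  rfl

/-- Scaling a representation by a linear character. -/
noncomputable def scaleRep (β : G →* ℂˣ) (σ : Representation ℂ G V) : Representation ℂ G V where
  toFun g := (β g : ℂ) • σ g
  map_one' := by simp
  map_mul' := by
    intro a b
    ext v
    simp [smul_smul]
    rw [mul_comm]

theorem scaleRep_apply (β : G →* ℂˣ) (σ : Representation ℂ G V) (g : G) :
    scaleRep β σ g = (β g : ℂ) • σ g := rfl

theorem scaleRep_character [FiniteDimensional ℂ V] (β : G →* ℂˣ) (σ : Representation ℂ G V)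
    (g : G) : (scaleRep β σ).character g = (β g : ℂ) * σ.character g := by
  simp [Representation.character, scaleRep_apply]

theorem scaleRep_det [FiniteDimensional ℂ V] (β : G →* ℂˣ) (σ : Representation ℂ G V) (g : G) :
    LinearMap.det (scaleRep β σ g) = (β g : ℂ) ^ finrank ℂ V * LinearMap.det (σ g) := by
  rw [scaleRep_apply]
  exact LinearMap.det_smul _ _

/-- Any representation of a subgroup with the same character as `X` on the same space can be
conjugated to `X`. -/
theorem exists_rep_of_extends [Finite G] {N : Subgroup G} {d : ℕ}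
    (X : Representation ℂ N (Fin d → ℂ)) {χ : G → ℂ} (hχ : IsCharacter G χ)
    (hext : ∀ n : N, χ n = X.character n) :
    ∃ σ : Representation ℂ G (Fin d → ℂ), σ.character = χ ∧ ∀ n : N, σ n = X n := by
  obtain ⟨a, ρ, rfl⟩ := hχ
  have hchar : Representation.character (MonoidHom.comp ρ N.subtype) = X.character := by
    funext n
    exact hext n
  obtain ⟨φ⟩ := nonempty_equiv_of_character_eq _ (Fin a → ℂ) (Fin d → ℂ)
    (MonoidHom.comp ρ N.subtype) X rfl hchar
  refine ⟨transport ρ φ.toLinearEquiv, ?_, fun n => ?_⟩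
  · exact (character_eq_of_equiv (transportEquiv ρ φ.toLinearEquiv)).symm
  · refine LinearMap.ext fun w => ?_
    rw [transport_apply]
    have h2 := Equiv_apply_rep φ n (φ.toLinearEquiv.symm w)
    simp only [LinearEquiv.apply_symm_apply] at h2
    exact h2

/-- Two extensions of an irreducible representation differ by a linear character of the quotient. -/
theorem exists_scale_of_two_ext {N : Subgroup G} [hN : N.Normal] [FiniteDimensional ℂ V]
    (X : Representation ℂ N V) (hX : X.IsIrreducible) (σ₁ σ₂ : Representation ℂ G V)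
    (h₁ : ∀ n : N, σ₁ n = X n) (h₂ : ∀ n : N, σ₂ n = X n) :
    ∃ β : G →* ℂˣ, (∀ n : N, β n = 1) ∧ ∀ g, σ₂ g = (β g : ℂ) • σ₁ g := by
  classical
  have hV := nontrivial_of_irr hX
  have hconj : ∀ (σ : Representation ℂ G V), (∀ n : N, σ n = X n) → ∀ (g : G) (n : N) (v : V),
      σ g (X n v) = X (nconj N g n) (σ g v) := by
    intro σ hσ g n v
    rw [← hσ, ← hσ, ← Module.End.mul_apply, ← Module.End.mul_apply, ← map_mul, ← map_mul]
    congr 2
    simp only [nconj]
    group
  have hsc : ∀ g, ∃ c : ℂ, ∀ v, σ₂ g v = c • σ₁ g v := by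
    intro g
    let Z : Module.End ℂ V := σ₂ g ∘ₗ σ₁ g⁻¹
    have hZ : ∀ (n : N) (v : V), Z (X n v) = X n (Z v) := by
      intro n v
      simp only [Z, LinearMap.comp_apply]
      rw [hconj σ₁ h₁, hconj σ₂ h₂]
      congr 2
      ext
      simp only [nconj]
      group
    obtain ⟨c, hc⟩ := schur_scalar X hX Z hZ
    refine ⟨c, fun v => ?_⟩
    have h1 := LinearMap.congr_fun hc (σ₁ g v)
    simp only [Z, LinearMap.comp_apply] at h1
    rw [← Module.End.mul_apply (σ₁ g⁻¹), ← map_mul] at h1
    simpa using h1
  choose c hc using hsc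
  obtain ⟨v₀, hv₀⟩ := exists_ne (0 : V)
  have hinj : ∀ g (a b : ℂ), (∀ v, a • σ₁ g v = b • σ₁ g v) → a = b := by
    intro g a b h
    have h1 : (a - b) • σ₁ g v₀ = 0 := by rw [sub_smul, h v₀, sub_self]
    rcases smul_eq_zero.mp h1 with h2 | h2
    · exact sub_eq_zero.mp h2
    · exfalso
      apply hv₀
      have h3 : σ₁ g⁻¹ (σ₁ g v₀) = v₀ := by
        rw [← Module.End.mul_apply, ← map_mul]
        simp
      rw [← h3, h2, map_zero]
  have hcmul : ∀ g h, c (g * h) = c g * c h := by
    intro g h
    apply hinj (g * h)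
    intro v
    rw [← hc, map_mul, map_mul, Module.End.mul_apply, hc h, map_smul, hc g, smul_smul, mul_comm,
      Module.End.mul_apply]
  have hcN : ∀ n : N, c n = 1 := by
    intro n
    apply hinj n
    intro v
    rw [← hc, one_smul, h₁, h₂]
  have hc1 : c 1 = 1 := hcN 1
  let f : G →* ℂ := ⟨⟨c, hc1⟩, hcmul⟩
  refine ⟨MonoidHom.toHomUnits f, fun n => ?_, fun g => ?_⟩
  · ext
    exact hcN n
  · ext v
    exact hc g v

end

section Ext

variable {G : Type u} [Group G]

/-- Values of a homomorphism trivial on a normal subgroup have exponent dividing the index. -/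
theorem pow_index_eq_one_of_trivial [Finite G] {N : Subgroup G} [N.Normal] (β : G →* ℂˣ)
    (hβ : ∀ n : N, β n = 1) (g : G) : (β g) ^ N.index = 1 := by
  rw [← map_pow]
  exact hβ ⟨g ^ N.index, Subgroup.pow_index_mem N g⟩

/-- Extension criterion from exponents whose gcd with the index is one. -/
theorem ProjExt.exists_rep_of_coprime [Finite G] {N : Subgroup G} [N.Normal] {U : Type v}
    [AddCommGroup U] [Module ℂ U] [Nontrivial U] {X : Representation ℂ N U} (E : ProjExt N X)
    {d : ℕ} (hd : E.IsCobExp d) (hcop : Nat.Coprime N.index d) :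
    ∃ σ : Representation ℂ G U, ∀ n : N, σ n = X n := by
  have h1 : E.IsCobExp 1 := by
    refine ProjExt.isCobExp_one_of_primes (m := N.index)
      (Nat.pos_of_ne_zero Subgroup.index_ne_zero_of_finite) E.isCobExp_index fun p hp => ?_
    by_cases hpi : p ∣ N.index
    · refine ⟨d, hd, fun h => ?_⟩
      have h2 : p ∣ d := by exact_mod_cast h
      exact hp.one_lt.ne' (Nat.eq_one_of_dvd_coprimes hcop hpi h2)
    · refine ⟨N.index, E.isCobExp_index, fun h => hpi ?_⟩
      exact_mod_cast h
  exact ProjExt.IsCobExp.exists_rep h1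

/-- The determinantal extension criterion. -/
theorem exists_irr_ext_of_det [Finite G] {N : Subgroup G} [hN : N.Normal] {d : ℕ}
    (X : Representation ℂ N (Fin d → ℂ)) (hX : X.IsIrreducible)
    (hinv : ∀ (g : G) (n : N), X.character (nconj N g n) = X.character n)
    (hcop : Nat.Coprime N.index d) (μ : G →* ℂˣ) (hμ : ∀ n : N, (μ n : ℂ) = LinearMap.det (X n)) :
    ∃ σ : Representation ℂ G (Fin d → ℂ), ∀ n : N, σ n = X n := by
  have hU := nontrivial_of_irr hX
  obtain ⟨E⟩ := exists_projExt N X hX hinv
  have h1 := E.isCobExp_of_det (fun g => (μ g : ℂ)) (fun g => (μ g).ne_zero)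
    (fun g h => by simp) 1 (fun n => by
      rw [pow_one, hμ, div_self (det_rep_ne_zero X n)])
  have h2 : finrank ℂ (Fin d → ℂ) * 1 = d := by simp
  rw [h2] at h1
  exact E.exists_rep_of_coprime h1 hcop

/-- The determinantal order gives an exponent. -/
theorem ProjExt.isCobExp_detOrder [Finite G] {N : Subgroup G} {d : ℕ}
    {X : Representation ℂ N (Fin d → ℂ)} [Nontrivial (Fin d → ℂ)] (E : ProjExt N X) :
    E.IsCobExp ((d * detOrder X.character : ℕ) : ℤ) := by
  have h1 := E.isCobExp_of_det (fun _ => 1) (fun _ => one_ne_zero) (fun _ _ => by simp)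
    (detOrder X.character) (fun n => by
      rw [div_one, ← detChar_character]
      exact congrFun (pow_orderOf_eq_one (detChar X.character)) n)
  simpa using h1

/-- The dimension is read off from a value of the character at one. -/
theorem dim_eq_of_char_one {H : Type u} [Group H] {d c : ℕ} (X : Representation ℂ H (Fin d → ℂ))
    (h : X.character 1 = c) : d = c := by
  have h1 := Representation.char_one X
  rw [h] at h1
  simp only [finrank_fin_fun] at h1
  exact_mod_cast h1.symm

/-- Extension of invariant degree one characters whose order divides into a coprime setting. -/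
theorem linear_irr_data [Finite G] {N : Subgroup G} {lam : N → ℂ} (h1 : IsCharacter N lam)
    (h2 : lam 1 = 1) :
    ∃ (X : Representation ℂ N (Fin 1 → ℂ)), X.IsIrreducible ∧ X.character = lam ∧
      detOrder X.character = orderOf lam := by
  obtain ⟨l, hl⟩ := exists_hom_of_character_one h1 h2
  have h3 : IsIrrCharacter N lam := by
    rw [hl]
    exact isIrrCharacter_of_hom l
  obtain ⟨d, X, hX, hXc⟩ := h3
  have hd : d = 1 := dim_eq_of_char_one X (by rw [hXc, h2]; simp)
  subst hd
  refine ⟨X, hX, hXc, ?_⟩
  rw [hXc]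
  unfold detOrder
  rw [detChar_of_degree_one h1 h2]

end Ext

end Cfsg.Agent.Lib.Char
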