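import Cfsg.Agent.Lib.Char.Clifford
import Cfsg.Agent.Lib.Char.Degrees

/-!
# Normal `p`-complements from `p`-power character degrees.
-/

set_option autoImplicit false
set_option linter.unusedSectionVars false
set_option linter.style.haveILetI false

open scoped ComplexConjugate
open Module

namespace Cfsg.Agent.Lib.Char

open Cfsg (classInner IsCharacter IsIrrCharacter IrrCharacter IsClassFunction indFun extendByZero
  charDegree)

universe u

variable {G : Type u} [Group G]

/-- If `p` divides the order of the abelianization of a normal subgroup `L`, then `L` has a proper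
subgroup, normal in `G`, of `p`-power index in `L`. -/
theorem exists_normal_of_dvd_index_commutator [Finite G] (p : ℕ) (hp : p.Prime) (L : Subgroup G)
    [hL : L.Normal] (hdvd : p ∣ (commutator L).index) :
    ∃ M : Subgroup G, M.Normal ∧ Nat.card M < Nat.card L ∧ ∃ k : ℕ, M.index = L.index * p ^ k := by
  classical
  haveI : Fact p.Prime := ⟨hp⟩
  haveI : Finite (Abelianization L) := inferInstanceAs (Finite (L ⧸ commutator L))
  set A := Abelianization L with hA
  have hcardA : Nat.card A = (commutator L).index := rfl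
  set r := ordCompl[p] (Nat.card A) with hr
  have hpr : Nat.card A = p ^ (Nat.card A).factorization p * r :=
    (Nat.ordProj_mul_ordCompl_eq_self _ _).symm
  have hrcop : ¬ p ∣ r := Nat.not_dvd_ordCompl hp (Nat.card_pos.ne')
  let ψ : L →* A := (powMonoidHom r).comp Abelianization.of
  -- the range is a `p`-group
  have hpg : IsPGroup p ψ.range := by
    intro y
    refine ⟨(Nat.card A).factorization p, ?_⟩
    obtain ⟨y, x, rfl⟩ := y
    ext
    show (ψ x) ^ p ^ (Nat.card A).factorization p = 1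
    show ((Abelianization.of x) ^ r) ^ p ^ (Nat.card A).factorization p = 1
    rw [← pow_mul, mul_comm, ← hpr]
    exact pow_card_eq_one'
  obtain ⟨b, hb⟩ := IsPGroup.iff_card.mp hpg
  -- it is nontrivial
  obtain ⟨x, hx⟩ := exists_prime_orderOf_dvd_card' (G := A) p (by rw [hcardA]; exact hdvd)
  obtain ⟨x₀, rfl⟩ := QuotientGroup.mk_surjective x
  have hψne : ψ x₀ ≠ 1 := by
    intro h0
    have h1 : ((QuotientGroup.mk x₀ : L ⧸ commutator L) : A) ^ r = 1 := h0
    exact hrcop (hx ▸ orderOf_dvd_of_pow_eq_one h1)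
  have hbpos : 0 < b := by
    rcases Nat.eq_zero_or_pos b with rfl | h
    · exfalso
      rw [pow_zero] at hb
      have h1 : Subsingleton ψ.range := (Nat.card_eq_one_iff_unique.mp hb).1
      have h2 : (⟨ψ x₀, x₀, rfl⟩ : ψ.range) = 1 := Subsingleton.elim _ _
      exact hψne (congrArg Subtype.val h2)
    · exact h
  have hidx : ψ.ker.index = p ^ b := by
    rw [Subgroup.index_ker, hb]
  let M : Subgroup G := ψ.ker.map L.subtype
  have hmemM : ∀ y : G, y ∈ M ↔ ∃ h : y ∈ L, (⟨y, h⟩ : L) ^ r ∈ commutator L := by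
    intro y
    constructor
    · rintro ⟨z, hz, rfl⟩
      refine ⟨z.2, ?_⟩
      have h1 : (Abelianization.of z) ^ r = 1 := hz
      rw [← map_pow, ← MonoidHom.mem_ker, Abelianization.ker_of] at h1
      exact h1
    · rintro ⟨h, hy⟩
      refine ⟨⟨y, h⟩, ?_, rfl⟩
      show (Abelianization.of (⟨y, h⟩ : L)) ^ r = 1
      rw [← map_pow, ← MonoidHom.mem_ker, Abelianization.ker_of]
      exact hy
  have hMn : M.Normal := by
    refine ⟨fun y hy g => ?_⟩
    obtain ⟨h, hy'⟩ := (hmemM y).mp hy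
    refine (hmemM _).mpr ⟨hL.conj_mem y h g, ?_⟩
    have h1 : (⟨g * y * g⁻¹, hL.conj_mem y h g⟩ : L) ^ r =
        (MulAut.conjNormal g : L ≃* L) ((⟨y, h⟩ : L) ^ r) := by
      rw [map_pow]
      rfl
    rw [h1]
    have h2 := (inferInstance : (commutator L).Characteristic).fixed (MulAut.conjNormal g : L ≃* L).symm
    have h3 : (MulAut.conjNormal g : L ≃* L) ((⟨y, h⟩ : L) ^ r) ∈
        (commutator L).comap (MulAut.conjNormal g : L ≃* L).symm.toMonoidHom := by
      rw [Subgroup.mem_comap]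
      simpa using hy'
    rwa [h2] at h3
  have hcardM : Nat.card M = Nat.card ψ.ker := by
    exact Nat.card_congr (Subgroup.equivMapOfInjective _ _ L.subtype_injective).symm.toEquiv
  have hcardL : Nat.card L = Nat.card ψ.ker * p ^ b := by
    rw [← hidx, Subgroup.card_mul_index]
  refine ⟨M, hMn, ?_, b, ?_⟩
  · rw [hcardM, hcardL]
    exact lt_mul_of_one_lt_right Nat.card_pos (Nat.one_lt_pow hbpos.ne' hp.one_lt)
  · have h1 := Subgroup.card_mul_index M
    have h2 := Subgroup.card_mul_index L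
    rw [hcardM] at h1
    rw [hcardL] at h2
    have hpos : 0 < Nat.card ψ.ker := Nat.card_pos
    apply Nat.eq_of_mul_eq_mul_left hpos
    rw [h1, ← h2]
    ring

/-- A degree of a subgroup constituent divides a degree of the group. -/
theorem exists_degree_dvd_of_normal [Fintype G] (L : Subgroup G) (hL : L.Normal) [Fintype L]
    {ϑ : L → ℂ} (hϑ : IsIrrCharacter L ϑ) :
    ∃ χ : G → ℂ, IsIrrCharacter G χ ∧ charDegree ϑ ∣ charDegree χ := by
  classical
  have hϑc := IsIrrCharacter.isCharacter hϑ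
  have hind := indFun_isCharacter L hϑc
  have hne : indFun L ϑ ≠ 0 := by
    intro h0
    have h1 := congrFun h0 1
    rw [indFun_one] at h1
    simp only [Pi.zero_apply, mul_eq_zero, Nat.cast_eq_zero] at h1
    rcases h1 with h1 | h1
    · exact Subgroup.index_ne_zero_of_finite h1
    · exact map_one_ne_zero_of_irr hϑ h1
  obtain ⟨χ, hχ, hcon⟩ := exists_constituent hind hne
  have hχc := IsIrrCharacter.isCharacter hχ
  have hcon' : classInner (fun n : L => χ n) ϑ ≠ 0 := by
    intro h0
    apply hcon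
    rw [frobenius_reciprocity L ϑ χ (IsCharacter.isClassFunction hχc),
      ← conj_classInner, h0]
    simp
  obtain ⟨e, he⟩ := classInner_isCharacter_nat (IsCharacter.restrict L hχc) hϑc
  have he0 : e ≠ 0 := by
    rintro rfl
    apply hcon'
    rw [he]
    simp
  refine ⟨χ, hχ, ?_⟩
  rw [clifford_degree hL hχ hϑ he he0]
  exact dvd_mul_left _ _

/-- All degrees powers of `p`: abelian normal `p`-complement. -/
theorem exists_abelian_complement_of_prime_power_degrees [Finite G] (p : ℕ) (hp : p.Prime)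
    (h : ∀ χ : IrrCharacter G, ∃ k : ℕ, (χ : G → ℂ) 1 = (p : ℂ) ^ k) :
    ∃ A : Subgroup G, A.Normal ∧ (∀ a ∈ A, ∀ b ∈ A, a * b = b * a) ∧ Nat.Coprime (Nat.card A) p ∧
      ∃ k : ℕ, A.index = p ^ k := by
  classical
  haveI := Fintype.ofFinite G
  -- a minimal normal subgroup of `p`-power index
  have hex : ∃ n : ℕ, ∃ L : Subgroup G, L.Normal ∧ (∃ k : ℕ, L.index = p ^ k) ∧ Nat.card L = n :=
    ⟨_, ⊤, inferInstance, ⟨0, by simp⟩, rfl⟩
  obtain ⟨L, hLn, ⟨a, ha⟩, hLc⟩ := Nat.find_spec hex
  have hmin : ∀ M : Subgroup G, M.Normal → (∃ k : ℕ, M.index = p ^ k) → Nat.card L ≤ Nat.card M := by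
    intro M hM hk
    rw [hLc]
    exact Nat.find_min' hex ⟨M, hM, hk, rfl⟩
  haveI := hLn
  haveI : Fintype L := Fintype.ofFinite L
  -- every irreducible character of `L` has `p`-power degree
  have hdeg : ∀ ϑ : IrrCharacter L, ∃ k : ℕ, charDegree (ϑ : L → ℂ) = p ^ k := by
    intro ϑ
    obtain ⟨χ, hχ, hdvd⟩ := exists_degree_dvd_of_normal L hLn ϑ.2
    obtain ⟨k, hk⟩ := h ⟨χ, hχ⟩
    have h1 : charDegree χ = p ^ k := by
      apply charDegree_natCast
      rw [show χ 1 = (p : ℂ) ^ k from hk]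
      push_cast
      rfl
    rw [h1] at hdvd
    obtain ⟨j, -, hj⟩ := (Nat.dvd_prime_pow hp).mp hdvd
    exact ⟨j, hj⟩
  -- counting
  have hsum : ∑ ϑ : IrrCharacter L, charDegree (ϑ : L → ℂ) ^ 2 = Nat.card L := by
    have h1 := sum_degree_sq (G := L)
    have h2 : ∀ ϑ : IrrCharacter L, (ϑ : L → ℂ) 1 ^ 2 = ((charDegree (ϑ : L → ℂ) ^ 2 : ℕ) : ℂ) := by
      intro ϑ
      rw [map_one_eq_charDegree (IsIrrCharacter.isCharacter ϑ.2)]
      push_cast
      rfl
    rw [Finset.sum_congr rfl fun ϑ _ => h2 ϑ] at h1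
    exact_mod_cast h1
  have hmod : ∀ ϑ : IrrCharacter L, charDegree (ϑ : L → ℂ) ≠ 1 → p ∣ charDegree (ϑ : L → ℂ) ^ 2 := by
    intro ϑ hne
    obtain ⟨k, hk⟩ := hdeg ϑ
    rw [hk] at hne ⊢
    have hk0 : k ≠ 0 := by
      rintro rfl
      exact hne (pow_zero p)
    exact dvd_pow (dvd_pow_self p hk0) two_ne_zero
  have hlin : Nat.card {ϑ : IrrCharacter L // (ϑ : L → ℂ) 1 = 1} = (commutator L).index :=
    card_linear_eq_index_commutator
  -- `p` does not divide the order of `L`
  have hcop : Nat.Coprime (Nat.card L) p := by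
    rw [Nat.coprime_comm, hp.coprime_iff_not_dvd]
    intro hdvd
    have h1 : p ∣ (commutator L).index := by
      rw [← hlin]
      have h2 : ∑ ϑ : IrrCharacter L, charDegree (ϑ : L → ℂ) ^ 2 =
          (Finset.univ.filter fun ϑ : IrrCharacter L => charDegree (ϑ : L → ℂ) = 1).card +
          ∑ ϑ ∈ Finset.univ.filter (fun ϑ : IrrCharacter L => ¬ charDegree (ϑ : L → ℂ) = 1),
            charDegree (ϑ : L → ℂ) ^ 2 := by
        rw [← Finset.sum_filter_add_sum_filter_not Finset.univ
          (fun ϑ : IrrCharacter L => charDegree (ϑ : L → ℂ) = 1)]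
        congr 1
        rw [Finset.card_eq_sum_ones]
        refine Finset.sum_congr rfl fun ϑ hϑ => ?_
        rw [(Finset.mem_filter.mp hϑ).2]
        norm_num
      have h3 : p ∣ ∑ ϑ ∈ Finset.univ.filter (fun ϑ : IrrCharacter L => ¬ charDegree (ϑ : L → ℂ) = 1),
          charDegree (ϑ : L → ℂ) ^ 2 :=
        Finset.dvd_sum fun ϑ hϑ => hmod ϑ (Finset.mem_filter.mp hϑ).2
      have h4 : p ∣ (Finset.univ.filter fun ϑ : IrrCharacter L => charDegree (ϑ : L → ℂ) = 1).card := by
        rw [hsum] at h2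
        rw [h2] at hdvd
        exact (Nat.dvd_add_left h3).mp hdvd
      have h5 : (Finset.univ.filter fun ϑ : IrrCharacter L => charDegree (ϑ : L → ℂ) = 1).card =
          Nat.card {ϑ : IrrCharacter L // (ϑ : L → ℂ) 1 = 1} := by
        rw [← Fintype.card_subtype, Nat.card_eq_fintype_card]
        refine Fintype.card_congr (Equiv.subtypeEquivRight fun ϑ => ?_)
        rw [map_one_eq_charDegree (IsIrrCharacter.isCharacter ϑ.2)]
        exact_mod_cast Iff.rfl
      rwa [h5] at h4
    obtain ⟨M, hM, hlt, k, hk⟩ := exists_normal_of_dvd_index_commutator p hp L h1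
    exact absurd (hmin M hM ⟨a + k, by rw [hk, ha, pow_add]⟩) (not_le.mpr hlt)
  refine ⟨L, hLn, fun x hx y hy => ?_, hcop, a, ha⟩
  -- `L` is abelian
  have hab : ∀ c d : L, c * d = d * c := by
    refine comm_iff_forall_irr_degree_one.mpr fun ϑ => ?_
    obtain ⟨k, hk⟩ := hdeg ϑ
    have h2 := charDegree_dvd_card ϑ.2
    rw [hk] at h2
    have hk0 : k = 0 := by
      by_contra hne
      have h3 : p ∣ Nat.card L := dvd_trans (dvd_pow_self p hne) h2
      exact hp.one_lt.ne' (Nat.eq_one_of_dvd_coprimes hcop h3 dvd_rfl)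
    rw [map_one_eq_charDegree (IsIrrCharacter.isCharacter ϑ.2), hk, hk0]
    simp
  exact congrArg Subtype.val (hab ⟨x, hx⟩ ⟨y, hy⟩)

end Cfsg.Agent.Lib.Char
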