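import Cfsg.Agent.S0857
import Cfsg.Agent.Lib.Char.Clifford2
import Cfsg.Agent.Lib.Char.Monomial

/-!
# Going down through chief factors whose order is not a square.
-/

set_option autoImplicit false
set_option linter.unusedSectionVars false
set_option linter.unusedVariables false
set_option linter.style.haveILetI false
set_option linter.unusedSimpArgs false
set_option linter.unnecessarySimpa false

open scoped ComplexConjugate

namespace Cfsg.Agent.Lib.Char

open Cfsg (classInner IsCharacter IsIrrCharacter IrrCharacter IsClassFunction indFun)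

universe u

/-- A chief factor of a solvable section is abelian. -/
theorem commutator_le_of_chief {G : Type*} [Group G] (N M L : Subgroup G) [N.Normal] [M.Normal]
    [L.Normal] (hsolv : Group.IsSolvable (G ⧸ N)) (hNL : N ≤ L) (hLM : L < M)
    (hchief : ∀ M' : Subgroup G, M'.Normal → L ≤ M' → M' ≤ M → M' = L ∨ M' = M) :
    ⁅M, M⁆ ≤ L := by
  have hsup : (⁅M, M⁆ ⊔ L).Normal := Subgroup.sup_normal _ _
  rcases hchief _ hsup le_sup_right (sup_le (Subgroup.commutator_le_left M M) hLM.le) with h | h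
  · exact le_sup_left.trans h.le
  · exfalso
    -- pass to the solvable quotient `G / L`
    haveI hsolvL : Group.IsSolvable (G ⧸ L) :=
      Group.isSolvable_of_surjective (f := QuotientGroup.map N L (MonoidHom.id G) (by simpa using hNL))
        (by
          intro q
          obtain ⟨x, rfl⟩ := QuotientGroup.mk_surjective q
          exact ⟨(x : G ⧸ N), rfl⟩)
    let X : Subgroup (G ⧸ L) := M.map (QuotientGroup.mk' L)
    have hX : X ≠ ⊥ := by
      intro h0
      have h1 : M ≤ L := by
        intro x hx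
        have h2 : (x : G ⧸ L) ∈ X := ⟨x, hx, rfl⟩
        rw [h0, Subgroup.mem_bot] at h2
        exact (QuotientGroup.eq_one_iff x).mp h2
      exact absurd h1 (not_le_of_gt hLM)
    have h1 := IsSolvable.commutator_lt_of_ne_bot hX
    apply h1.ne
    have h2 : X = (⁅M, M⁆ ⊔ L).map (QuotientGroup.mk' L) := by rw [h]
    rw [Subgroup.map_sup] at h2
    have h3 : L.map (QuotientGroup.mk' L) = ⊥ := by
      rw [eq_bot_iff]
      rintro _ ⟨x, hx, rfl⟩
      rw [Subgroup.mem_bot]
      exact (QuotientGroup.eq_one_iff x).mpr hx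
    rw [h3, sup_bot_eq, Subgroup.map_commutator] at h2
    exact h2.symm

/-- If the restriction of an irreducible character to `N` is reducible, the character is induced
from a proper subgroup containing `N`. -/
theorem exists_proper_of_not_irr {G : Type u} [Group G] [Fintype G] (N : Subgroup G) [N.Normal]
    (hsolv : Group.IsSolvable (G ⧸ N))
    (hchief : ∀ (H K L : Subgroup G), N ≤ L → L < K → K ≤ H → (∀ h ∈ H, ∀ k ∈ K, h * k * h⁻¹ ∈ K) →
      (∀ h ∈ H, ∀ l ∈ L, h * l * h⁻¹ ∈ L) →
      (∀ M : Subgroup G, L ≤ M → M ≤ K → (∀ h ∈ H, ∀ m ∈ M, h * m * h⁻¹ ∈ M) → M = L ∨ M = K) →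
      ¬ IsSquare (L.relIndex K))
    (χ : G → ℂ) (hχ : IsIrrCharacter G χ) (hnot : ¬ IsIrrCharacter N (fun n : N => χ n)) :
    ∃ (T : Subgroup G) (ψ : T → ℂ), T ≠ ⊤ ∧ N ≤ T ∧ IsIrrCharacter T ψ ∧ indFun T ψ = χ := by
  classical
  have hχc := IsIrrCharacter.isCharacter hχ
  let S : Set (Subgroup G) := {M | M.Normal ∧ N ≤ M ∧ IsIrrCharacter M (fun x : M => χ x)}
  have htop : (⊤ : Subgroup G) ∈ S :=
    ⟨inferInstance, le_top, (isIrr_comp_equiv (Subgroup.topEquiv (G := G)) hχ :)⟩
  obtain ⟨M, hMS, hMmin⟩ := (Set.toFinite S).exists_minimal ⟨_, htop⟩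
  have hMn : M.Normal := hMS.1
  have hNM : N ≤ M := hMS.2.1
  have hMirr : IsIrrCharacter M (fun x : M => χ x) := hMS.2.2
  have hNne : N ≠ M := by
    rintro rfl
    exact hnot hMirr
  have hNlt : N < M := lt_of_le_of_ne hNM hNne
  let S' : Set (Subgroup G) := {L | L.Normal ∧ N ≤ L ∧ L < M}
  have hNS' : N ∈ S' := ⟨inferInstance, le_rfl, hNlt⟩
  obtain ⟨L, hLS, hLmax⟩ := (Set.toFinite S').exists_maximal ⟨_, hNS'⟩
  haveI hLn : L.Normal := hLS.1
  have hNL : N ≤ L := hLS.2.1
  have hLM : L < M := hLS.2.2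
  have hch : ∀ M' : Subgroup G, M'.Normal → L ≤ M' → M' ≤ M → M' = L ∨ M' = M := by
    intro M' hM'n hLM' hM'M
    by_cases h : M' = M
    · exact Or.inr h
    · left
      have hlt : M' < M := lt_of_le_of_ne hM'M h
      have hmem : M' ∈ S' := ⟨hM'n, hNL.trans hLM', hlt⟩
      exact le_antisymm (hLmax hmem hLM') hLM'
  have hab : ⁅M, M⁆ ≤ L := commutator_le_of_chief N M L hsolv hNL hLM hch
  have hclass := IsCharacter.isClassFunction hχc
  have hinv : ∀ (g : G) (n : M), (fun x : M => χ x) ⟨g * n * g⁻¹, hMn.conj_mem (n : G) n.2 g⟩ =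
      (fun x : M => χ x) n := fun g n => hclass n g
  rcases Cfsg.Agent.S0857.result M L hLM hch hab (fun x : M => χ x) hMirr hinv with h | h | h
  · exfalso
    have hmem : L ∈ S := ⟨hLn, hNL, h⟩
    exact absurd (hMmin hmem hLM.le) (not_le_of_gt hLM)
  · exfalso
    obtain ⟨φ, e, -, -, he⟩ := h
    refine hchief ⊤ M L hNL hLM le_top (fun h _ k hk => hMn.conj_mem k hk h)
      (fun h _ l hl => hLn.conj_mem l hl h) ?_ ⟨e, by rw [← he, sq]⟩
    intro M' hLM' hM'M hM'c
    exact hch M' ⟨fun n hn g => hM'c g trivial n hn⟩ hLM' hM'M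
  · obtain ⟨F, hF, hcard, hsum⟩ := h
    haveI : Fintype L := Fintype.ofFinite L
    have hsum' : (fun x : L => χ x) = ∑ φ ∈ F, φ := hsum
    have hrel : 2 ≤ L.relIndex M := by
      have h0 : L.relIndex M ≠ 0 := by
        intro h0
        exact Subgroup.index_ne_zero_of_finite h0
      have h1 : L.relIndex M ≠ 1 := by
        intro h1
        exact absurd (Subgroup.relIndex_eq_one.mp h1) (not_le_of_gt hLM)
      omega
    rw [← hcard] at hrel
    obtain ⟨φ₁, hφ₁, φ₂, hφ₂, hne⟩ := Finset.one_lt_card.mp hrel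
    have hinner : ∀ φ₀ ∈ F, classInner (fun x : L => χ x) φ₀ = 1 := by
      intro φ₀ hφ₀
      rw [hsum', classInner_sum_left, Finset.sum_eq_single φ₀]
      · exact classInner_irr_self (hF _ hφ₀)
      · intro φ hφ hne
        exact classInner_irr_of_ne (hF _ hφ) (hF _ hφ₀) hne
      · intro h
        exact absurd hφ₀ h
    have hc1 : classInner (fun x : L => χ x) φ₁ ≠ 0 := by
      rw [hinner _ hφ₁]
      exact one_ne_zero
    let T := inertia hLn φ₁
    haveI : Fintype T := Fintype.ofFinite T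
    have hLT : L ≤ T := le_inertia hLn (IsCharacter.isClassFunction (IsIrrCharacter.isCharacter (hF _ hφ₁)))
    obtain ⟨ψ, hψ, hind, -⟩ := clifford_correspondence hLn (hF _ hφ₁) (rfl : T = inertia hLn φ₁) hLT hχ hc1
    refine ⟨T, ψ, ?_, hNL.trans hLT, hψ, hind⟩
    intro hT
    have hinv' : ∀ g, conjFn hLn g φ₁ = φ₁ := by
      intro g
      have : g ∈ T := by rw [hT]; trivial
      exact this
    have h1 := clifford_invariant hLn hχ (hF _ hφ₁) hinv' hc1
    have h2 := hinner _ hφ₂
    rw [h1, classInner_smul_left, classInner_irr_of_ne (hF _ hφ₁) (hF _ hφ₂) hne, mul_zero] at h2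
    exact zero_ne_one h2

/-- **Going down**: the main induction. -/
theorem dade_down_main : ∀ (n : ℕ) (G : Type u) [Group G] [Fintype G] (N : Subgroup G) [N.Normal],
    Nat.card G = n → Group.IsSolvable (G ⧸ N) →
    (∀ (H K L : Subgroup G), N ≤ L → L < K → K ≤ H → (∀ h ∈ H, ∀ k ∈ K, h * k * h⁻¹ ∈ K) →
      (∀ h ∈ H, ∀ l ∈ L, h * l * h⁻¹ ∈ L) →
      (∀ M : Subgroup G, L ≤ M → M ≤ K → (∀ h ∈ H, ∀ m ∈ M, h * m * h⁻¹ ∈ M) → M = L ∨ M = K) →
      ¬ IsSquare (L.relIndex K)) →
    ∀ χ : G → ℂ, IsIrrCharacter G χ →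
      ∃ (H : Subgroup G) (hNH : N ≤ H) (ψ : H → ℂ), IsIrrCharacter H ψ ∧ indFun H ψ = χ ∧
        IsIrrCharacter N (fun n : N => ψ ⟨(n : G), hNH n.2⟩) := by
  intro n
  induction n using Nat.strong_induction_on with
  | _ n ih =>
  intro G _ _ N _ hcard hsolv hchief χ hχ
  classical
  have hχc := IsIrrCharacter.isCharacter hχ
  have hclass := IsCharacter.isClassFunction hχc
  by_cases hirr : IsIrrCharacter N (fun n : N => χ n)
  · refine ⟨⊤, le_top, fun x => χ x, (isIrr_comp_equiv (Subgroup.topEquiv (G := G)) hχ :), ?_, hirr⟩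
    funext g
    exact indFun_top _ (fun g h => hclass g h) g
  obtain ⟨T, ψ, hT, hNT, hψ, hind⟩ := exists_proper_of_not_irr N hsolv hchief χ hχ hirr
  haveI : Fintype T := Fintype.ofFinite T
  have hlt : Nat.card T < n := by
    rw [← hcard]
    have h1 := T.card_mul_index
    have h2 : T.index ≠ 1 := fun h => hT (Subgroup.index_eq_one.mp h)
    have h3 : T.index ≠ 0 := Subgroup.index_ne_zero_of_finite
    have h4 : 0 < Nat.card T := Nat.card_pos
    have h5 : 2 ≤ T.index := by omega
    nlinarith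
  have hN'memb : ∀ x : T, x ∈ N.subgroupOf T ↔ (x : G) ∈ N := fun x => Subgroup.mem_subgroupOf
  have hsolv' : Group.IsSolvable (T ⧸ N.subgroupOf T) := by
    let f : T ⧸ N.subgroupOf T →* G ⧸ N :=
      QuotientGroup.lift _ ((QuotientGroup.mk' N).comp T.subtype) (by
        intro x hx
        exact (QuotientGroup.eq_one_iff (x : G)).mpr ((hN'memb x).mp hx))
    have hf : Function.Injective f := by
      rw [injective_iff_map_eq_one]
      intro q hq
      obtain ⟨x, rfl⟩ := QuotientGroup.mk_surjective q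
      have h1 : ((x : G) : G ⧸ N) = 1 := hq
      rw [QuotientGroup.eq_one_iff] at h1 ⊢
      exact (hN'memb x).mpr h1
    exact Group.isSolvable_of_isSolvable_injective hf
  have hchief' : ∀ (H K L : Subgroup T), N.subgroupOf T ≤ L → L < K → K ≤ H →
      (∀ h ∈ H, ∀ k ∈ K, h * k * h⁻¹ ∈ K) → (∀ h ∈ H, ∀ l ∈ L, h * l * h⁻¹ ∈ L) →
      (∀ M : Subgroup T, L ≤ M → M ≤ K → (∀ h ∈ H, ∀ m ∈ M, h * m * h⁻¹ ∈ M) → M = L ∨ M = K) →
      ¬ IsSquare (L.relIndex K) := by
    intro H K L hNL hLK hKH hKc hLc hch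
    have h1 := hchief (H.map T.subtype) (K.map T.subtype) (L.map T.subtype)
      (by
        intro x hx
        exact ⟨⟨x, hNT hx⟩, hNL ((hN'memb _).mpr hx), rfl⟩)
      (lt_of_le_of_ne (Subgroup.map_mono hLK.le) ((Subgroup.map_injective T.subtype_injective).ne hLK.ne))
      (Subgroup.map_mono hKH)
      (by
        rintro _ ⟨h, hh, rfl⟩ _ ⟨k, hk, rfl⟩
        exact ⟨h * k * h⁻¹, hKc h hh k hk, by simp⟩)
      (by
        rintro _ ⟨h, hh, rfl⟩ _ ⟨k, hk, rfl⟩
        exact ⟨h * k * h⁻¹, hLc h hh k hk, by simp⟩)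
      (by
        intro M hLM hMK hMc
        have hMT : M ≤ T := hMK.trans (Subgroup.map_subtype_le K)
        have hMmap : (M.subgroupOf T).map T.subtype = M := Subgroup.map_subgroupOf_eq_of_le hMT
        have h2 := hch (M.subgroupOf T)
          (by
            intro x hx
            exact Subgroup.mem_subgroupOf.mpr (hLM ⟨x, hx, rfl⟩))
          (by
            intro x hx
            obtain ⟨y, hy, hyx⟩ := hMK (Subgroup.mem_subgroupOf.mp hx)
            have : y = x := Subtype.ext hyx
            rwa [← this])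
          (by
            intro h hh m hm
            rw [Subgroup.mem_subgroupOf] at hm ⊢
            have h3 := hMc h ⟨h, hh, rfl⟩ m hm
            simpa using h3)
        rcases h2 with h3 | h3
        · left
          rw [← hMmap, h3]
        · right
          rw [← hMmap, h3])
    rwa [Subgroup.relIndex_map_map_of_injective _ _ T.subtype_injective] at h1
  obtain ⟨H', hNH', ψ', hψ', hind', hres'⟩ := ih (Nat.card T) hlt T (N.subgroupOf T) rfl hsolv' hchief' ψ hψ
  let e : H' ≃* H'.map T.subtype := H'.equivMapOfInjective T.subtype T.subtype_injective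
  have he : ∀ x : H', ((e x : H'.map T.subtype) : G) = ((x : T) : G) := fun _ => rfl
  have hNH : N ≤ H'.map T.subtype := by
    intro x hx
    exact ⟨⟨x, hNT hx⟩, hNH' ((hN'memb _).mpr hx), rfl⟩
  refine ⟨H'.map T.subtype, hNH, ψ' ∘ e.symm, isIrr_comp_equiv e.symm hψ', ?_, ?_⟩
  · rw [← hind, ← hind']
    symm
    apply indFun_indFun_map
    intro x
    simp only [Function.comp]
    congr 1
    apply e.injective
    rw [MulEquiv.apply_symm_apply]
    apply Subtype.ext
    rfl
  · let e2 : N.subgroupOf T ≃* N := Subgroup.subgroupOfEquivOfLe hNT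
    have h1 := isIrr_comp_equiv e2.symm hres'
    convert h1 using 1
    funext x
    simp only [Function.comp]
    congr 1
    apply e.injective
    rw [MulEquiv.apply_symm_apply]
    apply Subtype.ext
    rfl

end Cfsg.Agent.Lib.Char
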