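import Cfsg.Agent.Lib.Char.Projective

/-!
# Projective extensions: cocycles, coboundary exponents, multiplicity spaces.
-/

set_option autoImplicit false
set_option linter.unusedSectionVars false
set_option linter.style.haveILetI false

open scoped ComplexConjugate
open Module

namespace Cfsg.Agent.Lib.Char

open Cfsg (classInner IsCharacter IsIrrCharacter IrrCharacter IsClassFunction indFun extendByZero
  charDegree)

universe u v w

section

variable {G : Type u} [Group G] {U : Type v} [AddCommGroup U] [Module ℂ U]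

/-- A projective extension to `G` of a representation of a subgroup `N`. -/
structure ProjExt (N : Subgroup G) (X : Representation ℂ N U) where
  /-- the operators -/
  P : G → (U ≃ₗ[ℂ] U)
  /-- the cocycle -/
  α : G → G → ℂ
  α_ne : ∀ g h, α g h ≠ 0
  mul_apply : ∀ g h u, P g (P h u) = α g h • P (g * h) u
  coe_apply : ∀ (n : N) u, P n u = X n u
  right_apply : ∀ g (n : N) u, P (g * n) u = P g (X n u)
  left_apply : ∀ (n : N) g u, P (n * g) u = X n (P g u)

/-- Existence of projective extensions. -/
theorem exists_projExt [Finite G] [FiniteDimensional ℂ U] (N : Subgroup G) [hN : N.Normal]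
    (X : Representation ℂ N U) (hX : X.IsIrreducible)
    (hinv : ∀ (g : G) (n : N), X.character (nconj N g n) = X.character n) :
    Nonempty (ProjExt N X) := by
  classical
  have hU := nontrivial_of_irr hX
  choose e he using exists_conj_intertwiner N X hinv
  -- a choice of operators for representatives
  let P₀ : G → (U ≃ₗ[ℂ] U) := fun x => if h : x ∈ N then repEquiv X ⟨x, h⟩ else e x
  have hP₀ : ∀ (x : G) (n : N) (u : U), P₀ x (X n u) = X (nconj N x n) (P₀ x u) := by
    intro x n u
    by_cases h : x ∈ N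
    · simp only [P₀, dif_pos h, repEquiv_apply]
      rw [← Module.End.mul_apply, ← Module.End.mul_apply, ← map_mul, ← map_mul]
      congr 2
      ext
      simp [nconj]
    · simp only [P₀, dif_neg h]
      exact he x n u
  let t : G → G := fun g => Quotient.out (g : G ⧸ N)
  have ht : ∀ g, (t g)⁻¹ * g ∈ N := by
    intro g
    refine QuotientGroup.eq.mp ?_
    exact QuotientGroup.out_eq' (g : G ⧸ N)
  let nn : G → N := fun g => ⟨(t g)⁻¹ * g, ht g⟩
  let P : G → (U ≃ₗ[ℂ] U) := fun g => (P₀ (t g)) * repEquiv X (nn g)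
  have hP : ∀ g u, P g u = P₀ (t g) (X (nn g) u) := fun g u => rfl
  have hg : ∀ g, g = t g * nn g := by
    intro g
    simp [nn]
  have hright : ∀ g (n : N) u, P (g * n) u = P g (X n u) := by
    intro g n u
    have h1 : t (g * n) = t g := by
      simp only [t]
      congr 1
      exact QuotientGroup.mk_mul_of_mem g n.2
    have h2 : nn (g * n) = nn g * n := by
      ext
      simp only [nn, Subgroup.coe_mul, h1]
      group
    rw [hP, hP, h1, h2, map_mul, Module.End.mul_apply]
  have hconj : ∀ g (n : N) u, P g (X n u) = X (nconj N g n) (P g u) := by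
    intro g n u
    rw [hP, hP, ← Module.End.mul_apply, ← map_mul]
    have h1 : nn g * n = (nn g * n * (nn g)⁻¹) * nn g := by group
    rw [h1, map_mul, Module.End.mul_apply, hP₀]
    congr 2
    ext
    simp only [nconj, Subgroup.coe_mul, Subgroup.coe_inv]
    conv_rhs => rw [hg g]
    simp only [Subgroup.coe_mul, mul_inv_rev]
    group
  have hleft : ∀ (n : N) g u, P (n * g) u = X n (P g u) := by
    intro n g u
    have h1 : (n : G) * g = g * ((⟨g⁻¹ * n * g, by
        have := hN.conj_mem (n : G) n.2 g⁻¹
        simpa using this⟩ : N) : G) := by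
      simp only
      group
    rw [h1, hright, hconj]
    congr 2
    ext
    simp only [nconj]
    group
  have hcoe : ∀ (n : N) u, P n u = X n u := by
    intro n u
    have h1 : t (n : G) ∈ N := by
      have h2 := ht (n : G)
      have h3 : t (n : G) = (n : G) * ((t (n : G))⁻¹ * n)⁻¹ := by group
      rw [h3]
      exact N.mul_mem n.2 (N.inv_mem h2)
    have h2 : P₀ (t (n : G)) = repEquiv X ⟨t (n : G), h1⟩ := by
      simp only [P₀, dif_pos h1]
    rw [hP, h2, repEquiv_apply, ← Module.End.mul_apply, ← map_mul]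
    congr 2
    ext
    simp [nn]
  -- the scalars
  have hα : ∀ g h, ∃ c : ℂ, c ≠ 0 ∧ ∀ u, P g (P h u) = c • P (g * h) u := by
    intro g h
    let Z : Module.End ℂ U := ((P g).toLinearMap ∘ₗ (P h).toLinearMap) ∘ₗ (P (g * h)).symm.toLinearMap
    have hZ : ∀ (n : N) (v : U), Z (X n v) = X n (Z v) := by
      intro n v
      obtain ⟨w, rfl⟩ := (P (g * h)).surjective v
      simp only [Z, LinearMap.comp_apply, LinearEquiv.coe_coe, LinearEquiv.symm_apply_apply]
      have h1 : X n (P (g * h) w) = P (g * h) (X (nconj N (g * h)⁻¹ n) w) := by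
        rw [hconj]
        congr 2
        ext
        simp only [nconj]
        group
      rw [h1, LinearEquiv.symm_apply_apply, hconj, hconj]
      congr 2
      ext
      simp only [nconj]
      group
    obtain ⟨c, hc⟩ := schur_scalar X hX Z hZ
    have happ : ∀ u, P g (P h u) = c • P (g * h) u := by
      intro u
      have := LinearMap.congr_fun hc (P (g * h) u)
      simpa [Z] using this
    refine ⟨c, ?_, happ⟩
    rintro rfl
    obtain ⟨v, hv⟩ := exists_ne (0 : U)
    have h1 := happ v
    rw [zero_smul] at h1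
    have h2 : P h v = 0 := (P g).map_eq_zero_iff.mp h1
    exact hv ((P h).map_eq_zero_iff.mp h2)
  choose α hα0 hαm using hα
  exact ⟨⟨P, α, hα0, hαm, hcoe, hright, hleft⟩⟩

namespace ProjExt

variable {N : Subgroup G} {X : Representation ℂ N U} (E : ProjExt N X)

include E in
/-- Conjugation relation. -/
theorem conj_apply [hN : N.Normal] (g : G) (n : N) (u : U) :
    E.P g (X n u) = X (nconj N g n) (E.P g u) := by
  rw [← E.left_apply, ← E.right_apply]
  congr 2
  simp only [nconj]
  group

theorem symm_conj_apply [hN : N.Normal] (g : G) (n : N) (u : U) :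
    (E.P g).symm (X n u) = X (nconj N g⁻¹ n) ((E.P g).symm u) := by
  apply (E.P g).injective
  rw [LinearEquiv.apply_symm_apply, conj_apply, LinearEquiv.apply_symm_apply]
  congr 2
  ext
  simp only [nconj]
  group

theorem P_one (u : U) : E.P 1 u = u := by
  have := E.coe_apply 1 u
  simpa using this

variable [Nontrivial U]

/-- A scalar determined by its action. -/
theorem scalar_ext (g : G) {a b : ℂ} (h : ∀ u, a • E.P g u = b • E.P g u) : a = b := by
  obtain ⟨v, hv⟩ := exists_ne (0 : U)
  have h1 := h v
  have h2 : (a - b) • E.P g v = 0 := by rw [sub_smul, h1, sub_self]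
  rcases smul_eq_zero.mp h2 with h3 | h3
  · exact sub_eq_zero.mp h3
  · exact absurd ((E.P g).map_eq_zero_iff.mp h3) hv

theorem α_N_left (n : N) (h : G) : E.α n h = 1 := by
  apply E.scalar_ext ((n : G) * h)
  intro u
  rw [← E.mul_apply, one_smul, E.left_apply, E.coe_apply]

theorem α_N_right (g : G) (n : N) : E.α g n = 1 := by
  apply E.scalar_ext (g * (n : G))
  intro u
  rw [← E.mul_apply, one_smul, E.right_apply, E.coe_apply]

/-- The cocycle identity. -/
theorem cocycle (g h k : G) : E.α g h * E.α (g * h) k = E.α g (h * k) * E.α h k := by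
  apply E.scalar_ext (g * h * k)
  intro u
  have h1 : E.P g (E.P h (E.P k u)) = (E.α g h * E.α (g * h) k) • E.P (g * h * k) u := by
    rw [E.mul_apply g h, E.mul_apply (g * h) k, smul_smul]
  have h2 : E.P g (E.P h (E.P k u)) = (E.α g (h * k) * E.α h k) • E.P (g * h * k) u := by
    rw [E.mul_apply h k, map_smul, E.mul_apply g (h * k), smul_smul, mul_assoc g h k, mul_comm]
  rw [← h1, h2]

theorem α_right_coset (g h : G) (n : N) : E.α g (h * n) = E.α g h := by
  apply E.scalar_ext (g * h * (n : G))
  intro u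
  have h1 : E.P g (E.P (h * n) u) = E.α g (h * n) • E.P (g * h * n) u := by
    rw [E.mul_apply, mul_assoc]
  have h2 : E.P g (E.P (h * n) u) = E.α g h • E.P (g * h * n) u := by
    rw [E.right_apply, E.mul_apply, E.right_apply]
  rw [← h1, h2]

/-- Exponents for which a power of the cocycle is a coboundary of a function trivial on `N`. -/
def IsCobExp (d : ℤ) : Prop :=
  ∃ lam : G → ℂ, (∀ g, lam g ≠ 0) ∧ (∀ n : N, lam n = 1) ∧
    ∀ g h, E.α g h ^ d * lam (g * h) = lam g * lam h

theorem IsCobExp.zero : E.IsCobExp 0 :=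
  ⟨fun _ => 1, fun _ => one_ne_zero, fun _ => rfl, fun g h => by simp⟩

variable {E}

theorem IsCobExp.add {a b : ℤ} (ha : E.IsCobExp a) (hb : E.IsCobExp b) : E.IsCobExp (a + b) := by
  obtain ⟨l₁, h₁, h₁', h₁''⟩ := ha
  obtain ⟨l₂, h₂, h₂', h₂''⟩ := hb
  refine ⟨fun g => l₁ g * l₂ g, fun g => mul_ne_zero (h₁ g) (h₂ g),
    fun n => by simp [h₁', h₂'], fun g h => ?_⟩
  rw [zpow_add₀ (E.α_ne g h)]
  calc E.α g h ^ a * E.α g h ^ b * (l₁ (g * h) * l₂ (g * h))
      = (E.α g h ^ a * l₁ (g * h)) * (E.α g h ^ b * l₂ (g * h)) := by ring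
    _ = _ := by rw [h₁'', h₂'']; ring

theorem IsCobExp.mul_left {a : ℤ} (k : ℤ) (ha : E.IsCobExp a) : E.IsCobExp (k * a) := by
  obtain ⟨l₁, h₁, h₁', h₁''⟩ := ha
  refine ⟨fun g => l₁ g ^ k, fun g => zpow_ne_zero k (h₁ g), fun n => by simp [h₁'], fun g h => ?_⟩
  rw [mul_comm k a, zpow_mul]
  rw [← mul_zpow, ← mul_zpow, h₁'']

theorem IsCobExp.neg {a : ℤ} (ha : E.IsCobExp a) : E.IsCobExp (-a) := by
  have := ha.mul_left (-1)
  simpa using this

theorem IsCobExp.of_neg {a : ℤ} (ha : E.IsCobExp (-a)) : E.IsCobExp a := by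
  simpa using ha.neg

/-- If for each prime there is an exponent not divisible by the prime, the class is trivial. -/
theorem isCobExp_one_of_primes {m : ℕ} (hm : 0 < m) (hmE : E.IsCobExp m)
    (h : ∀ p : ℕ, p.Prime → ∃ d : ℤ, E.IsCobExp d ∧ ¬ (p : ℤ) ∣ d) : E.IsCobExp 1 := by
  classical
  have hex : ∃ g : ℕ, 0 < g ∧ E.IsCobExp g := ⟨m, hm, hmE⟩
  set g := Nat.find hex with hg
  obtain ⟨hg0, hgE⟩ := Nat.find_spec hex
  have hdvd : ∀ d : ℤ, E.IsCobExp d → (g : ℤ) ∣ d := by
    intro d hd
    have h1 : E.IsCobExp (d % g) := by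
      have h2 : d % (g : ℤ) = d + (-(d / g)) * g := by
        have := Int.emod_add_mul_ediv d g
        linarith [Int.mul_comm (g : ℤ) (d / g)]
      rw [h2]
      exact hd.add (hgE.mul_left _)
    have h3 : 0 ≤ d % (g : ℤ) := Int.emod_nonneg _ (by exact_mod_cast hg0.ne')
    have h4 : d % (g : ℤ) < g := Int.emod_lt_of_pos _ (by exact_mod_cast hg0)
    by_contra hnd
    have h5 : d % (g : ℤ) ≠ 0 := fun h0 => hnd (Int.dvd_of_emod_eq_zero h0)
    obtain ⟨r, hr⟩ := Int.eq_ofNat_of_zero_le h3
    have hr0 : 0 < r := by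
      rcases Nat.eq_zero_or_pos r with h6 | h6
      · subst h6
        exact absurd hr h5
      · exact h6
    have hrlt : r < g := by
      rw [hr] at h4
      exact_mod_cast h4
    exact Nat.find_min hex hrlt ⟨hr0, hr ▸ h1⟩
  have hg1 : g = 1 := by
    by_contra hne
    obtain ⟨p, hp, hpg⟩ := Nat.exists_prime_and_dvd hne
    obtain ⟨d, hd, hpd⟩ := h p hp
    exact hpd (dvd_trans (by exact_mod_cast hpg) (hdvd d hd))
  have hgE' : E.IsCobExp (g : ℤ) := hgE
  rw [hg1] at hgE'
  simpa using hgE'

/-- A trivial class gives an extension. -/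
theorem IsCobExp.exists_rep (h : E.IsCobExp 1) : ∃ σ : Representation ℂ G U, ∀ n : N, σ n = X n := by
  obtain ⟨lam, hl, hl1, hl2⟩ := h
  have h1 : (1 : G) = ((1 : N) : G) := rfl
  have hl0 : lam 1 = 1 := by rw [h1]; exact hl1 1
  refine ⟨{ toFun := fun g => (lam g)⁻¹ • (E.P g).toLinearMap, map_one' := ?_, map_mul' := ?_ }, ?_⟩
  · ext u
    simp [hl0, E.P_one]
  · intro g h
    ext u
    have h2 := hl2 g h
    rw [zpow_one] at h2
    simp only [LinearMap.smul_apply, LinearEquiv.coe_coe, Module.End.mul_apply, map_smul,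
      smul_smul, E.mul_apply g h]
    congr 1
    have h3 := hl g
    have h4 := hl h
    have h5 := hl (g * h)
    field_simp
    linear_combination -h2
  · intro n
    ext u
    simp [hl1, E.coe_apply]

/-- The index is always an exponent. -/
theorem isCobExp_index [Finite G] [N.Normal] : E.IsCobExp (N.index : ℤ) := by
  classical
  haveI : Fintype (G ⧸ N) := Fintype.ofFinite _
  let nu : G → ℂ := fun g => ∏ k : G ⧸ N, E.α g (Quotient.out k)
  have hcoset : ∀ (g h : G) (k : G ⧸ N), E.α g (h * Quotient.out k) =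
      E.α g (Quotient.out ((h : G ⧸ N) * k)) := by
    intro g h k
    have h1 : ((h * Quotient.out k : G) : G ⧸ N) = Quotient.out ((h : G ⧸ N) * k) := by
      rw [QuotientGroup.out_eq', QuotientGroup.mk_mul, QuotientGroup.out_eq']
    have h2 := QuotientGroup.eq.mp h1.symm
    have h3 := E.α_right_coset g (Quotient.out ((h : G ⧸ N) * k)) ⟨_, h2⟩
    rw [← h3]
    congr 1
    simp
  refine ⟨nu, fun g => Finset.prod_ne_zero_iff.mpr fun k _ => E.α_ne _ _, fun n => ?_, fun g h => ?_⟩
  · exact Finset.prod_eq_one fun k _ => E.α_N_left n _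
  · rw [zpow_natCast]
    have h1 : ∀ k : G ⧸ N, E.α g h * E.α (g * h) (Quotient.out k) =
        E.α g (Quotient.out ((h : G ⧸ N) * k)) * E.α h (Quotient.out k) := by
      intro k
      rw [E.cocycle, hcoset]
    have h2 := Finset.prod_congr (rfl : (Finset.univ : Finset (G ⧸ N)) = Finset.univ)
      (fun k _ => h1 k)
    rw [Finset.prod_mul_distrib, Finset.prod_mul_distrib, Finset.prod_const, Finset.card_univ] at h2
    have h3 : ∏ k : G ⧸ N, E.α g (Quotient.out ((h : G ⧸ N) * k)) = nu g :=
      Equiv.prod_comp (Equiv.mulLeft (h : G ⧸ N)) (fun k => E.α g (Quotient.out k))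
    rw [h3] at h2
    have h4 : Fintype.card (G ⧸ N) = N.index := by
      rw [Subgroup.index, Nat.card_eq_fintype_card]
    rw [h4] at h2
    exact h2

/-- Determinants give exponents: the general form. -/
theorem isCobExp_of_det [FiniteDimensional ℂ U] (mu : G → ℂ) (hmu0 : ∀ g, mu g ≠ 0)
    (hmu : ∀ g h, mu (g * h) = mu g * mu h) (k : ℕ)
    (hN : ∀ n : N, (LinearMap.det (X n) / mu n) ^ k = 1) :
    E.IsCobExp ((finrank ℂ U * k : ℕ) : ℤ) := by
  have hdet : ∀ g, LinearMap.det (E.P g).toLinearMap ≠ 0 := fun g => by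
    exact LinearEquiv.isUnit_det' _ |>.ne_zero
  have hdetN : ∀ n : N, LinearMap.det (E.P n).toLinearMap = LinearMap.det (X n) := by
    intro n
    congr 1
    ext u
    simp [E.coe_apply]
  have hmul : ∀ g h, LinearMap.det (E.P g).toLinearMap * LinearMap.det (E.P h).toLinearMap =
      E.α g h ^ finrank ℂ U * LinearMap.det (E.P (g * h)).toLinearMap := by
    intro g h
    rw [← LinearMap.det_comp, ← LinearMap.det_smul]
    congr 1
    ext u
    simp [E.mul_apply]
  refine ⟨fun g => (LinearMap.det (E.P g).toLinearMap / mu g) ^ k,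
    fun g => pow_ne_zero k (div_ne_zero (hdet g) (hmu0 g)), fun n => ?_, fun g h => ?_⟩
  · simp only [hdetN]
    exact hN n
  · rw [zpow_natCast, pow_mul]
    rw [← mul_pow, ← mul_pow]
    congr 1
    have h1 := hmul g h
    rw [hmu]
    have h2 := hmu0 g
    have h3 := hmu0 h
    rw [div_mul_div_comm, h1, mul_div_assoc']

end ProjExt

section HomSpace

variable {N : Subgroup G} {V : Type w} [AddCommGroup V] [Module ℂ V]

/-- The space of `N`-maps into a representation of the whole group. -/
noncomputable def homSpace (N : Subgroup G) (X : Representation ℂ N U) (ρ : Representation ℂ G V) :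
    Submodule ℂ (U →ₗ[ℂ] V) :=
  (Representation.linHom X (MonoidHom.comp ρ N.subtype)).invariants

theorem mem_homSpace (X : Representation ℂ N U) (ρ : Representation ℂ G V) (f : U →ₗ[ℂ] V) :
    f ∈ homSpace N X ρ ↔ ∀ (n : N) (u : U), f (X n u) = ρ n (f u) := by
  constructor
  · intro hf n u
    have h1 := LinearMap.congr_fun (hf n) (X n u)
    simp only [Representation.linHom_apply, LinearMap.comp_apply, MonoidHom.comp_apply,
      Subgroup.subtype_apply] at h1
    rw [← h1]
    congr 2
    rw [← Module.End.mul_apply, ← map_mul]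
    simp
  · intro hf n
    ext u
    simp only [Representation.linHom_apply, LinearMap.comp_apply, MonoidHom.comp_apply,
      Subgroup.subtype_apply]
    rw [hf, ← Module.End.mul_apply, ← map_mul]
    simp

/-- The dimension of the multiplicity space is the inner product. -/
theorem finrank_homSpace [Finite G] [FiniteDimensional ℂ U] [FiniteDimensional ℂ V] [Fintype N]
    (X : Representation ℂ N U) (ρ : Representation ℂ G V) :
    (finrank ℂ (homSpace N X ρ) : ℂ) = classInner (fun n : N => ρ.character n) X.character := by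
  have h1 := classInner_character X (MonoidHom.comp ρ N.subtype)
  have h2 : Representation.character (MonoidHom.comp ρ N.subtype) =
      fun n : N => ρ.character n := rfl
  rw [h2] at h1
  rw [h1]
  exact congrArg _ (Representation.invariantsEquivIntertwiningMap X
    (MonoidHom.comp ρ N.subtype)).finrank_eq

end HomSpace

namespace ProjExt

variable {N : Subgroup G} {X : Representation ℂ N U} (E : ProjExt N X)
  {V : Type w} [AddCommGroup V] [Module ℂ V]

/-- The action of `G` on the multiplicity space. -/
noncomputable def homT [N.Normal] (ρ : Representation ℂ G V) (g : G) : homSpace N X ρ →ₗ[ℂ] homSpace N X ρ where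
  toFun f := ⟨(ρ g) ∘ₗ f.1 ∘ₗ (E.P g).symm.toLinearMap, by
    rw [mem_homSpace]
    intro n u
    simp only [LinearMap.comp_apply, LinearEquiv.coe_coe]
    rw [E.symm_conj_apply, (mem_homSpace X ρ f.1).mp f.2, ← Module.End.mul_apply, ← map_mul,
      ← Module.End.mul_apply, ← map_mul]
    congr 2
    simp only [nconj]
    group⟩
  map_add' := by
    intro a b
    ext u
    simp
  map_smul' := by
    intro c a
    ext u
    simp

theorem homT_apply [N.Normal] (ρ : Representation ℂ G V) (g : G) (f : homSpace N X ρ) (u : U) :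
    (E.homT ρ g f).1 u = ρ g (f.1 ((E.P g).symm u)) := rfl

theorem symm_mul_apply (g h : G) (u : U) :
    (E.P h).symm ((E.P g).symm u) = (E.α g h)⁻¹ • (E.P (g * h)).symm u := by
  have h1 := E.mul_apply g h ((E.P (g * h)).symm u)
  rw [LinearEquiv.apply_symm_apply] at h1
  have h2 : E.P h ((E.P (g * h)).symm u) = E.α g h • (E.P g).symm u := by
    apply (E.P g).injective
    rw [h1, map_smul, LinearEquiv.apply_symm_apply]
  have h3 : (E.P (g * h)).symm u = E.α g h • (E.P h).symm ((E.P g).symm u) := by
    apply (E.P h).injective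
    rw [h2, map_smul, LinearEquiv.apply_symm_apply]
  rw [h3, smul_smul, inv_mul_cancel₀ (E.α_ne g h), one_smul]

theorem homT_mul [N.Normal] (ρ : Representation ℂ G V) (g h : G) (f : homSpace N X ρ) :
    E.homT ρ g (E.homT ρ h f) = (E.α g h)⁻¹ • E.homT ρ (g * h) f := by
  ext u
  simp only [homT_apply, Submodule.coe_smul, LinearMap.smul_apply]
  rw [E.symm_mul_apply, map_smul, map_smul, map_mul, Module.End.mul_apply, map_smul]

theorem homT_N [N.Normal] [Nontrivial U] (ρ : Representation ℂ G V) (n : N) (f : homSpace N X ρ) :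
    E.homT ρ n f = f := by
  ext u
  simp only [homT_apply]
  obtain ⟨w, rfl⟩ := (E.P n).surjective u
  rw [LinearEquiv.symm_apply_apply, E.coe_apply, (mem_homSpace X ρ f.1).mp f.2]

theorem homT_one [N.Normal] (ρ : Representation ℂ G V) (f : homSpace N X ρ) :
    E.homT ρ 1 f = f := by
  ext u
  simp only [homT_apply, map_one, Module.End.one_apply]
  congr 1
  apply (E.P 1).injective
  rw [LinearEquiv.apply_symm_apply, E.P_one]

/-- The dimension of the multiplicity space is an exponent. -/
theorem isCobExp_finrank_homSpace [N.Normal] [Nontrivial U] [FiniteDimensional ℂ U]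
    [FiniteDimensional ℂ V] (ρ : Representation ℂ G V) :
    E.IsCobExp (finrank ℂ (homSpace N X ρ) : ℤ) := by
  apply IsCobExp.of_neg
  have hmul : ∀ g h, LinearMap.det (E.homT ρ g) * LinearMap.det (E.homT ρ h) =
      ((E.α g h)⁻¹) ^ finrank ℂ (homSpace N X ρ) * LinearMap.det (E.homT ρ (g * h)) := by
    intro g h
    rw [← LinearMap.det_comp, ← LinearMap.det_smul]
    congr 1
    ext f u
    simp only [LinearMap.comp_apply, homT_mul]
    rfl
  have hone : LinearMap.det (E.homT ρ 1) = 1 := by
    have : E.homT ρ 1 = LinearMap.id := by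
      ext f u
      simp [homT_one]
    rw [this, LinearMap.det_id]
  have hN : ∀ n : N, LinearMap.det (E.homT ρ n) = 1 := by
    intro n
    have : E.homT ρ n = LinearMap.id := by
      ext f u
      simp [homT_N]
    rw [this, LinearMap.det_id]
  have hne : ∀ g, LinearMap.det (E.homT ρ g) ≠ 0 := by
    intro g h0
    have h1 := hmul g g⁻¹
    rw [h0, zero_mul, mul_inv_cancel, hone, mul_one] at h1
    exact pow_ne_zero _ (inv_ne_zero (E.α_ne g g⁻¹)) h1.symm
  refine ⟨fun g => LinearMap.det (E.homT ρ g), hne, hN, fun g h => ?_⟩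
  rw [hmul, zpow_neg, zpow_natCast, inv_pow]

end ProjExt

end

section Ind

variable {G : Type u} [Group G]

/-- Restricting to a normal subgroup the function induced from an extension of an invariant
function. -/
theorem indFun_restrict_of_invariant [Fintype G] (N : Subgroup G) [hN : N.Normal] (P : Subgroup G)
    (hNP : N ≤ P) (η : P → ℂ) (ϑ : N → ℂ) (hext : ∀ n : N, η ⟨n, hNP n.2⟩ = ϑ n)
    (hinv : ∀ (g : G) (n : N), ϑ (nconj N g n) = ϑ n) (n : N) :
    indFun P η n = (P.index : ℂ) * ϑ n := by
  have h1 : ∀ x : G, extendByZero P η (x⁻¹ * n * x) = ϑ n := by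
    intro x
    have hm : x⁻¹ * (n : G) * x ∈ N := by
      have := hN.conj_mem (n : G) n.2 x⁻¹
      simpa using this
    rw [extendByZero_of_mem P η (hNP hm)]
    have h2 := hext ⟨_, hm⟩
    refine h2.trans ?_
    rw [← hinv x⁻¹ n]
    congr 1
    ext
    simp [nconj]
  rw [indFun_apply, Finset.sum_congr rfl fun x _ => h1 x, Finset.sum_const, Finset.card_univ,
    nsmul_eq_mul, ← mul_assoc, ← Nat.card_eq_fintype_card, ← Subgroup.card_mul_index P]
  have hc := card_subgroup_ne_zero P
  push_cast
  field_simp

end Ind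

section Main

variable {G : Type u} [Group G]

/-- Subgroups to which an invariant irreducible character extends contribute their index as an
exponent. -/
theorem ProjExt.isCobExp_index_of_extends [Finite G] {N : Subgroup G} [hN : N.Normal] {d : ℕ}
    {X : Representation ℂ N (Fin d → ℂ)} (hX : X.IsIrreducible) (E : ProjExt N X)
    (hinv : ∀ (g : G) (n : N), X.character (nconj N g n) = X.character n)
    (P : Subgroup G) (hNP : N ≤ P) (η : P → ℂ) (hη : IsCharacter P η)
    (hext : ∀ n : N, η ⟨n, hNP n.2⟩ = X.character n) : E.IsCobExp (P.index : ℤ) := by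
  classical
  haveI := Fintype.ofFinite G
  haveI := Fintype.ofFinite N
  have hU := nontrivial_of_irr hX
  obtain ⟨m, ρ, hρ⟩ := indFun_isCharacter P hη
  have h1 := E.isCobExp_finrank_homSpace ρ
  have h2 := finrank_homSpace X ρ
  have h3 : (fun n : N => ρ.character n) = (P.index : ℂ) • X.character := by
    funext n
    rw [hρ, indFun_restrict_of_invariant N P hNP η X.character hext hinv n]
    rfl
  rw [h3, classInner_smul_left, classInner_irr_self ⟨d, X, hX, rfl⟩, mul_one] at h2
  have h4 : finrank ℂ (homSpace N X ρ) = P.index := by exact_mod_cast h2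
  rwa [h4] at h1

end Main

end Cfsg.Agent.Lib.Char
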