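import Cfsg.Agent.Lib.Char.Dade
import Cfsg.Agent.Lib.Char.ProjExt
import Cfsg.Agent.Lib.Char.Constituent
import Cfsg.Agent.Lib.Char.Burnside
import Mathlib.GroupTheory.FiniteAbelian.Duality

/-!
# Extending invariant characters: consequences of Dade's detection theorem.
-/

set_option autoImplicit false
set_option linter.unusedSectionVars false
set_option linter.style.haveILetI false
set_option linter.unusedSimpArgs false
set_option linter.unnecessarySimpa false

open scoped ComplexConjugate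
open Module

namespace Cfsg.Agent.Lib.Char

open Cfsg (classInner IsCharacter IsIrrCharacter IrrCharacter IsClassFunction indFun
  extendByZero charDegree IsElementary IsGeneralizedCharacter)

universe u v

section Glue

/-- Homomorphisms to `ℂˣ` extend along injections into finite commutative groups. -/
theorem exists_extend_hom {A : Type u} {B : Type v} [Group A] [Group B] [Finite A]
    (hA : ∀ a b : A, a * b = b * a) (κ : B →* A) (hκ : Function.Injective κ) (f : B →* ℂˣ) :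
    ∃ F : A →* ℂˣ, ∀ b, F (κ b) = f b := by
  classical
  letI : CommGroup A := { (inferInstance : Group A) with mul_comm := hA }
  let e : B ≃* κ.range := MonoidHom.ofInjective hκ
  haveI : NeZero (Monoid.exponent A) := ⟨Monoid.exponent_ne_zero_of_finite⟩
  obtain ⟨F, hF⟩ := MonoidHom.domRestrict_surjective (G := A) (M := ℂ) κ.range
    (f.comp e.symm.toMonoidHom)
  refine ⟨F, fun b => ?_⟩
  have h1 := DFunLike.congr_fun hF (e b)
  have h2 : ((e b : κ.range) : A) = κ b := rfl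
  simp only [MonoidHom.domRestrictHom_apply, MonoidHom.domRestrict_apply, MonoidHom.comp_apply,
    MulEquiv.coe_toMonoidHom, MulEquiv.symm_apply_apply, h2] at h1
  exact h1

/-- Gluing homomorphisms on a central subgroup and a complement. -/
theorem exists_glue_hom {E : Type u} [Group E] (C Q : Subgroup E)
    (hcent : ∀ c ∈ C, ∀ e : E, c * e = e * c) (hinf : C ⊓ Q = ⊥)
    (hdec : ∀ e : E, ∃ c ∈ C, ∃ q ∈ Q, c * q = e) (f : C →* ℂˣ) (h : Q →* ℂˣ) :
    ∃ F : E →* ℂˣ, (∀ c : C, F c = f c) ∧ ∀ q : Q, F q = h q := by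
  classical
  let π : C × Q →* E := C.subtype.noncommCoprod Q.subtype (fun c q => hcent c c.2 q)
  have hπ : ∀ a : C × Q, π a = (a.1 : E) * (a.2 : E) := fun a => rfl
  have hinj : Function.Injective π := by
    rw [injective_iff_map_eq_one]
    intro a ha
    rw [hπ] at ha
    have h1 : (a.1 : E) = (a.2 : E)⁻¹ := eq_inv_of_mul_eq_one_left ha
    have h2 : (a.1 : E) ∈ C ⊓ Q := ⟨a.1.2, by rw [h1]; exact Q.inv_mem a.2.2⟩
    rw [hinf, Subgroup.mem_bot] at h2
    have h3 : (a.2 : E) = 1 := by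
      rw [h2, one_mul] at ha
      exact ha
    exact Prod.ext (Subtype.ext h2) (Subtype.ext h3)
  have hsurj : Function.Surjective π := by
    intro e
    obtain ⟨c, hc, q, hq, rfl⟩ := hdec e
    exact ⟨(⟨c, hc⟩, ⟨q, hq⟩), rfl⟩
  let e : C × Q ≃* E := MulEquiv.ofBijective π ⟨hinj, hsurj⟩
  refine ⟨(f.coprod h).comp e.symm.toMonoidHom, ?_, ?_⟩
  · intro c
    have h1 : e (c, 1) = c := by
      show π (c, 1) = c
      rw [hπ]
      simp
    have h2 : e.symm (c : E) = (c, 1) := by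
      rw [← h1, MulEquiv.symm_apply_apply]
    simp [h2]
  · intro q
    have h1 : e (1, q) = q := by
      show π (1, q) = q
      rw [hπ]
      simp
    have h2 : e.symm (q : E) = (1, q) := by
      rw [← h1, MulEquiv.symm_apply_apply]
    simp [h2]

end Glue

section Main

variable {G : Type u} [Group G] [Fintype G]

/-- The extension step for `p`-elementary subgroups under the central hypothesis on a Sylow
subgroup. -/
theorem exists_elementary_extension {p : ℕ} [hp : Fact p.Prime] (N : Subgroup G) [hN : N.Normal]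
    (k : ℕ) (hk : N.index = p ^ k) (P : Sylow p G)
    (hcent : ∀ x ∈ (P : Subgroup G) ⊓ N, ∀ y ∈ (P : Subgroup G), x * y = y * x)
    (hlin : ∀ lam : ↥((P : Subgroup G) ⊓ N) → ℂ, IsCharacter ↥((P : Subgroup G) ⊓ N) lam →
      lam 1 = 1 → ∃ μ : ↥(P : Subgroup G) → ℂ, IsCharacter ↥(P : Subgroup G) μ ∧ μ 1 = 1 ∧
        ∀ x : ↥((P : Subgroup G) ⊓ N), μ ⟨(x : G), x.2.1⟩ = lam x)
    (E : Subgroup G) (hE : IsElementary p E) {φ : (E ⊓ N : Subgroup G) → ℂ}
    (hφ : IsIrrCharacter (E ⊓ N : Subgroup G) φ) :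
    ∃ η : E → ℂ, IsCharacter E η ∧ ∀ d : (E ⊓ N : Subgroup G), η ⟨d, d.2.1⟩ = φ d := by
  classical
  obtain ⟨x, hxc, hxco, j, hj⟩ := hE
  obtain ⟨Q⟩ : Nonempty (Sylow p E) := inferInstance
  set C : Subgroup E := Subgroup.zpowers x with hC
  have hCcent : ∀ c ∈ C, ∀ e : E, c * e = e * c := by
    intro c hc e
    have h1 : C ≤ Subgroup.center E := Subgroup.zpowers_le.mpr hxc
    exact (Subgroup.mem_center_iff.mp (h1 hc) e).symm
  -- `C` lies in `N`
  have hxN : (x : G) ∈ N := by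
    have hco : Nat.Coprime (p ^ k) (orderOf x) := (Nat.Coprime.pow_left k hxco.symm)
    obtain ⟨m, hm⟩ := exists_pow_eq_self_of_coprime hco
    have h1 : (x : G) ^ (p ^ k) ∈ N := by
      rw [← hk]
      exact Subgroup.pow_index_mem N (x : G)
    have h2 : ((x : G) ^ (p ^ k)) ^ m = (x : G) := congrArg Subtype.val hm
    rw [← h2]
    exact N.pow_mem h1 m
  have hCN : ∀ c ∈ C, (c : G) ∈ N := by
    intro c hc
    obtain ⟨i, rfl⟩ := Subgroup.mem_zpowers_iff.mp hc
    simpa using N.zpow_mem hxN i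
  -- the decomposition
  have hinf : C ⊓ (Q : Subgroup E) = ⊥ := by
    apply Subgroup.inf_eq_bot_of_coprime
    rw [hC, Nat.card_zpowers]
    obtain ⟨n, hn⟩ := IsPGroup.iff_card.mp Q.isPGroup'
    rw [hn]
    exact Nat.Coprime.pow_right n hxco
  have hsup : C ⊔ (Q : Subgroup E) = ⊤ := by
    have h1 : (C ⊔ (Q : Subgroup E)).index ∣ p ^ j := by
      rw [← hj]
      exact Subgroup.index_dvd_of_le le_sup_left
    have h2 : (C ⊔ (Q : Subgroup E)).index ∣ (Q : Subgroup E).index :=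
      Subgroup.index_dvd_of_le le_sup_right
    obtain ⟨i, _, hi⟩ := (Nat.dvd_prime_pow hp.out).mp h1
    have hi0 : i = 0 := by
      by_contra hne
      obtain ⟨i', rfl⟩ := Nat.exists_eq_succ_of_ne_zero hne
      apply Q.not_dvd_index
      rw [hi] at h2
      exact (dvd_pow_self p (Nat.succ_ne_zero i')).trans h2
    rw [← Subgroup.index_eq_one, hi, hi0, pow_zero]
  haveI hCn : C.Normal := ⟨fun n hn g => by
    rw [← hCcent n hn g, mul_assoc, mul_inv_cancel, mul_one]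
    exact hn⟩
  have hdec : ∀ e : E, ∃ c ∈ C, ∃ q ∈ (Q : Subgroup E), c * q = e := by
    intro e
    have h1 : e ∈ ((C ⊔ (Q : Subgroup E) : Subgroup E) : Set E) := by
      rw [hsup]
      trivial
    rw [Subgroup.normal_mul] at h1
    obtain ⟨c, hc, q, hq, rfl⟩ := Set.mem_mul.mp h1
    exact ⟨c, hc, q, hq, rfl⟩
  -- conjugating `Q` into `P`
  have hQ' : IsPGroup p ((Q : Subgroup E).map E.subtype) := Q.isPGroup'.map E.subtype
  obtain ⟨S, hS⟩ := hQ'.exists_le_sylow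
  obtain ⟨g, hg⟩ := MulAction.exists_smul_eq G S P
  have hgQ : ∀ q ∈ (Q : Subgroup E), g * (q : G) * g⁻¹ ∈ (P : Subgroup G) := by
    intro q hq
    rw [← hg, Sylow.coe_subgroup_smul]
    have h2 : (q : G) ∈ (S : Subgroup G) := hS ⟨q, hq, rfl⟩
    exact Subgroup.smul_mem_pointwise_smul _ (MulAut.conj g) _ h2
  have hgQN : ∀ q ∈ (Q : Subgroup E), (q : G) ∈ N →
      g * (q : G) * g⁻¹ ∈ (P : Subgroup G) ⊓ N := by
    intro q hq hqN
    exact ⟨hgQ q hq, hN.conj_mem _ hqN g⟩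
  have hQcomm : ∀ q₁ ∈ (Q : Subgroup E), ∀ q₂ ∈ (Q : Subgroup E), (q₁ : G) ∈ N →
      (q₁ : G) * q₂ = q₂ * q₁ := by
    intro q₁ h₁ q₂ h₂ hN₁
    have h3 := hcent _ (hgQN q₁ h₁ hN₁) _ (hgQ q₂ h₂)
    have h4 : g * ((q₁ : G) * q₂) * g⁻¹ = g * ((q₂ : G) * q₁) * g⁻¹ := by
      calc g * ((q₁ : G) * q₂) * g⁻¹ = (g * q₁ * g⁻¹) * (g * q₂ * g⁻¹) := by group
        _ = (g * q₂ * g⁻¹) * (g * q₁ * g⁻¹) := h3
        _ = g * ((q₂ : G) * q₁) * g⁻¹ := by group
    exact mul_left_cancel (mul_right_cancel h4)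
  -- the part of an element of `D` in `Q`
  have hqN : ∀ e : E, (e : G) ∈ N → ∀ c ∈ C, ∀ q : E, c * q = e → (q : G) ∈ N := by
    intro e he c hc q hcq
    have h1 : (q : G) = ((c : G))⁻¹ * e := by
      rw [← hcq]
      simp
    rw [h1]
    exact N.mul_mem (N.inv_mem (hCN c hc)) he
  -- `D` is commutative
  have hDcomm : ∀ a b : (E ⊓ N : Subgroup G), a * b = b * a := by
    intro a b
    obtain ⟨c₁, hc₁, q₁, hq₁, h₁⟩ := hdec ⟨a, a.2.1⟩
    obtain ⟨c₂, hc₂, q₂, hq₂, h₂⟩ := hdec ⟨b, b.2.1⟩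
    have hq₁N := hqN ⟨a, a.2.1⟩ a.2.2 c₁ hc₁ q₁ h₁
    have h1 : (q₁ : G) * q₂ = q₂ * q₁ := hQcomm q₁ hq₁ q₂ hq₂ hq₁N
    have h1' : q₁ * q₂ = q₂ * q₁ := Subtype.ext h1
    have h2 : (⟨a, a.2.1⟩ : E) * ⟨b, b.2.1⟩ = ⟨b, b.2.1⟩ * ⟨a, a.2.1⟩ := by
      rw [← h₁, ← h₂]
      have h3 : q₁ * c₂ = c₂ * q₁ := (hCcent c₂ hc₂ q₁).symm
      have h4 : q₂ * c₁ = c₁ * q₂ := (hCcent c₁ hc₁ q₂).symm
      have h5 : c₁ * c₂ = c₂ * c₁ := hCcent c₁ hc₁ c₂
      calc c₁ * q₁ * (c₂ * q₂) = c₁ * (q₁ * c₂) * q₂ := by group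
        _ = (c₁ * c₂) * (q₁ * q₂) := by rw [h3]; group
        _ = (c₂ * c₁) * (q₂ * q₁) := by rw [h5, h1']
        _ = c₂ * (c₁ * q₂) * q₁ := by group
        _ = c₂ * q₂ * (c₁ * q₁) := by rw [← h4]; group
    exact Subtype.ext (congrArg (fun e : E => (e : G)) h2)
  have hφ1 := charDegree_eq_one_of_comm hDcomm hφ
  obtain ⟨lam, rfl⟩ := exists_hom_of_character_one (IsIrrCharacter.isCharacter hφ) hφ1
  -- the extension to `P ⊓ N` and to `P`
  let B : Subgroup (Q : Subgroup E) := N.comap (E.subtype.comp (Q : Subgroup E).subtype)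
  have hBmem : ∀ b : B, ((b : (Q : Subgroup E)) : G) ∈ N := fun b => b.2
  let κ : B →* ((P : Subgroup G) ⊓ N : Subgroup G) := MonoidHom.mk'
    (fun b => ⟨g * ((b : (Q : Subgroup E)) : G) * g⁻¹,
      hgQN (b : (Q : Subgroup E)) (b : (Q : Subgroup E)).2 (hBmem b)⟩)
    (fun a b => Subtype.ext (by
      show g * (((a : (Q : Subgroup E)) : G) * ((b : (Q : Subgroup E)) : G)) * g⁻¹ = _
      simp [mul_assoc]))
  have hκ : Function.Injective κ := by
    intro a b hab
    have h1 : g * ((a : (Q : Subgroup E)) : G) * g⁻¹ = g * ((b : (Q : Subgroup E)) : G) * g⁻¹ :=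
      congrArg Subtype.val hab
    exact Subtype.ext (Subtype.ext (Subtype.ext (mul_left_cancel (mul_right_cancel h1))))
  let f : B →* ℂˣ := lam.comp (MonoidHom.mk'
    (fun b => (⟨((b : (Q : Subgroup E)) : G), (b : (Q : Subgroup E)).1.2, hBmem b⟩ :
      (E ⊓ N : Subgroup G))) (fun a b => rfl))
  obtain ⟨F, hF⟩ := exists_extend_hom (A := ((P : Subgroup G) ⊓ N : Subgroup G))
    (fun a b => Subtype.ext (hcent a a.2 b b.2.1)) κ hκ f
  obtain ⟨μ, hμ, hμ1, hμF⟩ := hlin (fun a => (F a : ℂ))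
    (IsIrrCharacter.isCharacter (isIrrCharacter_of_hom F)) (by simp)
  obtain ⟨μ', rfl⟩ := exists_hom_of_character_one hμ hμ1
  let κ' : (Q : Subgroup E) →* (P : Subgroup G) := MonoidHom.mk'
    (fun q => ⟨g * ((q : E) : G) * g⁻¹, hgQ q q.2⟩)
    (fun a b => Subtype.ext (by
      show g * (((a : E) : G) * ((b : E) : G)) * g⁻¹ = _
      simp [mul_assoc]))
  let lamC : C →* ℂˣ := lam.comp (MonoidHom.mk'
    (fun c => (⟨((c : E) : G), (c : E).2, hCN c c.2⟩ : (E ⊓ N : Subgroup G))) (fun a b => rfl))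
  obtain ⟨Φ, hΦC, hΦQ⟩ := exists_glue_hom C (Q : Subgroup E) hCcent hinf hdec lamC (μ'.comp κ')
  refine ⟨fun e => (Φ e : ℂ), IsIrrCharacter.isCharacter (isIrrCharacter_of_hom Φ), ?_⟩
  intro d
  obtain ⟨c, hc, q, hq, hcq⟩ := hdec ⟨d, d.2.1⟩
  have hqmem : ((⟨q, hq⟩ : (Q : Subgroup E)) : G) ∈ N := hqN ⟨d, d.2.1⟩ d.2.2 c hc q hcq
  let b : B := ⟨⟨q, hq⟩, hqmem⟩
  have h1 : Φ ⟨d, d.2.1⟩ = lam d := by
    rw [← hcq, map_mul]
    have h2 := hΦC ⟨c, hc⟩
    have h3 := hΦQ ⟨q, hq⟩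
    simp only at h2 h3
    rw [h2, h3]
    have h4 : ((μ'.comp κ') ⟨q, hq⟩ : ℂ) = (f b : ℂ) := by
      have h5 := hμF (κ b)
      have h6 := hF b
      rw [h6] at h5
      exact h5
    have h4' : (μ'.comp κ') ⟨q, hq⟩ = f b := Units.ext h4
    rw [h4']
    show lam _ * lam _ = lam d
    rw [← map_mul]
    congr 1
    apply Subtype.ext
    exact congrArg (fun e : E => (e : G)) hcq
  simp only
  rw [h1]

/-- The character-theoretic pairing used to detect exponents. -/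
theorem classInner_invariant_ind (N : Subgroup G) [hN : N.Normal] (E : Subgroup G)
    (hsup : E ⊔ N = ⊤) [Fintype N] [Fintype E] [Fintype (E ⊓ N : Subgroup G)]
    (ϑ : N → ℂ) (hinv : ∀ (g : G) (n : N), ϑ ⟨g * n * g⁻¹, hN.conj_mem (n : G) n.2 g⟩ = ϑ n)
    (η : E → ℂ) :
    classInner ϑ (fun n : N => indFun E η n) =
      classInner (fun d : (E ⊓ N : Subgroup G) => ϑ ⟨d, d.2.2⟩)
        (fun d : (E ⊓ N : Subgroup G) => η ⟨d, d.2.1⟩) := by
  classical
  rw [← frobenius_reciprocity N ϑ _ (indFun_isClassFunction E η),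
    frobenius_reciprocity' E η _ (indFun_isClassFunction N ϑ)]
  rw [Cfsg.Agent.Lib.Char.classInner_def, Cfsg.Agent.Lib.Char.classInner_def]
  have hsplit : ∑ e : E, indFun N ϑ e * conj (η e) =
      (N.index : ℂ) * ∑ d : (E ⊓ N : Subgroup G), ϑ ⟨d, d.2.2⟩ * conj (η ⟨d, d.2.1⟩) := by
    have h0 : ∀ e : E, (e : G) ∉ N → indFun N ϑ e * conj (η e) = 0 := by
      intro e he
      simp [indFun_normal_of_not_mem hN ϑ he]
    rw [← Finset.sum_filter_of_ne (p := fun e : E => (e : G) ∈ N)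
      (fun e _ hne => by
        by_contra hc
        exact hne (h0 e hc)), Finset.mul_sum]
    symm
    refine Finset.sum_bij (fun (d : (E ⊓ N : Subgroup G)) _ => (⟨d, d.2.1⟩ : E)) ?_ ?_ ?_ ?_
    · intro d _
      simpa using d.2.2
    · intro a _ b _ hab
      exact Subtype.ext (congrArg (fun e : E => (e : G)) hab)
    · intro e he
      have he' : (e : G) ∈ N := by simpa using he
      exact ⟨⟨e, e.2, he'⟩, Finset.mem_univ _, rfl⟩
    · intro d _
      have h2 : indFun N ϑ (d : G) = (N.index : ℂ) * ϑ ⟨d, d.2.2⟩ :=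
        indFun_invariant_apply hN ϑ hinv ⟨d, d.2.2⟩
      rw [h2]
      ring
  rw [hsplit]
  have hcardD : (Nat.card E : ℂ) = (Nat.card (E ⊓ N : Subgroup G) : ℂ) * (N.relIndex E : ℂ) := by
    have h1 := Subgroup.relIndex_mul_relIndex (⊥ : Subgroup G) (E ⊓ N) E bot_le inf_le_left
    rw [Subgroup.relIndex_bot_left, Subgroup.relIndex_bot_left, Subgroup.inf_relIndex_left] at h1
    rw [← h1]
    push_cast
    ring
  have hr : N.index = N.relIndex E := by
    have h1 := Subgroup.relIndex_mul_index (H := N) (K := E ⊔ N) le_sup_right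
    rw [Subgroup.relIndex_sup_right, hsup, Subgroup.index_top, mul_one] at h1
    exact h1.symm
  have hs : (N.relIndex E : ℂ) ≠ 0 := by
    have : N.relIndex E ≠ 0 := by
      rw [Subgroup.relIndex]
      exact Subgroup.index_ne_zero_of_finite
    exact_mod_cast this
  have hcD := card_subgroup_ne_zero (E ⊓ N)
  rw [hcardD, hr]
  field_simp

/-- A `G`-invariant irreducible character of a normal subgroup of `p`-power index extends to `G`
when its restriction to `E ⊓ N`, with `E ⊔ N = ⊤`, has a constituent extending to `E` with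
multiplicity prime to `p`. -/
theorem extends_of_subgroup_constituent {p : ℕ} (hp : p.Prime) (N : Subgroup G) [hN : N.Normal]
    (k : ℕ) (hk : N.index = p ^ k) (ϑ : N → ℂ) (hϑ : IsIrrCharacter N ϑ)
    (hinv : ∀ (g : G) (n : N), ϑ ⟨g * n * g⁻¹, hN.conj_mem (n : G) n.2 g⟩ = ϑ n)
    (E : Subgroup G) (hsup : E ⊔ N = ⊤) [Fintype (E ⊓ N : Subgroup G)] (η : E → ℂ)
    (hη : IsCharacter E η) (m : ℕ) (hm : ¬ p ∣ m)
    (hpair : classInner (fun d : (E ⊓ N : Subgroup G) => ϑ ⟨d, d.2.2⟩)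
      (fun d : (E ⊓ N : Subgroup G) => η ⟨d, d.2.1⟩) = m) :
    ∃ χ : G → ℂ, IsIrrCharacter G χ ∧ ∀ n : N, χ n = ϑ n := by
  classical
  haveI : Fintype N := Fintype.ofFinite N
  haveI : Fintype E := Fintype.ofFinite E
  obtain ⟨d, X, hX, rfl⟩ := hϑ
  have hinv' : ∀ (g : G) (n : N), X.character (nconj N g n) = X.character n := hinv
  obtain ⟨P₀⟩ := exists_projExt N X hX hinv'
  have hU := nontrivial_of_irr hX
  obtain ⟨r, ρ, hρ⟩ := indFun_isCharacter E hη
  have h1 := P₀.isCobExp_finrank_homSpace ρ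
  have h2 := finrank_homSpace X ρ
  have h3 := classInner_invariant_ind N E hsup X.character hinv η
  rw [hpair] at h3
  have h4 : classInner (fun n : N => ρ.character n) X.character = m := by
    rw [hρ, ← conj_classInner, h3]
    simp
  rw [h4] at h2
  have h5 : finrank ℂ (homSpace N X ρ) = m := by exact_mod_cast h2
  rw [h5] at h1
  have h6 := P₀.isCobExp_index
  rw [hk] at h6
  have hcop : Nat.Coprime m (p ^ k) :=
    Nat.Coprime.pow_right k ((Nat.Prime.coprime_iff_not_dvd hp).mpr hm).symm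
  have hcop' : IsCoprime (m : ℤ) ((p ^ k : ℕ) : ℤ) := Nat.isCoprime_iff_coprime.mpr hcop
  obtain ⟨a, b, hab⟩ := hcop'
  have h7 : P₀.IsCobExp 1 := by
    rw [← hab]
    exact (ProjExt.IsCobExp.mul_left a h1).add (ProjExt.IsCobExp.mul_left b h6)
  obtain ⟨σ, hσ⟩ := ProjExt.IsCobExp.exists_rep h7
  exact irr_extends_of_rep N X hX σ hσ

/-- The extension theorem under a central Sylow hypothesis. -/
theorem invariant_extends_central_sylow {p : ℕ} [hp : Fact p.Prime] (N : Subgroup G)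
    [hN : N.Normal] (hind : ∃ k : ℕ, N.index = p ^ k) (P : Sylow p G)
    (hcent : ∀ x ∈ (P : Subgroup G) ⊓ N, ∀ y ∈ (P : Subgroup G), x * y = y * x)
    (hlin : ∀ lam : ↥((P : Subgroup G) ⊓ N) → ℂ, IsCharacter ↥((P : Subgroup G) ⊓ N) lam →
      lam 1 = 1 → ∃ μ : ↥(P : Subgroup G) → ℂ, IsCharacter ↥(P : Subgroup G) μ ∧ μ 1 = 1 ∧
        ∀ x : ↥((P : Subgroup G) ⊓ N), μ ⟨(x : G), x.2.1⟩ = lam x)
    (ϑ : N → ℂ) (hϑ : IsIrrCharacter N ϑ)
    (hinv : ∀ (g : G) (n : N), ϑ ⟨g * n * g⁻¹, hN.conj_mem (n : G) n.2 g⟩ = ϑ n) :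
    ∃ χ : G → ℂ, IsIrrCharacter G χ ∧ ∀ n : N, χ n = ϑ n := by
  classical
  obtain ⟨E, hfin, φ, hE, hsup, hφ, _, m, hm, hφm⟩ := dade_detection hp.out N hN hind ϑ hϑ hinv
  obtain ⟨k, hk⟩ := hind
  obtain ⟨η, hη, hηφ⟩ := exists_elementary_extension N k hk P hcent hlin E hE hφ
  refine extends_of_subgroup_constituent hp.out N k hk ϑ hϑ hinv E hsup η hη m hm ?_
  rw [← hφm]
  congr 1
  funext d
  exact hηφ d

end Main

end Cfsg.Agent.Lib.Char
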