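import Cfsg.Agent.Lib.Char.Clifford2
import Cfsg.Agent.Lib.Char.Brauer

/-!
# Going down through an abelian chief factor.
-/

set_option autoImplicit false
set_option linter.unusedSectionVars false
set_option linter.style.haveILetI false

open scoped ComplexConjugate
open Module

namespace Cfsg.Agent.Lib.Char

open Cfsg (classInner IsCharacter IsIrrCharacter IrrCharacter IsClassFunction indFun extendByZero
  charDegree)

universe u

section

variable {X : Type u} [Group X] [Fintype X] (Y : Subgroup X) [hY : Y.Normal] [Fintype Y]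

/-- A restriction of an automorphism to a subgroup it preserves. -/
noncomputable def restrictAut (β : X ≃* X) (h : ∀ y, y ∈ Y ↔ β y ∈ Y) : Y ≃* Y where
  toFun y := ⟨β y, (h y).mp y.2⟩
  invFun y := ⟨β.symm y, (h _).mpr (by simpa using y.2)⟩
  left_inv y := by
    ext
    simp
  right_inv y := by
    ext
    simp
  map_mul' a b := by
    ext
    simp

/-- The map on the quotient induced by an automorphism preserving the subgroup. -/
noncomputable def quotAut (β : X ≃* X) (h : ∀ y, y ∈ Y ↔ β y ∈ Y) : X ⧸ Y ≃* X ⧸ Y :=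
  QuotientGroup.congr Y Y β (by
    ext y
    simp only [Subgroup.mem_map]
    constructor
    · rintro ⟨x, hx, rfl⟩
      exact (h x).mp hx
    · intro hy
      refine ⟨β.symm y, (h _).mpr (by simpa using hy), by simp⟩)

theorem quotAut_mk (β : X ≃* X) (h : ∀ y, y ∈ Y ↔ β y ∈ Y) (x : X) :
    quotAut Y β h (x : X ⧸ Y) = ((β x : X) : X ⧸ Y) := rfl

/-- Linear characters of the abelian quotient, pulled back. -/
noncomputable def pull (α : IrrCharacter (X ⧸ Y)) (x : X) : ℂ := (α : X ⧸ Y → ℂ) (x : X ⧸ Y)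

variable {Y}

theorem pull_apply (α : IrrCharacter (X ⧸ Y)) (x : X) :
    pull Y α x = (α : X ⧸ Y → ℂ) (x : X ⧸ Y) := rfl

theorem pull_isCharacter (α : IrrCharacter (X ⧸ Y)) : IsCharacter X (pull Y α) :=
  IsCharacter.comp (QuotientGroup.mk' Y) (IsIrrCharacter.isCharacter α.2)

theorem pull_of_mem (α : IrrCharacter (X ⧸ Y)) (hab : ∀ a b : X ⧸ Y, a * b = b * a) {y : X}
    (hy : y ∈ Y) : pull Y α y = 1 := by
  rw [pull_apply, (QuotientGroup.eq_one_iff y).mpr hy]
  exact charDegree_eq_one_of_comm hab α.2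

theorem pull_one (α : IrrCharacter (X ⧸ Y)) (hab : ∀ a b : X ⧸ Y, a * b = b * a) :
    pull Y α 1 = 1 := pull_of_mem α hab Y.one_mem

theorem exists_hom_pull (α : IrrCharacter (X ⧸ Y)) (hab : ∀ a b : X ⧸ Y, a * b = b * a) :
    ∃ l : X ⧸ Y →* ℂˣ, ∀ q, (α : X ⧸ Y → ℂ) q = (l q : ℂ) := by
  obtain ⟨l, hl⟩ := exists_hom_of_character_one (IsIrrCharacter.isCharacter α.2)
    (charDegree_eq_one_of_comm hab α.2)
  exact ⟨l, fun q => congrFun hl q⟩

/-- The abelian quotient has as many linear characters as elements. -/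
theorem card_irr_quotient (hab : ∀ a b : X ⧸ Y, a * b = b * a) :
    Fintype.card (IrrCharacter (X ⧸ Y)) = Y.index := by
  classical
  haveI : Fintype (X ⧸ Y) := Fintype.ofFinite _
  have h1 := sum_degree_sq (G := X ⧸ Y)
  rw [Finset.sum_congr rfl (fun α _ => by
    rw [charDegree_eq_one_of_comm hab α.2, one_pow]), Finset.sum_const, Finset.card_univ,
    nsmul_eq_mul, mul_one] at h1
  have h2 : Fintype.card (IrrCharacter (X ⧸ Y)) = Nat.card (X ⧸ Y) := by exact_mod_cast h1
  rw [h2]
  rfl

theorem pull_mul (α : IrrCharacter (X ⧸ Y)) (hab : ∀ a b : X ⧸ Y, a * b = b * a) (x z : X) :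
    pull Y α (x * z) = pull Y α x * pull Y α z := by
  obtain ⟨l, hl⟩ := exists_hom_pull α hab
  simp only [pull_apply, hl, QuotientGroup.mk_mul, map_mul, Units.val_mul]

theorem pull_inv (α : IrrCharacter (X ⧸ Y)) (hab : ∀ a b : X ⧸ Y, a * b = b * a) (x : X) :
    pull Y α x⁻¹ = (pull Y α x)⁻¹ := by
  obtain ⟨l, hl⟩ := exists_hom_pull α hab
  simp only [pull_apply, hl, QuotientGroup.mk_inv, map_inv, Units.val_inv_eq_inv_val]

/-- Going down in an abstract form: automorphisms `Γ` preserve `Y` and the character. -/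
theorem going_down_core (hab : ∀ a b : X, a * b * a⁻¹ * b⁻¹ ∈ Y) (Γ : Set (X ≃* X))
    (hΓY : ∀ β ∈ Γ, ∀ y, y ∈ Y ↔ β y ∈ Y) {ϑ : X → ℂ} (hϑ : IsIrrCharacter X ϑ)
    (hΓϑ : ∀ β ∈ Γ, ∀ x, ϑ (β x) = ϑ x)
    (hchief : ∀ M : Subgroup X, Y ≤ M → (∀ β ∈ Γ, ∀ m ∈ M, β m ∈ M) → M = Y ∨ M = ⊤) :
    IsIrrCharacter Y (fun y : Y => ϑ y) ∨
    (∃ (φ : Y → ℂ) (e : ℕ), IsIrrCharacter Y φ ∧ (fun y : Y => ϑ y) = (e : ℂ) • φ ∧
      e ^ 2 = Y.index) ∨
    (∃ F : Finset (IrrCharacter Y), F.card = Y.index ∧ (fun y : Y => ϑ y) = ∑ φ ∈ F, (φ : Y → ℂ)) := by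
  classical
  have hQab : ∀ a b : X ⧸ Y, a * b = b * a := by
    intro a b
    obtain ⟨a, rfl⟩ := QuotientGroup.mk_surjective a
    obtain ⟨b, rfl⟩ := QuotientGroup.mk_surjective b
    rw [← QuotientGroup.mk_mul, ← QuotientGroup.mk_mul, QuotientGroup.eq]
    have := hab b⁻¹ a⁻¹
    convert this using 1
    group
  have hϑc := IsIrrCharacter.isCharacter hϑ
  have hres : IsCharacter Y (fun y : Y => ϑ y) := IsCharacter.restrict Y hϑc
  have hresne : (fun y : Y => ϑ y) ≠ 0 := by
    intro h0
    have h1 := congrFun h0 1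
    exact map_one_ne_zero_of_irr hϑ h1
  obtain ⟨φ₁, hφ₁, hcon⟩ := exists_constituent hres hresne
  have hφ₁c := IsIrrCharacter.isCharacter hφ₁
  obtain ⟨e, he⟩ := classInner_isCharacter_nat hres hφ₁c
  have he0 : e ≠ 0 := by
    rintro rfl
    apply hcon
    rw [he]
    simp
  set T : Subgroup X := inertia hY φ₁ with hTdef
  have hYT : Y ≤ T := le_inertia hY (IsCharacter.isClassFunction hφ₁c)
  have hTn : ∀ x t : X, t ∈ T → x * t * x⁻¹ ∈ T := by
    intro x t ht
    have h1 : x * t * x⁻¹ = (x * t * x⁻¹ * t⁻¹) * t := by group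
    rw [h1]
    exact T.mul_mem (hYT (hab x t)) ht
  have hTΓ : ∀ β ∈ Γ, ∀ t ∈ T, β t ∈ T := by
    intro β hβ t ht
    let bY := restrictAut Y β (hΓY β hβ)
    have hbY : ∀ y : Y, ((bY y : Y) : X) = β y := fun _ => rfl
    have hφ₂ : IsIrrCharacter Y (φ₁ ∘ bY) := isIrr_comp_equiv bY hφ₁
    have hcon₂ : classInner (fun y : Y => ϑ y) (φ₁ ∘ bY) ≠ 0 := by
      have h1 : (fun y : Y => ϑ y) = (fun y : Y => ϑ y) ∘ bY := by
        funext y
        exact (hΓϑ β hβ y).symm
      rw [h1, classInner_comp_equiv bY]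
      exact hcon
    obtain ⟨x, hx⟩ := clifford_constituent_conj hY hϑ hφ₁ hφ₂ hcon hcon₂
    rw [hTdef, mem_inertia_iff] at ht ⊢
    intro n
    set y : Y := bY.symm n with hy
    have hyn : bY y = n := by simp [hy]
    have hxt : x * t * x⁻¹ ∈ inertia hY φ₁ := hTn x t ((mem_inertia_iff hY φ₁ t).mpr ht)
    rw [mem_inertia_iff] at hxt
    -- `φ₁ ∘ bY = conjFn hY x φ₁`
    have hxval : ∀ w : Y, φ₁ (bY w) = φ₁ ⟨x * w * x⁻¹, hY.conj_mem w w.2 x⟩ :=
      fun w => congrFun hx w
    have h1 : (⟨β t * n * (β t)⁻¹, hY.conj_mem n n.2 (β t)⟩ : Y) =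
        bY ⟨t * y * t⁻¹, hY.conj_mem y y.2 t⟩ := by
      ext
      rw [hbY]
      simp only [map_mul, map_inv]
      rw [← hbY y, hyn]
    rw [h1, hxval]
    have h2 : (⟨x * (t * y * t⁻¹) * x⁻¹, hY.conj_mem _ (hY.conj_mem y y.2 t) x⟩ : Y) =
        ⟨(x * t * x⁻¹) * (⟨x * y * x⁻¹, hY.conj_mem y y.2 x⟩ : Y) * (x * t * x⁻¹)⁻¹,
          hY.conj_mem _ (hY.conj_mem y y.2 x) _⟩ := by
      ext
      simp only
      group
    have h3 := hxt ⟨x * y * x⁻¹, hY.conj_mem y y.2 x⟩
    refine Eq.trans ?_ (h3.trans ((hxval y).symm.trans ?_))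
    · exact congrArg φ₁ h2
    · rw [hyn]
  rcases hchief T hYT hTΓ with hTY | hTtop
  · -- the inertia group is `Y`
    right
    right
    have hcl := clifford_restrict hY hϑ hφ₁ hcon
    obtain ⟨ψ, hψ, -, hinner⟩ := clifford_correspondence (T := Y) hY hφ₁ hTY.symm le_rfl hϑ hcon
    have hψφ : ψ = φ₁ := by
      by_contra hne
      apply hcon
      rw [← hinner]
      exact classInner_irr_of_ne hψ hφ₁ hne
    have he1 : classInner (fun y : Y => ϑ y) φ₁ = 1 := by
      rw [← hinner, hψφ]
      exact classInner_irr_self hφ₁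
    refine ⟨cliffordOrbit hY φ₁, ?_, ?_⟩
    · rw [card_cliffordOrbit hY hφ₁, ← hTdef, hTY]
    · rw [hcl, he1, one_smul]
  · -- the inertia group is everything
    have hinv : ∀ g, conjFn hY g φ₁ = φ₁ := by
      intro g
      have : g ∈ T := by rw [hTtop]; trivial
      exact this
    have h1 := clifford_invariant hY hϑ hφ₁ hinv hcon
    rw [he] at h1
    let B : Subgroup X :=
      { carrier := {x | ∀ α : IrrCharacter (X ⧸ Y), (∀ z, pull Y α z * ϑ z = ϑ z) → pull Y α x = 1}
        mul_mem' := by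
          intro a b ha hb α hα
          rw [pull_mul α hQab, ha α hα, hb α hα, one_mul]
        one_mem' := fun α _ => pull_one α hQab
        inv_mem' := by
          intro a ha α hα
          rw [pull_inv α hQab, ha α hα, inv_one] }
    have hmemB : ∀ x, x ∈ B ↔ ∀ α : IrrCharacter (X ⧸ Y), (∀ z, pull Y α z * ϑ z = ϑ z) →
        pull Y α x = 1 := fun x => Iff.rfl
    have hYB : Y ≤ B := fun y hy α _ => pull_of_mem α hQab hy
    have hBΓ : ∀ β ∈ Γ, ∀ m ∈ B, β m ∈ B := by
      intro β hβ m hm α hα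
      let α' : IrrCharacter (X ⧸ Y) :=
        ⟨(α : X ⧸ Y → ℂ) ∘ quotAut Y β (hΓY β hβ), isIrr_comp_equiv _ α.2⟩
      have hα' : ∀ z, pull Y α' z = pull Y α (β z) := fun z => rfl
      rw [← hα']
      refine hm α' fun z => ?_
      rw [hα', ← hΓϑ β hβ z]
      exact hα (β z)
    rcases hchief B hYB hBΓ with hBY | hBtop
    · -- `ϑ` vanishes off `Y`
      right
      left
      refine ⟨φ₁, e, hφ₁, h1, ?_⟩
      have hvan : ∀ x, x ∉ Y → ϑ x = 0 := by
        intro x hx
        have hxB : x ∉ B := by rwa [hBY]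
        rw [hmemB] at hxB
        push Not at hxB
        obtain ⟨α, hα, hαx⟩ := hxB
        have h2 := hα x
        have h3 : (pull Y α x - 1) * ϑ x = 0 := by rw [sub_mul, h2, one_mul, sub_self]
        rcases mul_eq_zero.mp h3 with h4 | h4
        · exact absurd (sub_eq_zero.mp h4) hαx
        · exact h4
      have hnorm := classInner_irr_self hϑ
      rw [classInner_def] at hnorm
      have hsum : ∑ x : X, ϑ x * conj (ϑ x) = ∑ y : Y, ϑ y * conj (ϑ y) := by
        rw [Finset.sum_subtype (Finset.univ.filter (· ∈ Y)) (by simp)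
          (fun x => ϑ x * conj (ϑ x))|>.symm]
        refine (Finset.sum_filter_of_ne fun x _ hx => ?_).symm
        by_contra hxY
        apply hx
        rw [hvan x hxY, zero_mul]
      have hresnorm : classInner (fun y : Y => ϑ y) (fun y : Y => ϑ y) = (e : ℂ) ^ 2 := by
        rw [h1, classInner_smul_left, classInner_smul_right, classInner_irr_self hφ₁]
        simp
        ring
      rw [classInner_def] at hresnorm
      rw [hsum] at hnorm
      have hY0 := card_subgroup_ne_zero Y
      have h5 : ∑ y : Y, ϑ y * conj (ϑ y) = (Nat.card Y : ℂ) * (e : ℂ) ^ 2 := by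
        rw [← hresnorm]
        field_simp
      rw [h5] at hnorm
      have h6 := Subgroup.card_mul_index Y
      have h7 : (Nat.card Y : ℂ) * (e : ℂ) ^ 2 = Nat.card X := by
        have hX0 := card_ne_zero_complex X
        field_simp at hnorm
        exact hnorm
      have h8 : Nat.card Y * e ^ 2 = Nat.card Y * Y.index := by
        rw [h6]
        exact_mod_cast h7
      exact Nat.eq_of_mul_eq_mul_left Nat.card_pos h8
    · -- all linear multiples are distinct
      left
      have hinj : ∀ α α' : IrrCharacter (X ⧸ Y), (∀ z, pull Y α z * ϑ z = pull Y α' z * ϑ z) →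
          α = α' := by
        intro α α' h
        obtain ⟨l, hl⟩ := exists_hom_pull α hQab
        obtain ⟨l', hl'⟩ := exists_hom_pull α' hQab
        let γ : IrrCharacter (X ⧸ Y) := ⟨fun q => ((l * l'⁻¹) q : ℂˣ), isIrrCharacter_of_hom _⟩
        have hγ : ∀ z, pull Y γ z = (l z : ℂ) * ((l' z : ℂˣ) : ℂ)⁻¹ := by
          intro z
          show (((l * l'⁻¹) (z : X ⧸ Y) : ℂˣ) : ℂ) = _
          simp
        have hγ0 : ∀ z, pull Y γ z * ϑ z = ϑ z := by
          intro z
          have h2 := h z
          simp only [pull_apply, hl, hl'] at h2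
          rw [hγ, mul_comm (l _ : ℂ), mul_assoc, h2, ← mul_assoc, inv_mul_cancel₀ (Units.ne_zero _),
            one_mul]
        have hγ1 : ∀ z, pull Y γ z = 1 := fun z => by
          have : z ∈ B := by rw [hBtop]; trivial
          exact this γ hγ0
        apply Subtype.ext
        funext q
        obtain ⟨z, rfl⟩ := QuotientGroup.mk_surjective q
        rw [hl, hl']
        have h3 := hγ1 z
        rw [hγ] at h3
        have h4 := Units.ne_zero (l' (z : X ⧸ Y))
        field_simp at h3
        exact h3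
      let f : IrrCharacter (X ⧸ Y) → IrrCharacter X := fun α =>
        ⟨ϑ * pull Y α, isIrr_mul_linear hϑ (pull_isCharacter α) (pull_one α hQab)⟩
      have hfinj : Function.Injective f := by
        intro α α' h
        refine hinj α α' fun z => ?_
        have h2 := congrFun (congrArg Subtype.val h) z
        simpa [f, mul_comm] using h2
      have hfres : ∀ α, (fun y : Y => ((f α : IrrCharacter X) : X → ℂ) y) = fun y : Y => ϑ y := by
        intro α
        funext y
        show ϑ y * pull Y α y = ϑ y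
        rw [pull_of_mem α hQab y.2, mul_one]
      -- the induced character
      set ψ : X → ℂ := indFun Y φ₁ with hψ
      have hψc : IsCharacter X ψ := indFun_isCharacter Y hφ₁c
      have hcoef : ∀ χ : IrrCharacter X, ∃ n : ℕ, classInner ψ χ = n := fun χ =>
        classInner_isCharacter_nat hψc (IsIrrCharacter.isCharacter χ.2)
      choose c hc using hcoef
      have hfc : ∀ α, c (f α) = e := by
        intro α
        have h2 := hc (f α)
        rw [hψ, frobenius_reciprocity Y φ₁ _ (IsCharacter.isClassFunction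
          (IsIrrCharacter.isCharacter (f α).2)), hfres, ← conj_classInner, he] at h2
        simp only [map_natCast] at h2
        exact_mod_cast h2.symm
      have hdeg : charDegree ψ = ∑ χ : IrrCharacter X, c χ * charDegree (χ : X → ℂ) := by
        apply charDegree_natCast
        have h2 := congrFun (classFunction_eq_sum ψ (IsCharacter.isClassFunction hψc)) 1
        rw [h2]
        simp only [Finset.sum_apply, Pi.smul_apply, smul_eq_mul]
        push_cast
        refine Finset.sum_congr rfl fun χ _ => ?_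
        rw [hc, map_one_eq_charDegree (IsIrrCharacter.isCharacter χ.2)]
      have hdψ : charDegree ψ = Y.index * charDegree φ₁ := by
        apply charDegree_natCast
        rw [hψ, indFun_one, map_one_eq_charDegree hφ₁c]
        push_cast
        rfl
      have hdϑ : charDegree ϑ = e * charDegree φ₁ := by
        apply charDegree_natCast
        have h2 := congrFun h1 1
        simp only [Pi.smul_apply, smul_eq_mul] at h2
        have h3 : ϑ 1 = (e : ℂ) * φ₁ 1 := h2
        rw [h3, map_one_eq_charDegree hφ₁c]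
        push_cast
        rfl
      have hdf : ∀ α, charDegree ((f α : IrrCharacter X) : X → ℂ) = charDegree ϑ := by
        intro α
        apply charDegree_natCast
        show ϑ 1 * pull Y α 1 = _
        rw [pull_one α hQab, mul_one, map_one_eq_charDegree hϑc]
      have hle : ∑ α : IrrCharacter (X ⧸ Y), c (f α) * charDegree ((f α : IrrCharacter X) : X → ℂ) ≤
          ∑ χ : IrrCharacter X, c χ * charDegree (χ : X → ℂ) := by
        have h2 : ∑ α : IrrCharacter (X ⧸ Y), c (f α) * charDegree ((f α : IrrCharacter X) : X → ℂ) =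
            ∑ χ ∈ Finset.univ.image f, c χ * charDegree (χ : X → ℂ) := by
          rw [Finset.sum_image fun a _ b _ h => hfinj h]
        rw [h2]
        exact Finset.sum_le_sum_of_subset (Finset.subset_univ _)
      rw [← hdeg, hdψ, Finset.sum_congr rfl (fun α _ => by rw [hfc, hdf, hdϑ]), Finset.sum_const,
        Finset.card_univ, card_irr_quotient hQab, smul_eq_mul] at hle
      have hd₁ : 0 < charDegree φ₁ := charDegree_pos_of_irr hφ₁
      have hidx : 0 < Y.index := Nat.pos_of_ne_zero Subgroup.index_ne_zero_of_finite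
      have he1 : e = 1 := by
        by_contra hne
        have he2 : 2 ≤ e := by omega
        have h3 : Y.index * (e * (e * charDegree φ₁)) > Y.index * charDegree φ₁ := by
          apply Nat.mul_lt_mul_of_pos_left _ hidx
          nlinarith
        omega
      subst he1
      have h2 : (fun y : Y => ϑ y) = φ₁ := by
        rw [h1]
        simp
      rw [h2]
      exact hφ₁

end

end Cfsg.Agent.Lib.Char
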