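import Cfsg.Agent.Lib.Char.DadeExt
import Cfsg.Agent.Lib.Char.DadeDown
import Cfsg.Agent.Lib.Char.Clifford2
import Cfsg.Agent.Lib.Char.Monomial
import Cfsg.Agent.Lib.Core.MinNormal2
import Cfsg.Agent.S0857

/-!
# Monomiality from irreducible restrictions to normal subgroups with abelian Sylow subgroups.
-/

set_option autoImplicit false
set_option linter.unusedSectionVars false
set_option linter.style.haveILetI false
set_option linter.unusedSimpArgs false
set_option linter.unnecessarySimpa false

open scoped ComplexConjugate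

namespace Cfsg.Agent.Lib.Char

open Cfsg (classInner IsCharacter IsIrrCharacter IrrCharacter IsClassFunction indFun
  extendByZero charDegree)

universe u

section AbSyl

variable {H : Type u} [Group H]

/-- All `p`-subgroups of `N` are abelian. -/
def AbSyl (N : Subgroup H) : Prop :=
  ∀ p : ℕ, p.Prime → ∀ P : Subgroup H, P ≤ N → IsPGroup p P → ∀ a ∈ P, ∀ b ∈ P, a * b = b * a

theorem AbSyl.mono {N K : Subgroup H} (h : AbSyl N) (hK : K ≤ N) : AbSyl K :=
  fun p hp P hP hPp => h p hp P (hP.trans hK) hPp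

theorem AbSyl.subgroupOf {N : Subgroup H} (h : AbSyl N) (T K : Subgroup H) (hK : K ≤ N) :
    AbSyl (K.subgroupOf T) := by
  intro p hp P hP hPp a ha b hb
  apply Subtype.ext
  refine h p hp (P.map T.subtype) ?_ (hPp.map _) _ ⟨a, ha, rfl⟩ _ ⟨b, hb, rfl⟩
  rintro _ ⟨x, hx, rfl⟩
  exact hK (Subgroup.mem_subgroupOf.mp (hP hx))

end AbSyl

section Chief

variable {H : Type u} [Group H] [Finite H]

/-- Chief factors of solvable groups have prime power order. -/
theorem chief_index_prime_power [Group.IsSolvable H] (N K : Subgroup H) [hN : N.Normal]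
    [hK : K.Normal] (hKN : K < N)
    (hchief : ∀ M : Subgroup H, M.Normal → K ≤ M → M ≤ N → M = K ∨ M = N) :
    ∃ p k : ℕ, p.Prime ∧ K.relIndex N = p ^ k := by
  classical
  let A : Subgroup (H ⧸ K) := N.map (QuotientGroup.mk' K)
  haveI hA : A.Normal := Subgroup.Normal.map hN _ (QuotientGroup.mk'_surjective K)
  have hA1 : A ≠ ⊥ := by
    intro h0
    apply not_le_of_gt hKN
    intro x hx
    have h2 : (x : H ⧸ K) ∈ A := ⟨x, hx, rfl⟩
    rw [h0, Subgroup.mem_bot] at h2
    exact (QuotientGroup.eq_one_iff x).mp h2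
  have hcomapA : A.comap (QuotientGroup.mk' K) = N := by
    apply le_antisymm
    · rintro x ⟨y, hy, hyx⟩
      have h1 : y⁻¹ * x ∈ K := QuotientGroup.eq.mp hyx
      have h2 := N.mul_mem hy (hKN.le h1)
      simpa using h2
    · intro x hx
      exact ⟨x, hx, rfl⟩
  have hmin : ∀ M : Subgroup (H ⧸ K), M.Normal → M ≤ A → M = ⊥ ∨ M = A := by
    intro M hM hMA
    have hK1 : K ≤ M.comap (QuotientGroup.mk' K) := by
      intro x hx
      show (x : H ⧸ K) ∈ M
      rw [(QuotientGroup.eq_one_iff x).mpr hx]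
      exact M.one_mem
    have hK2 : M.comap (QuotientGroup.mk' K) ≤ N := by
      rw [← hcomapA]
      exact Subgroup.comap_mono hMA
    have hnorm : (M.comap (QuotientGroup.mk' K)).Normal := Subgroup.Normal.comap hM _
    rcases hchief _ hnorm hK1 hK2 with h | h
    · left
      rw [eq_bot_iff]
      intro y hy
      obtain ⟨x, rfl⟩ := QuotientGroup.mk_surjective y
      have h2 : x ∈ M.comap (QuotientGroup.mk' K) := hy
      rw [h] at h2
      exact (QuotientGroup.eq_one_iff x).mpr h2
    · right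
      apply le_antisymm hMA
      rintro _ ⟨x, hx, rfl⟩
      rw [← h] at hx
      exact hx
  obtain ⟨_, p, hp, hexp⟩ := Cfsg.Agent.Lib.Core.minimal_normal_elementary A hA1 hmin
  haveI : Fact p.Prime := ⟨hp⟩
  have hAp : IsPGroup p A := by
    intro x
    refine ⟨1, ?_⟩
    apply Subtype.ext
    simpa using hexp x x.2
  obtain ⟨k, hk⟩ := IsPGroup.iff_card.mp hAp
  refine ⟨p, k, hp, ?_⟩
  rw [← hk]
  have h3 := Subgroup.relIndex_ker (QuotientGroup.mk' K) (K := N)
  rw [QuotientGroup.ker_mk'] at h3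
  exact h3

/-- Existence of a chief factor below a nontrivial normal subgroup. -/
theorem exists_chief_sub (N : Subgroup H) (hN : N.Normal) (hbot : N ≠ ⊥) :
    ∃ K : Subgroup H, K.Normal ∧ K < N ∧
      ∀ M : Subgroup H, M.Normal → K ≤ M → M ≤ N → M = K ∨ M = N := by
  classical
  let S : Set (Subgroup H) := {K | K.Normal ∧ K < N}
  have hfin : S.Finite := Set.toFinite S
  have hne : S.Nonempty := ⟨⊥, inferInstance, bot_lt_iff_ne_bot.mpr hbot⟩
  obtain ⟨K, hK, hmax⟩ := hfin.exists_maximal hne
  refine ⟨K, hK.1, hK.2, fun M hM hKM hMN => ?_⟩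
  by_cases hMeq : M = N
  · exact Or.inr hMeq
  · left
    exact le_antisymm (hmax ⟨hM, lt_of_le_of_ne hMN hMeq⟩ hKM) hKM

end Chief

section Ramified

variable {X : Type u} [Group X] [Fintype X]

/-- The norm of a function induced from an invariant irreducible character. -/
theorem classInner_indFun_invariant_self {Y : Subgroup X} (hY : Y.Normal) [Fintype Y] {φ : Y → ℂ}
    (hφ : IsIrrCharacter Y φ)
    (hinv : ∀ (g : X) (n : Y), φ ⟨g * n * g⁻¹, hY.conj_mem (n : X) n.2 g⟩ = φ n) :
    classInner (indFun Y φ) (indFun Y φ) = (Y.index : ℂ) := by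
  have hres : (fun n : Y => indFun Y φ n) = (Y.index : ℂ) • φ := by
    funext n
    simp only [Pi.smul_apply, smul_eq_mul]
    exact indFun_invariant_apply hY φ hinv n
  rw [frobenius_reciprocity Y φ _ (indFun_isClassFunction Y φ), hres]
  have h2 : classInner φ ((Y.index : ℂ) • φ) = (Y.index : ℂ) * classInner φ φ := by
    simp only [Cfsg.Agent.Lib.Char.classInner_def, Pi.smul_apply, smul_eq_mul, map_mul,
      Complex.conj_natCast]
    rw [Finset.mul_sum, Finset.mul_sum, Finset.mul_sum]
    refine Finset.sum_congr rfl fun x _ => ?_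
    ring
  rw [h2, classInner_irr_self hφ, mul_one]

/-- A fully ramified invariant character does not extend. -/
theorem eq_one_of_fully_ramified {Y : Subgroup X} (hY : Y.Normal) [Fintype Y] {ϑ η : X → ℂ}
    {φ : Y → ℂ} (hϑ : IsIrrCharacter X ϑ) (hη : IsIrrCharacter X η) (hφ : IsIrrCharacter Y φ)
    (e : ℕ) (he : (fun y : Y => ϑ y) = (e : ℂ) • φ) (hee : e ^ 2 = Y.index)
    (hext : ∀ y : Y, η y = φ y) : e = 1 := by
  have he0 : e ≠ 0 := by
    rintro rfl
    have := Subgroup.index_ne_zero_of_finite (H := Y)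
    rw [← hee] at this
    simp at this
  have he0' : (e : ℂ) ≠ 0 := by exact_mod_cast he0
  have hϑcl := IsCharacter.isClassFunction (IsIrrCharacter.isCharacter hϑ)
  have hinv : ∀ (g : X) (n : Y), φ ⟨g * n * g⁻¹, hY.conj_mem (n : X) n.2 g⟩ = φ n := by
    intro g n
    have h1 := congrFun he ⟨g * n * g⁻¹, hY.conj_mem (n : X) n.2 g⟩
    have h2 := congrFun he n
    simp only [Pi.smul_apply, smul_eq_mul] at h1 h2
    rw [hϑcl n g, h2] at h1
    exact (mul_left_cancel₀ he0' h1).symm
  set Θ := indFun Y φ with hΘ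
  have hΘcl : IsClassFunction X Θ := indFun_isClassFunction Y φ
  have hself : classInner Θ Θ = (Y.index : ℂ) := classInner_indFun_invariant_self hY hφ hinv
  have hΘϑ : classInner Θ ϑ = (e : ℂ) := by
    rw [hΘ, frobenius_reciprocity Y φ ϑ hϑcl, he]
    simp only [Cfsg.Agent.Lib.Char.classInner_def, Pi.smul_apply, smul_eq_mul, map_mul,
      Complex.conj_natCast]
    have h2 := classInner_irr_self hφ
    rw [Cfsg.Agent.Lib.Char.classInner_def] at h2
    have h3 : ∑ x, φ x * ((e : ℂ) * conj (φ x)) = (e : ℂ) * ∑ x, φ x * conj (φ x) := by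
      rw [Finset.mul_sum]
      refine Finset.sum_congr rfl fun x _ => ?_
      ring
    rw [h3, mul_left_comm, h2, mul_one]
  have hϑΘ : classInner ϑ Θ = (e : ℂ) := by
    rw [← conj_classInner, hΘϑ]
    simp
  have hΘ2 : Θ = (e : ℂ) • ϑ := by
    have h0 : classInner (Θ - (e : ℂ) • ϑ) (Θ - (e : ℂ) • ϑ) = 0 := by
      have hexp : ∀ f g : X → ℂ, classInner (f - (e : ℂ) • g) (f - (e : ℂ) • g) =
          classInner f f - (e : ℂ) * classInner f g - (e : ℂ) * classInner g f +
            (e : ℂ) * (e : ℂ) * classInner g g := by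
        intro f g
        simp only [Cfsg.Agent.Lib.Char.classInner_def, Pi.sub_apply, Pi.smul_apply, smul_eq_mul,
          map_sub, map_mul, Complex.conj_natCast]
        simp only [Finset.mul_sum]
        rw [← Finset.sum_sub_distrib, ← Finset.sum_sub_distrib, ← Finset.sum_add_distrib]
        refine Finset.sum_congr rfl fun x _ => ?_
        ring
      rw [hexp, hself, hΘϑ, hϑΘ, classInner_irr_self hϑ, ← hee]
      push_cast
      ring
    have h1 := classInner_self_eq_zero.mp h0
    exact sub_eq_zero.mp h1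
  have h1 : classInner Θ η = 1 := by
    rw [hΘ, frobenius_reciprocity Y φ η (IsCharacter.isClassFunction
      (IsIrrCharacter.isCharacter hη))]
    have h2 : (fun h : Y => η h) = φ := funext hext
    rw [h2, classInner_irr_self hφ]
  rw [hΘ2, classInner_smul_left] at h1
  obtain ⟨c, hc⟩ := classInner_isCharacter_nat (IsIrrCharacter.isCharacter hϑ)
    (IsIrrCharacter.isCharacter hη)
  rw [hc] at h1
  have h2 : e * c = 1 := by exact_mod_cast h1
  exact Nat.eq_one_of_mul_eq_one_right h2

end Ramified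

section Main

/-- The fully ramified case cannot occur below normal subgroups with abelian Sylow subgroups. -/
theorem not_fully_ramified {X : Type u} [Group X] [Fintype X] (Y : Subgroup X) [hY : Y.Normal]
    (hab : AbSyl (⊤ : Subgroup X)) (p k : ℕ) (hp : p.Prime) (hk : Y.index = p ^ k)
    {ϑ : X → ℂ} {φ : Y → ℂ} (hϑ : IsIrrCharacter X ϑ) (hφ : IsIrrCharacter Y φ) (e : ℕ)
    (he : (fun y : Y => ϑ y) = (e : ℂ) • φ) (hee : e ^ 2 = Y.index) : e = 1 := by
  classical
  haveI : Fact p.Prime := ⟨hp⟩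
  haveI : Fintype Y := Fintype.ofFinite Y
  have he0 : e ≠ 0 := by
    rintro rfl
    have := Subgroup.index_ne_zero_of_finite (H := Y)
    rw [← hee] at this
    simp at this
  have he0' : (e : ℂ) ≠ 0 := by exact_mod_cast he0
  have hϑcl := IsCharacter.isClassFunction (IsIrrCharacter.isCharacter hϑ)
  have hinv : ∀ (g : X) (n : Y), φ ⟨g * n * g⁻¹, hY.conj_mem (n : X) n.2 g⟩ = φ n := by
    intro g n
    have h1 := congrFun he ⟨g * n * g⁻¹, hY.conj_mem (n : X) n.2 g⟩
    have h2 := congrFun he n
    simp only [Pi.smul_apply, smul_eq_mul] at h1 h2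
    rw [hϑcl n g, h2] at h1
    exact (mul_left_cancel₀ he0' h1).symm
  obtain ⟨P⟩ : Nonempty (Sylow p X) := inferInstance
  have hPab : ∀ a ∈ (P : Subgroup X), ∀ b ∈ (P : Subgroup X), a * b = b * a :=
    hab p hp P le_top P.isPGroup'
  have hcent : ∀ x ∈ (P : Subgroup X) ⊓ Y, ∀ y ∈ (P : Subgroup X), x * y = y * x :=
    fun x hx y hy => hPab x hx.1 y hy
  have hlin : ∀ lam : ↥((P : Subgroup X) ⊓ Y) → ℂ, IsCharacter ↥((P : Subgroup X) ⊓ Y) lam →
      lam 1 = 1 → ∃ μ : ↥(P : Subgroup X) → ℂ, IsCharacter ↥(P : Subgroup X) μ ∧ μ 1 = 1 ∧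
        ∀ x : ↥((P : Subgroup X) ⊓ Y), μ ⟨(x : X), x.2.1⟩ = lam x := by
    intro lam hlam hlam1
    obtain ⟨l, rfl⟩ := exists_hom_of_character_one hlam hlam1
    obtain ⟨F, hF⟩ := exists_extend_hom (A := (P : Subgroup X))
      (fun a b => Subtype.ext (hPab a a.2 b b.2))
      (Subgroup.inclusion (inf_le_left : (P : Subgroup X) ⊓ Y ≤ P))
      (Subgroup.inclusion_injective _) l
    refine ⟨fun a => (F a : ℂ), IsIrrCharacter.isCharacter (isIrrCharacter_of_hom F),
      by simp, fun x => ?_⟩
    have := hF x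
    simp only
    rw [← this]
    rfl
  obtain ⟨η, hη, hext⟩ := invariant_extends_central_sylow Y ⟨k, hk⟩ P hcent hlin φ hφ hinv
  exact eq_one_of_fully_ramified hY hϑ hη hφ e he hee hext

/-- The main theorem: an irreducible character with irreducible restriction to a normal subgroup
with abelian Sylow subgroups of a solvable group is monomial. -/
theorem monomial_of_irr_restrict : ∀ (n : ℕ) (H : Type u) [Group H] [Fintype H]
    [Group.IsSolvable H] (N : Subgroup H) [hN : N.Normal], Nat.card N = n → AbSyl N →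
    ∀ ψ : H → ℂ, IsIrrCharacter H ψ → IsIrrCharacter N (fun x => ψ x) → IsMonomialFn ψ := by
  intro n
  induction n using Nat.strong_induction_on with
  | _ n ih =>
  intro H _ _ _ N hN hn hab ψ hψ hres
  classical
  by_cases hbot : N = ⊥
  · subst hbot
    have hcomm : ∀ a b : (⊥ : Subgroup H), a * b = b * a := fun a b => Subsingleton.elim _ _
    have h1 := charDegree_eq_one_of_comm hcomm hres
    exact isMonomialFn_of_degree_one (IsIrrCharacter.isCharacter hψ) h1
  obtain ⟨K, hKn, hKN, hchief⟩ := exists_chief_sub N hN hbot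
  haveI := hKn
  have hcomm : ⁅N, N⁆ ≤ K := by
    refine commutator_le_of_chief ⊥ N K ?_ bot_le hKN hchief
    exact Group.isSolvable_of_surjective (QuotientGroup.mk'_surjective (⊥ : Subgroup H))
  have hcardK : Nat.card K < n := by
    rw [← hn]
    exact lt_of_le_of_ne (Subgroup.card_le_of_le hKN.le)
      (fun h => hKN.ne (Subgroup.eq_of_le_of_card_ge hKN.le h.ge))
  have hψc := IsIrrCharacter.isCharacter hψ
  have hψcl := IsCharacter.isClassFunction hψc
  have hinv : ∀ (g : H) (x : N), (fun x : N => ψ x) ⟨g * x * g⁻¹, hN.conj_mem (x : H) x.2 g⟩ =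
      (fun x : N => ψ x) x := fun g x => hψcl x g
  rcases Cfsg.Agent.S0857.result N K hKN hchief hcomm (fun x : N => ψ x) hres hinv with
    h | ⟨φ, e, hφ, h1, h2⟩ | ⟨F, hF, hcard, h1⟩
  · exact ih _ hcardK H K rfl (hab.mono hKN.le) ψ hψ h
  · exfalso
    obtain ⟨p, k, hp, hpk⟩ := chief_index_prime_power N K hKN hchief
    -- pass to the group `N`
    let Y : Subgroup N := K.subgroupOf N
    haveI hYn : Y.Normal := by
      refine ⟨fun n hn t => ?_⟩
      rw [Subgroup.mem_subgroupOf] at hn ⊢
      exact hKn.conj_mem n hn t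
    let ee : Y ≃* K := Subgroup.subgroupOfEquivOfLe hKN.le
    have hab' : AbSyl (⊤ : Subgroup N) := by
      intro q hq P _ hPq a ha b hb
      apply Subtype.ext
      refine hab q hq (P.map N.subtype) (Subgroup.map_subtype_le P) (hPq.map _) _ ⟨a, ha, rfl⟩ _
        ⟨b, hb, rfl⟩
    have hidx : Y.index = K.relIndex N := rfl
    have hone := not_fully_ramified Y hab' p k hp (by rw [hidx, hpk]) hres
      (isIrr_comp_equiv ee hφ) e (by
        funext y
        exact congrFun h1 (ee y)) (by rw [hidx, h2])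
    -- now `e = 1` contradicts `K < N`
    have hne : K.relIndex N = 1 := by
      rw [← h2, hone, one_pow]
    have hNK : N ≤ K := Subgroup.relIndex_eq_one.mp hne
    exact not_le_of_gt hKN hNK
  · -- the imprimitive case
    have hne : F.Nonempty := by
      rw [← Finset.card_pos, hcard]
      apply Nat.pos_of_ne_zero
      rw [Subgroup.relIndex]
      exact Subgroup.index_ne_zero_of_finite
    obtain ⟨φ₀, hφ₀⟩ := hne
    have hφ₀irr := hF φ₀ hφ₀
    have hresK : (fun x : K => ψ x) = ∑ φ ∈ F, φ := h1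
    haveI : Fintype K := Fintype.ofFinite K
    have hpair : classInner (fun x : K => ψ x) φ₀ = 1 := by
      rw [hresK, classInner_sum_left, Finset.sum_eq_single φ₀]
      · exact classInner_irr_self hφ₀irr
      · intro φ hφ hne
        exact classInner_irr_of_ne (hF φ hφ) hφ₀irr hne
      · intro h
        exact absurd hφ₀ h
    let T := inertia hKn φ₀
    have hKT : K ≤ T := le_inertia hKn (IsCharacter.isClassFunction
      (IsIrrCharacter.isCharacter hφ₀irr))
    haveI : Fintype T := Fintype.ofFinite T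
    obtain ⟨ψ₁, hψ₁, hind, hc⟩ := clifford_correspondence hKn hφ₀irr rfl hKT hψ
      (by rw [hpair]; exact one_ne_zero)
    rw [hpair] at hc
    have hinvT : ∀ (t : T) (n : K), φ₀ ⟨t * n * (t : H)⁻¹, hKn.conj_mem (n : H) n.2 t⟩ = φ₀ n :=
      fun t n => (mem_inertia_iff hKn φ₀ t).mp t.2 n
    have hnorm : ∀ t ∈ T, ∀ n ∈ K, t * n * t⁻¹ ∈ K := fun t _ n hn => hKn.conj_mem n hn t
    have hres₁ := restrict_eq_smul_of_invariant hKT hψ₁ hφ₀irr hnorm (fun t n => hinvT t n)
      (by rw [hc]; exact one_ne_zero)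
    rw [hc, one_smul] at hres₁
    let Y : Subgroup T := K.subgroupOf T
    haveI hYn : Y.Normal := by
      refine ⟨fun n hn t => ?_⟩
      rw [Subgroup.mem_subgroupOf] at hn ⊢
      exact hKn.conj_mem n hn t
    let ee : Y ≃* K := Subgroup.subgroupOfEquivOfLe hKT
    have hYirr : IsIrrCharacter Y (fun x => ψ₁ x) := by
      have h2 : (fun x : Y => ψ₁ x) = φ₀ ∘ ee := by
        funext y
        exact congrFun hres₁ (ee y)
      rw [h2]
      exact isIrr_comp_equiv ee hφ₀irr
    have hcardY : Nat.card Y = Nat.card K := Nat.card_congr ee.toEquiv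
    haveI : Group.IsSolvable T := inferInstance
    have hmono := ih (Nat.card K) hcardK T Y hcardY (hab.subgroupOf T K hKN.le) ψ₁ hψ₁ hYirr
    rw [← hind]
    exact isMonomialFn_indFun T hmono

end Main

end Cfsg.Agent.Lib.Char
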