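import Cfsg.Agent.Lib.Char.ZassZ
import Cfsg.Agent.Lib.Char.ZassCount

/-!
# Involutions of a simple Zassenhaus group with two-point stabilizer of odd order.
-/

set_option autoImplicit false
set_option linter.unusedSectionVars false
set_option linter.unusedVariables false
set_option linter.style.haveILetI false
set_option linter.unusedSimpArgs false
set_option linter.unnecessarySimpa false

open MulAction

namespace Cfsg.Agent.Lib.Char

universe u v

variable {G : Type u} {Ω : Type v} [Group G] [MulAction G Ω] [Finite G] [Fintype Ω]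

/-- The order of a two-point stabilizer does not depend on the pair of points. -/
theorem zass_card_eq_any (hZ : Cfsg.IsZassenhausGroup G Ω) {a b : Ω} (hab : a ≠ b) {p q : Ω} (hpq : p ≠ q) :
    Nat.card (stabilizer G p ⊓ stabilizer G q : Subgroup G) =
      Nat.card (stabilizer G a ⊓ stabilizer G b : Subgroup G) := by
  have h1 := zass_card hZ hab
  have h2 := zass_card hZ hpq
  haveI : Nontrivial Ω := ⟨a, b, hab⟩
  have hn : 2 ≤ Fintype.card Ω := zass_two_le_card
  have hpos : 0 < Fintype.card Ω * (Fintype.card Ω - 1) := Nat.mul_pos (by omega) (by omega)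
  rw [mul_assoc] at h1 h2
  exact Nat.eq_of_mul_eq_mul_right hpos (h2.trans h1.symm)

/-- Oddness does not depend on the pair of points. -/
theorem zass_odd_any (hZ : Cfsg.IsZassenhausGroup G Ω) {a b : Ω} (hab : a ≠ b)
    (hodd : Odd (Nat.card (stabilizer G a ⊓ stabilizer G b : Subgroup G))) {p q : Ω} (hpq : p ≠ q) :
    Odd (Nat.card (stabilizer G p ⊓ stabilizer G q : Subgroup G)) := by
  rwa [zass_card_eq_any hZ hab hpq]

/-- An element moving `p` to `q` and with square one is a swap of `p, q`. -/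
theorem swap_of_sq {x : G} {p : Ω} (hx : x ^ 2 = 1) : x • (x • p) = p := by
  rw [← mul_smul, ← sq, hx, one_smul]

theorem zass_swap_orderOf (hZ : Cfsg.IsZassenhausGroup G Ω) {a b : Ω} (hab : a ≠ b) [IsSimpleGroup G]
    (hodd : Odd (Nat.card (stabilizer G a ⊓ stabilizer G b : Subgroup G))) {t : G}
    (h1 : t • a = b) (h2 : t • b = a) : orderOf t = 2 := by
  apply orderOf_eq_prime (zass_swap_sq hZ hab hodd h1 h2)
  rintro rfl
  rw [one_smul] at h1
  exact hab h1

/-- The fixed points of an involution: it does not fix two points. -/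
theorem zass_invol_fix_unique (hZ : Cfsg.IsZassenhausGroup G Ω) {a b : Ω} (hab : a ≠ b)
    (hodd : Odd (Nat.card (stabilizer G a ⊓ stabilizer G b : Subgroup G))) {x : G}
    (hx : orderOf x = 2) {p q : Ω} (hp : x • p = p) (hq : x • q = q) : p = q := by
  by_contra hpq
  have hodd' := zass_odd_any hZ hab hodd hpq
  have hmem : x ∈ (stabilizer G p ⊓ stabilizer G q : Subgroup G) := ⟨hp, hq⟩
  have h3 : x ^ Nat.card (stabilizer G p ⊓ stabilizer G q : Subgroup G) = 1 := by
    have := pow_card_eq_one' (x := (⟨x, hmem⟩ : (stabilizer G p ⊓ stabilizer G q : Subgroup G)))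
    simpa [Subtype.ext_iff] using this
  have h4 : x = 1 := eq_one_of_sq_of_odd (by rw [← hx]; exact pow_orderOf_eq_one x) h3 hodd'
  rw [h4, orderOf_one] at hx
  omega

/-- An involution moves a point. -/
theorem zass_invol_moves (hZ : Cfsg.IsZassenhausGroup G Ω) {x : G} (hx : orderOf x = 2) :
    ∃ p : Ω, x • p ≠ p := by
  haveI := hZ.1
  by_contra hcon
  push Not at hcon
  have : x = 1 := by
    apply FaithfulSMul.eq_of_smul_eq_smul (α := Ω)
    intro c
    rw [one_smul, hcon]
  rw [this, orderOf_one] at hx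
  omega

/-- All involutions are conjugate. -/
theorem zass_invol_conj (hZ : Cfsg.IsZassenhausGroup G Ω) {a b : Ω} (hab : a ≠ b) [IsSimpleGroup G]
    (hodd : Odd (Nat.card (stabilizer G a ⊓ stabilizer G b : Subgroup G))) {x y : G}
    (hx : orderOf x = 2) (hy : orderOf y = 2) : IsConj x y := by
  have hconj : ∀ x : G, orderOf x = 2 → ∃ g : G, (g * x * g⁻¹) • a = b ∧ (g * x * g⁻¹) • b = a := by
    intro x hx
    obtain ⟨p, hp⟩ := zass_invol_moves hZ hx
    obtain ⟨g, hg1, hg2⟩ := zass_two_trans hZ p (x • p) a b (Ne.symm hp) hab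
    have hx2 : x ^ 2 = 1 := by rw [← hx]; exact pow_orderOf_eq_one x
    refine ⟨g, ?_, ?_⟩
    · rw [← hg1, ← hg2]
      simp [mul_smul]
    · rw [← hg1, ← hg2]
      simp [mul_smul, swap_of_sq hx2]
  obtain ⟨g, hg1, hg2⟩ := hconj x hx
  obtain ⟨g', hg1', hg2'⟩ := hconj y hy
  obtain ⟨v, -, hv⟩ := zass_swap_conj hZ hab hodd hg1 hg2 hg1' hg2'
  rw [isConj_iff]
  refine ⟨g'⁻¹ * v⁻¹ * g, ?_⟩
  have h3 : g' * y * g'⁻¹ = v⁻¹ * (g * x * g⁻¹) * v := hv.symm
  have h4 : y = g'⁻¹ * (g' * y * g'⁻¹) * g' := by group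
  rw [h4, h3]
  group

/-- The number of swaps of two points. -/
theorem zass_card_swaps (hZ : Cfsg.IsZassenhausGroup G Ω) {a b : Ω} (hab : a ≠ b) {p q : Ω} (hpq : p ≠ q) :
    Nat.card {x : G // x • p = q ∧ x • q = p} =
      Nat.card (stabilizer G a ⊓ stabilizer G b : Subgroup G) := by
  rw [← zass_card_eq_any hZ hab hpq]
  obtain ⟨s, hs1, hs2⟩ := zass_two_trans hZ p q q p hpq hpq.symm
  refine Nat.card_congr ⟨fun x => ⟨s⁻¹ * x.1, ?_, ?_⟩, fun y => ⟨s * y.1, ?_, ?_⟩, ?_, ?_⟩
  · change (s⁻¹ * x.1) • p = p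
    rw [mul_smul, x.2.1, inv_smul_eq_iff, hs1]
  · change (s⁻¹ * x.1) • q = q
    rw [mul_smul, x.2.2, inv_smul_eq_iff, hs2]
  · rw [mul_smul, (y.2.1 : y.1 • p = p), hs1]
  · rw [mul_smul, (y.2.2 : y.1 • q = q), hs2]
  · intro x
    apply Subtype.ext
    simp
  · intro y
    apply Subtype.ext
    simp

open Classical in
/-- For `p ≠ q`, the number of involutions taking `p` to `q`. -/
theorem zass_card_invol_to (hZ : Cfsg.IsZassenhausGroup G Ω) {a b : Ω} (hab : a ≠ b) [IsSimpleGroup G]
    (hodd : Odd (Nat.card (stabilizer G a ⊓ stabilizer G b : Subgroup G))) [Fintype G] {p q : Ω} (hpq : p ≠ q) :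
    (Finset.univ.filter fun x : G => orderOf x = 2 ∧ x • p = q).card =
      Nat.card (stabilizer G a ⊓ stabilizer G b : Subgroup G) := by
  rw [← zass_card_swaps hZ hab hpq, Nat.card_eq_fintype_card, Fintype.card_subtype]
  congr 1
  ext x
  simp only [Finset.mem_filter, Finset.mem_univ, true_and]
  constructor
  · rintro ⟨hx, hxp⟩
    have hx2 : x ^ 2 = 1 := by rw [← hx]; exact pow_orderOf_eq_one x
    refine ⟨hxp, ?_⟩
    rw [← hxp, swap_of_sq hx2]
  · rintro ⟨h1, h2⟩
    exact ⟨zass_swap_orderOf hZ hpq (zass_odd_any hZ hab hodd hpq) h1 h2, h1⟩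

open Classical in
/-- The number of involutions moving a given point. -/
theorem zass_card_invol_moving (hZ : Cfsg.IsZassenhausGroup G Ω) {a b : Ω} (hab : a ≠ b) [IsSimpleGroup G]
    (hodd : Odd (Nat.card (stabilizer G a ⊓ stabilizer G b : Subgroup G))) [Fintype G] (p : Ω) :
    (Finset.univ.filter fun x : G => orderOf x = 2 ∧ x • p ≠ p).card =
      (Fintype.card Ω - 1) * Nat.card (stabilizer G a ⊓ stabilizer G b : Subgroup G) := by
  have h1 : (Finset.univ.filter fun x : G => orderOf x = 2 ∧ x • p ≠ p).card =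
      ∑ q ∈ Finset.univ.erase p,
        ((Finset.univ.filter fun x : G => orderOf x = 2 ∧ x • p ≠ p).filter fun x => x • p = q).card := by
    apply Finset.card_eq_sum_card_fiberwise
    intro x hx
    have hx' : x ∈ Finset.univ.filter fun x : G => orderOf x = 2 ∧ x • p ≠ p := hx
    simp only [Finset.mem_filter, Finset.mem_univ, true_and] at hx'
    simp [hx'.2]
  rw [h1]
  have h2 : ∀ q ∈ Finset.univ.erase p,
      ((Finset.univ.filter fun x : G => orderOf x = 2 ∧ x • p ≠ p).filter fun x => x • p = q).card =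
        Nat.card (stabilizer G a ⊓ stabilizer G b : Subgroup G) := by
    intro q hq
    have hpq : p ≠ q := (Finset.ne_of_mem_erase hq).symm
    rw [← zass_card_invol_to hZ hab hodd hpq]
    congr 1
    ext x
    simp only [Finset.mem_filter, Finset.mem_univ, true_and]
    constructor
    · rintro ⟨⟨h3, -⟩, h4⟩
      exact ⟨h3, h4⟩
    · rintro ⟨h3, h4⟩
      exact ⟨⟨h3, by rw [h4]; exact hpq.symm⟩, h4⟩
  rw [Finset.sum_congr rfl h2, Finset.sum_const, smul_eq_mul, Finset.card_erase_of_mem (Finset.mem_univ _),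
    Finset.card_univ]

/-- Parity of the number of fixed points of an involution. -/
theorem zass_fix_parity {x : G} (hx : x ^ 2 = 1) :
    fixN G Ω x ≡ Fintype.card Ω [MOD 2] := by
  classical
  haveI : Fact (Nat.Prime 2) := ⟨Nat.prime_two⟩
  let f : Function.End Ω := fun c => x • c
  have hf : f ^ 2 ^ 1 = 1 := by
    apply funext
    intro c
    exact swap_of_sq hx
  have h1 := Equiv.Perm.card_fixedPoints_modEq hf
  have h2 : Fintype.card (Function.fixedPoints f) = fixN G Ω x := by
    rw [Fintype.card_subtype]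
    simp only [fixN]
    congr 1
  rw [h2] at h1
  exact h1.symm

theorem fixN_le_one_of_invol (hZ : Cfsg.IsZassenhausGroup G Ω) {a b : Ω} (hab : a ≠ b)
    (hodd : Odd (Nat.card (stabilizer G a ⊓ stabilizer G b : Subgroup G))) {x : G}
    (hx : orderOf x = 2) : fixN G Ω x ≤ 1 := by
  classical
  simp only [fixN]
  rw [Finset.card_le_one]
  intro p hp q hq
  simp only [Finset.mem_filter, Finset.mem_univ, true_and] at hp hq
  exact zass_invol_fix_unique hZ hab hodd hx hp hq

theorem fixN_of_invol_odd (hZ : Cfsg.IsZassenhausGroup G Ω) {a b : Ω} (hab : a ≠ b)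
    (hodd : Odd (Nat.card (stabilizer G a ⊓ stabilizer G b : Subgroup G))) {x : G}
    (hx : orderOf x = 2) (hn : Odd (Fintype.card Ω)) : fixN G Ω x = 1 := by
  have h1 := fixN_le_one_of_invol hZ hab hodd hx
  have h2 := zass_fix_parity (Ω := Ω) (x := x) (by rw [← hx]; exact pow_orderOf_eq_one x)
  have h3 := Nat.odd_iff.mp hn
  rw [Nat.ModEq, h3] at h2
  omega

theorem fixN_of_invol_even (hZ : Cfsg.IsZassenhausGroup G Ω) {a b : Ω} (hab : a ≠ b)
    (hodd : Odd (Nat.card (stabilizer G a ⊓ stabilizer G b : Subgroup G))) {x : G}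
    (hx : orderOf x = 2) (hn : Even (Fintype.card Ω)) : fixN G Ω x = 0 := by
  have h1 := fixN_le_one_of_invol hZ hab hodd hx
  have h2 := zass_fix_parity (Ω := Ω) (x := x) (by rw [← hx]; exact pow_orderOf_eq_one x)
  have h3 := Nat.even_iff.mp hn
  rw [Nat.ModEq, h3] at h2
  omega

open Classical in
/-- Double counting of moved points of involutions. -/
theorem zass_invol_sum (hZ : Cfsg.IsZassenhausGroup G Ω) {a b : Ω} (hab : a ≠ b) [IsSimpleGroup G]
    (hodd : Odd (Nat.card (stabilizer G a ⊓ stabilizer G b : Subgroup G))) [Fintype G] :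
    ∑ x ∈ Finset.univ.filter (fun x : G => orderOf x = 2), (Fintype.card Ω - fixN G Ω x) =
      Fintype.card Ω * ((Fintype.card Ω - 1) *
        Nat.card (stabilizer G a ⊓ stabilizer G b : Subgroup G)) := by
  have h1 : ∀ x : G, Fintype.card Ω - fixN G Ω x = (Finset.univ.filter fun p : Ω => x • p ≠ p).card := by
    intro x
    have h2 : (Finset.univ.filter fun p : Ω => x • p = p).card +
        (Finset.univ.filter fun p : Ω => ¬ x • p = p).card = Fintype.card Ω := by
      rw [Finset.card_filter_add_card_filter_not, Finset.card_univ]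
    simp only [fixN]
    simp only [ne_eq]
    omega
  simp only [h1]
  have h3 := Finset.sum_card_bipartiteAbove_eq_sum_card_bipartiteBelow
    (s := Finset.univ.filter (fun x : G => orderOf x = 2)) (t := (Finset.univ : Finset Ω))
    (fun x p => x • p ≠ p)
  simp only [Finset.bipartiteAbove, Finset.bipartiteBelow] at h3
  rw [h3]
  have h4 : ∀ p ∈ (Finset.univ : Finset Ω), ((Finset.univ.filter (fun x : G => orderOf x = 2)).filter
      fun x => x • p ≠ p).card = (Fintype.card Ω - 1) *
        Nat.card (stabilizer G a ⊓ stabilizer G b : Subgroup G) := by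
    intro p _
    rw [← zass_card_invol_moving hZ hab hodd p, Finset.filter_filter]
  rw [Finset.sum_congr rfl h4, Finset.sum_const, Finset.card_univ, smul_eq_mul]

/-- Number of involutions, degree odd. -/
theorem zass_card_invol_odd (hZ : Cfsg.IsZassenhausGroup G Ω) {a b : Ω} (hab : a ≠ b) [IsSimpleGroup G]
    (hodd : Odd (Nat.card (stabilizer G a ⊓ stabilizer G b : Subgroup G)))
    (hn : Odd (Fintype.card Ω)) :
    Nat.card {x : G // orderOf x = 2} =
      Fintype.card Ω * Nat.card (stabilizer G a ⊓ stabilizer G b : Subgroup G) := by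
  classical
  haveI := Fintype.ofFinite G
  have h1 := zass_invol_sum hZ hab hodd
  have h2 : ∀ x ∈ Finset.univ.filter (fun x : G => orderOf x = 2),
      Fintype.card Ω - fixN G Ω x = Fintype.card Ω - 1 := by
    intro x hx
    simp only [Finset.mem_filter, Finset.mem_univ, true_and] at hx
    rw [fixN_of_invol_odd hZ hab hodd hx hn]
  rw [Finset.sum_congr rfl h2, Finset.sum_const, smul_eq_mul] at h1
  rw [Nat.card_eq_fintype_card, Fintype.card_subtype]
  haveI : Nontrivial Ω := ⟨a, b, hab⟩
  have hnn : 2 ≤ Fintype.card Ω := zass_two_le_card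
  have h3 : 0 < Fintype.card Ω - 1 := by omega
  apply Nat.eq_of_mul_eq_mul_right h3
  rw [h1]
  ring

/-- Number of involutions, degree even. -/
theorem zass_card_invol_even (hZ : Cfsg.IsZassenhausGroup G Ω) {a b : Ω} (hab : a ≠ b) [IsSimpleGroup G]
    (hodd : Odd (Nat.card (stabilizer G a ⊓ stabilizer G b : Subgroup G)))
    (hn : Even (Fintype.card Ω)) :
    Nat.card {x : G // orderOf x = 2} =
      (Fintype.card Ω - 1) * Nat.card (stabilizer G a ⊓ stabilizer G b : Subgroup G) := by
  classical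
  haveI := Fintype.ofFinite G
  have h1 := zass_invol_sum hZ hab hodd
  have h2 : ∀ x ∈ Finset.univ.filter (fun x : G => orderOf x = 2),
      Fintype.card Ω - fixN G Ω x = Fintype.card Ω := by
    intro x hx
    simp only [Finset.mem_filter, Finset.mem_univ, true_and] at hx
    rw [fixN_of_invol_even hZ hab hodd hx hn, Nat.sub_zero]
  rw [Finset.sum_congr rfl h2, Finset.sum_const, smul_eq_mul] at h1
  rw [Nat.card_eq_fintype_card, Fintype.card_subtype]
  haveI : Nontrivial Ω := ⟨a, b, hab⟩
  have hnn : 2 ≤ Fintype.card Ω := zass_two_le_card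
  have h3 : 0 < Fintype.card Ω := by omega
  apply Nat.eq_of_mul_eq_mul_right h3
  rw [h1]
  ring

end Cfsg.Agent.Lib.Char
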