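import Cfsg.Agent.Lib.Char.ZassInvol
import Cfsg.Agent.Lib.Hall.CoprimeSylow

/-!
# Involutions of a point stabilizer in a simple Zassenhaus group.
-/

set_option autoImplicit false
set_option linter.unusedSectionVars false
set_option linter.unusedVariables false
set_option linter.style.haveILetI false
set_option linter.unusedSimpArgs false
set_option linter.unnecessarySimpa false

open MulAction

namespace Cfsg.Agent.Lib.Char

universe u v

variable {G : Type u} {Ω : Type v} [Group G] [MulAction G Ω] [Finite G] [Fintype Ω] {a' : Ω}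

theorem orderOf_conj_eq_aux (t a : G) : orderOf (t * a * t⁻¹) = orderOf a := by
  have := MulEquiv.orderOf_eq (MulAut.conj t) a
  simpa [MulAut.conj_apply] using this

/-- An involution fixing `a` lies in the kernel. -/
theorem zass_invol_mem_kernel (hZ : Cfsg.IsZassenhausGroup G Ω) {a b : Ω} (hab : a ≠ b)
    (hodd : Odd (Nat.card (stabilizer G a ⊓ stabilizer G b : Subgroup G)))
    (H : Subgroup G) (hHa : H ≤ stabilizer G a) (hHcard : Nat.card H + 1 = Fintype.card Ω)
    (hHfix : ∀ u ∈ H, u ≠ 1 → ∀ c : Ω, u • c = c → c = a) {x : G} (hx : orderOf x = 2)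
    (hxa : x • a = a) : x ∈ H := by
  rw [zass_kernel_mem_iff hZ hab H hHa hHcard hHfix]
  refine ⟨hxa, Or.inr fun c hc hxc => hc ?_⟩
  exact zass_invol_fix_unique hZ hab hodd hx hxc hxa

/-- The degree is odd if an involution fixes a point. -/
theorem zass_odd_of_invol_fix (hZ : Cfsg.IsZassenhausGroup G Ω) {a b : Ω} (hab : a ≠ b)
    (hodd : Odd (Nat.card (stabilizer G a ⊓ stabilizer G b : Subgroup G))) {x : G}
    (hx : orderOf x = 2) (hxa : x • a = a) : Odd (Fintype.card Ω) := by
  classical
  by_contra hn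
  rw [Nat.not_odd_iff_even] at hn
  have h1 := fixN_of_invol_even hZ hab hodd hx hn
  simp only [fixN] at h1
  rw [Finset.card_eq_zero, Finset.filter_eq_empty_iff] at h1
  exact h1 (Finset.mem_univ a) hxa

open Classical in
/-- For odd degree, exactly `e` involutions fix a given point. -/
theorem zass_card_invol_fix (hZ : Cfsg.IsZassenhausGroup G Ω) {a b : Ω} (hab : a ≠ b) [IsSimpleGroup G]
    (hodd : Odd (Nat.card (stabilizer G a ⊓ stabilizer G b : Subgroup G)))
    (hn : Odd (Fintype.card Ω)) [Fintype G] :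
    (Finset.univ.filter fun x : G => orderOf x = 2 ∧ x • a = a).card =
      Nat.card (stabilizer G a ⊓ stabilizer G b : Subgroup G) := by
  have hI := zass_card_invol_odd hZ hab hodd hn
  rw [Nat.card_eq_fintype_card, Fintype.card_subtype] at hI
  -- double counting of fixed points
  have h1 : ∑ x ∈ Finset.univ.filter (fun x : G => orderOf x = 2), fixN G Ω x =
      (Finset.univ.filter (fun x : G => orderOf x = 2)).card := by
    rw [Finset.card_eq_sum_ones]
    refine Finset.sum_congr rfl fun x hx => ?_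
    simp only [Finset.mem_filter, Finset.mem_univ, true_and] at hx
    exact fixN_of_invol_odd hZ hab hodd hx hn
  have h3 := Finset.sum_card_bipartiteAbove_eq_sum_card_bipartiteBelow
    (s := Finset.univ.filter (fun x : G => orderOf x = 2)) (t := (Finset.univ : Finset Ω))
    (fun x p => x • p = p)
  simp only [Finset.bipartiteAbove, Finset.bipartiteBelow] at h3
  have h4 : ∀ p ∈ (Finset.univ : Finset Ω), ((Finset.univ.filter (fun x : G => orderOf x = 2)).filter
      fun x => x • p = p).card = (Finset.univ.filter fun x : G => orderOf x = 2 ∧ x • a = a).card := by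
    intro p _
    obtain ⟨g, hg⟩ : ∃ g : G, g • a = p := by
      by_cases hap : a = p
      · exact ⟨1, by simp [hap]⟩
      · obtain ⟨g, hg, -⟩ := zass_two_trans hZ a p p a hap (Ne.symm hap)
        exact ⟨g, hg⟩
    rw [Finset.filter_filter]
    refine Finset.card_bij (fun x _ => g⁻¹ * x * g) ?_ ?_ ?_
    · intro x hx
      simp only [Finset.mem_filter, Finset.mem_univ, true_and] at hx ⊢
      refine ⟨?_, ?_⟩
      · have := orderOf_conj_eq_aux g⁻¹ x
        rw [inv_inv] at this
        rw [this]
        exact hx.1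
      · rw [mul_smul, mul_smul, hg, hx.2, ← hg, inv_smul_smul]
    · intro x _ y _ h
      simpa using h
    · intro y hy
      simp only [Finset.mem_filter, Finset.mem_univ, true_and] at hy
      refine ⟨g * y * g⁻¹, ?_, by group⟩
      simp only [Finset.mem_filter, Finset.mem_univ, true_and]
      refine ⟨?_, ?_⟩
      · have := orderOf_conj_eq_aux g y
        rw [this]
        exact hy.1
      · rw [mul_smul, mul_smul, ← hg, inv_smul_smul, hy.2]
  have h5 : ∑ x ∈ Finset.univ.filter (fun x : G => orderOf x = 2), fixN G Ω x =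
      ∑ x ∈ Finset.univ.filter (fun x : G => orderOf x = 2), (Finset.univ.filter fun p : Ω => x • p = p).card := rfl
  rw [h5, h3, Finset.sum_congr rfl h4, Finset.sum_const, Finset.card_univ, smul_eq_mul, hI] at h1
  exact Nat.eq_of_mul_eq_mul_left hn.pos h1

/-- Two involutions fixing `a` commute. -/
theorem zass_invol_commute (hZ : Cfsg.IsZassenhausGroup G Ω) {a b : Ω} (hab : a ≠ b) [IsSimpleGroup G]
    (hodd : Odd (Nat.card (stabilizer G a ⊓ stabilizer G b : Subgroup G))) {x y : G}
    (hx : orderOf x = 2) (hy : orderOf y = 2) (hxa : x • a = a) (hya : y • a = a) : x * y = y * x := by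
  classical
  haveI := Fintype.ofFinite G
  have hn := zass_odd_of_invol_fix hZ hab hodd hx hxa
  obtain ⟨H, hHa, hHcard, hHfix⟩ := zass_exists_kernel hZ hab
  have hcard := zass_card_invol_fix hZ hab hodd hn
  haveI hcyc := zass_isCyclic hZ hab hodd
  have hnorm : (stabilizer G a ⊓ stabilizer G b : Subgroup G) ≤ Subgroup.normalizer (H : Set G) := by
    intro w hw
    rw [Subgroup.mem_normalizer_iff]
    intro u
    have hxa : w • a = a := hw.1
    have hxa' : w⁻¹ • a = a := by rw [inv_smul_eq_iff, hxa]
    constructor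
    · intro hu
      exact zass_kernel_conj_mem hZ hab H hHa hHcard hHfix hxa hu
    · intro hu
      have := zass_kernel_conj_mem hZ hab H hHa hHcard hHfix hxa' hu
      have h2 : w⁻¹ * (w * u * w⁻¹) * w⁻¹⁻¹ = u := by group
      rwa [h2] at this
  have hcop : (Nat.card (stabilizer G a ⊓ stabilizer G b : Subgroup G)).Coprime (Nat.card H) := by
    have h1 : Nat.card H = Fintype.card Ω - 1 := by omega
    rw [h1]
    exact zass_coprime hZ hab
  haveI : Fact (Nat.Prime 2) := ⟨Nat.prime_two⟩
  obtain ⟨P, hP⟩ := Cfsg.Agent.Lib.Hall.exists_invariant_sylow _ H hnorm hcop (Or.inl inferInstance) 2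
  let Q : Subgroup G := (P : Subgroup H).map H.subtype
  have hxH := zass_invol_mem_kernel hZ hab hodd H hHa hHcard hHfix hx hxa
  have hQp : IsPGroup 2 Q := (P.isPGroup').map H.subtype
  have hQcard : Nat.card Q = Nat.card P :=
    (Nat.card_congr ((P : Subgroup H).equivMapOfInjective H.subtype H.subtype_injective).toEquiv).symm
  have h2H : 2 ∣ Nat.card H := by
    rw [← hx, ← Subgroup.orderOf_mk x hxH]
    exact orderOf_dvd_natCard _
  haveI hQnt : Nontrivial Q := by
    apply (Finite.one_lt_card_iff_nontrivial).mp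
    have h1 : 2 ∣ Nat.card P := P.dvd_card_of_dvd_card h2H
    rw [hQcard]
    have h2 := Nat.le_of_dvd Nat.card_pos h1
    omega
  haveI hcnt : Nontrivial (Subgroup.center Q) := hQp.center_nontrivial
  have h2c : 2 ∣ Nat.card (Subgroup.center Q) := by
    have hcp : IsPGroup 2 (Subgroup.center Q) := hQp.to_subgroup _
    rcases hcp.card_eq_or_dvd with h | h
    · exfalso
      have := Finite.one_lt_card_iff_nontrivial.mpr hcnt
      omega
    · exact h
  obtain ⟨z₀, hz₀⟩ := exists_prime_orderOf_dvd_card' 2 h2c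
  let z : G := ((z₀ : Q) : G)
  have hz2 : orderOf z = 2 := by
    have h1 : orderOf z = orderOf (z₀ : Q) := Subgroup.orderOf_coe _
    have h2 : orderOf (z₀ : Q) = orderOf z₀ := Subgroup.orderOf_coe _
    rw [h1, h2, hz₀]
  have hzQ : z ∈ Q := (z₀ : Q).2
  have hzH : z ∈ H := by
    obtain ⟨w, -, hw⟩ := hzQ
    rw [← hw]
    exact w.2
  have hza : z • a = a := hHa hzH
  have hzcen : ∀ q ∈ Q, q * z = z * q := by
    intro q hq
    have h3 := (Subgroup.mem_center_iff.mp z₀.2) ⟨q, hq⟩
    exact congrArg Subtype.val h3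
  -- conjugates of `z` by `E` account for all involutions fixing `a`
  have hsurj : ∀ w : G, orderOf w = 2 → w • a = a →
      ∃ v ∈ (stabilizer G a ⊓ stabilizer G b : Subgroup G), v * z * v⁻¹ = w := by
    let f : (stabilizer G a ⊓ stabilizer G b : Subgroup G) → G := fun v => (v : G) * z * (v : G)⁻¹
    have hfinj : Function.Injective f := by
      intro v v' hvv
      by_contra hne
      have hv1 : (v' : G)⁻¹ * v ≠ 1 := by
        intro h
        apply hne
        apply Subtype.ext
        exact (inv_mul_eq_one.mp h).symm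
      have hvmem : (v' : G)⁻¹ * v ∈ (stabilizer G a ⊓ stabilizer G b : Subgroup G) :=
        Subgroup.mul_mem _ (Subgroup.inv_mem _ v'.2) v.2
      have hcomm : ((v' : G)⁻¹ * v) * z = z * ((v' : G)⁻¹ * v) := by
        have h3 : (v : G) * z * (v : G)⁻¹ = (v' : G) * z * (v' : G)⁻¹ := hvv
        calc ((v' : G)⁻¹ * v) * z = (v' : G)⁻¹ * ((v : G) * z * (v : G)⁻¹) * v := by group
          _ = (v' : G)⁻¹ * ((v' : G) * z * (v' : G)⁻¹) * v := by rw [h3]
          _ = z * ((v' : G)⁻¹ * v) := by group
      have hzb : z • b ≠ b := fun h => hab (zass_invol_fix_unique hZ hab hodd hz2 hza h)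
      have hzba : z • b ≠ a := by
        intro h
        exact hab (smul_left_cancel z (hza.trans h.symm))
      have hfix : ((v' : G)⁻¹ * v) • (z • b) = z • b := by
        rw [← mul_smul, hcomm, mul_smul, (hvmem.2 : ((v' : G)⁻¹ * v) • b = b)]
      exact hv1 (zass_eq_one hZ hab (Ne.symm hzb) (Ne.symm hzba) hvmem.1 hvmem.2 hfix)
    have himg : (Finset.univ.image f) = Finset.univ.filter fun x : G => orderOf x = 2 ∧ x • a = a := by
      apply Finset.eq_of_subset_of_card_le
      · intro w hw
        obtain ⟨v, -, rfl⟩ := Finset.mem_image.mp hw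
        simp only [Finset.mem_filter, Finset.mem_univ, true_and]
        have hva : (v : G) • a = a := v.2.1
        refine ⟨?_, ?_⟩
        · have := orderOf_conj_eq_aux (v : G) z
          simp only [f]
          rw [this]
          exact hz2
        · simp only [f]
          rw [mul_smul, mul_smul, inv_smul_eq_iff.mpr hva.symm, hza, hva]
      · rw [hcard, Finset.card_image_of_injective _ hfinj, Finset.card_univ, Nat.card_eq_fintype_card]
    intro w hw hwa
    have hmem : w ∈ Finset.univ.image f := by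
      rw [himg]
      simp [hw, hwa]
    obtain ⟨v, -, hv⟩ := Finset.mem_image.mp hmem
    exact ⟨v, v.2, hv⟩
  obtain ⟨v, hv, hvx⟩ := hsurj x hx hxa
  obtain ⟨v', hv', hvy⟩ := hsurj y hy hya
  have hxQ : x ∈ Q := by
    rw [← hvx]
    exact (Subgroup.mem_normalizer_iff.mp (hP hv) z).mp hzQ
  -- `y` is central in `Q`
  have hv'Q : (v' : G)⁻¹ * x * v' ∈ Q := by
    have h3 : (v' : G)⁻¹ * x * (v' : G)⁻¹⁻¹ ∈ Q := (Subgroup.mem_normalizer_iff.mp (hP (Subgroup.inv_mem _ hv')) x).mp hxQ
    rwa [inv_inv] at h3
  have h3 := hzcen _ hv'Q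
  rw [← hvy]
  calc x * (v' * z * v'⁻¹) = v' * (((v' : G)⁻¹ * x * v') * z) * v'⁻¹ := by group
    _ = v' * (z * ((v' : G)⁻¹ * x * v')) * v'⁻¹ := by rw [h3]
    _ = (v' * z * v'⁻¹) * x := by group

/-- If a non-trivial element of the kernel is a product of two involutions, these fix the point. -/
theorem zass_product_fix (H : Subgroup G) (hHa : H ≤ stabilizer G a')
    (hHfix : ∀ u ∈ H, u ≠ 1 → ∀ c : Ω, u • c = c → c = a') {u x y : G} (hu : u ∈ H) (hu1 : u ≠ 1)
    (hx : orderOf x = 2) (hy : orderOf y = 2) (hxy : x * y = u) : x • a' = a' ∧ y • a' = a' := by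
  have hx2 : x ^ 2 = 1 := by rw [← hx]; exact pow_orderOf_eq_one x
  have hy2 : y ^ 2 = 1 := by rw [← hy]; exact pow_orderOf_eq_one y
  have hua : u • a' = a' := hHa hu
  have hc : x • a' = y • a' := by
    have h1 : x • (y • a') = a' := by rw [← mul_smul, hxy, hua]
    have h2 := congrArg (x • ·) h1
    rw [swap_of_sq hx2] at h2
    exact h2.symm
  have hxa : x • a' = a' := by
    by_contra hne
    have hfix : u • (x • a') = x • a' := by
      rw [← hxy, mul_smul, hc, swap_of_sq hy2]
      exact hc
    exact hne (hHfix u hu hu1 _ hfix)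
  exact ⟨hxa, by rw [← hc, hxa]⟩

/-- A product of two involutions in the kernel is an involution. -/
theorem zass_product_invol (hZ : Cfsg.IsZassenhausGroup G Ω) {a b : Ω} (hab : a ≠ b) [IsSimpleGroup G]
    (hodd : Odd (Nat.card (stabilizer G a ⊓ stabilizer G b : Subgroup G)))
    (H : Subgroup G) (hHa : H ≤ stabilizer G a)
    (hHfix : ∀ u ∈ H, u ≠ 1 → ∀ c : Ω, u • c = c → c = a) {u x y : G} (hu : u ∈ H) (hu1 : u ≠ 1)
    (hx : orderOf x = 2) (hy : orderOf y = 2) (hxy : x * y = u) : orderOf u = 2 := by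
  have hx2 : x ^ 2 = 1 := by rw [← hx]; exact pow_orderOf_eq_one x
  have hy2 : y ^ 2 = 1 := by rw [← hy]; exact pow_orderOf_eq_one y
  obtain ⟨hxa, hya⟩ := zass_product_fix H hHa hHfix hu hu1 hx hy hxy
  have hcomm := zass_invol_commute hZ hab hodd hx hy hxa hya
  apply orderOf_eq_prime _ hu1
  rw [← hxy, sq]
  calc x * y * (x * y) = x * (y * x) * y := by group
    _ = x * (x * y) * y := by rw [hcomm]
    _ = x ^ 2 * y ^ 2 := by rw [sq, sq]; group
    _ = 1 := by rw [hx2, hy2, one_mul]

end Cfsg.Agent.Lib.Char
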